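import Cfsg.Agent.Fus.CentralConj
import Cfsg.Agent.Fus.Grp

/-!
The Camina–Herzog theorem: if every 2-element of a finite group centralizes a Sylow 2-subgroup then the
Sylow 2-subgroups are abelian.
-/

set_option autoImplicit false

namespace Cfsg
namespace Agent
namespace Fus

open Cfsg.FusionSystem

variable {G : Type*} [Group G]

theorem mem_sylow_of_le_centralizer {p : ℕ} [Fact p.Prime] (Q : Sylow p G) {x : G}
    (hx : IsPGroup p (Subgroup.zpowers x)) (hQ : (Q : Subgroup G) ≤ Subgroup.centralizer ({x} : Set G)) :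
    x ∈ Q := by
  have h1 : (Q : Subgroup G) ≤ Subgroup.normalizer ((Subgroup.zpowers x : Subgroup G) : Set G) := by
    intro q hq
    have h2 : x * q = q * x := Subgroup.mem_centralizer_iff.1 (hQ hq) x rfl
    have h3 : q ∈ Subgroup.centralizer ((Subgroup.zpowers x : Subgroup G) : Set G) := by
      rw [Subgroup.mem_centralizer_iff]
      rintro _ ⟨n, rfl⟩
      exact ((Commute.zpow_left (show Commute x q from h2) n)).eq
    exact Subgroup.centralizer_le_normalizer _ h3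
  have h4 : IsPGroup p ((Q : Subgroup G) ⊔ Subgroup.zpowers x : Subgroup G) :=
    IsPGroup.to_sup_of_normal_right' Q.2 hx h1
  have h5 := Q.is_maximal' h4 le_sup_left
  have h6 : x ∈ ((Q : Subgroup G) ⊔ Subgroup.zpowers x : Subgroup G) :=
    (le_sup_right : Subgroup.zpowers x ≤ _) (Subgroup.mem_zpowers x)
  rw [h5] at h6
  exact h6

theorem sylow_two_comm [Finite G] (P : Sylow 2 G)
    (h : ∀ x : G, (∃ k : ℕ, orderOf x = 2 ^ k) →
      ∃ Q : Sylow 2 G, (Q : Subgroup G) ≤ Subgroup.centralizer ({x} : Set G)) :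
    ∀ x ∈ P, ∀ y ∈ P, x * y = y * x := by
  have : Fact (Nat.Prime 2) := ⟨Nat.prime_two⟩
  refine (groupFusionSystem (P : Subgroup G)).comm_of_conj_central P.2
    (isSaturated_groupFusionSystem P) ?_
  intro x hx
  have hxP : IsPGroup 2 (Subgroup.zpowers x) := P.2.to_le (Subgroup.zpowers_le.2 hx)
  have hord : ∃ k : ℕ, orderOf x = 2 ^ k := by
    obtain ⟨k, hk⟩ := P.2 ⟨x, hx⟩
    have hk' : x ^ 2 ^ k = 1 := congrArg (fun w : (P : Subgroup G) => (w : G)) hk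
    obtain ⟨j, -, hj⟩ := (Nat.dvd_prime_pow Nat.prime_two).1 (orderOf_dvd_of_pow_eq_one hk')
    exact ⟨j, hj⟩
  obtain ⟨Q, hQ⟩ := h x hord
  have hxQ : x ∈ Q := mem_sylow_of_le_centralizer Q hxP hQ
  obtain ⟨g, hg⟩ := MulAction.exists_smul_eq G Q P
  have hconj : ∀ q ∈ Q, g * q * g⁻¹ ∈ (P : Subgroup G) := by
    intro q hq
    rw [← hg, Sylow.coe_subgroup_smul]
    exact ⟨q, hq, rfl⟩
  have hconj' : ∀ y ∈ (P : Subgroup G), ∃ q ∈ Q, y = g * q * g⁻¹ := by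
    intro y hy
    rw [← hg, Sylow.coe_subgroup_smul] at hy
    obtain ⟨q, hq, rfl⟩ := hy
    exact ⟨q, hq, rfl⟩
  refine ⟨g * x * g⁻¹, mem_centralizerIn.2 ⟨hconj x hxQ, ?_⟩, conjHom _ g, ?_, rfl⟩
  · intro y hy
    obtain ⟨q, hq, rfl⟩ := hconj' y hy
    have h2 : x * q = q * x := Subgroup.mem_centralizer_iff.1 (hQ hq) x rfl
    calc g * q * g⁻¹ * (g * x * g⁻¹) = g * (q * x) * g⁻¹ := by group
      _ = g * (x * q) * g⁻¹ := by rw [h2]
      _ = g * x * g⁻¹ * (g * q * g⁻¹) := by group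
  · refine ⟨Subgroup.zpowers_le.2 hx, fun y => ?_, g, fun y => rfl⟩
    exact hconj y (Subgroup.zpowers_le.2 hxQ y.2)

theorem exists_sylow_le_of_not_dvd_index [Finite G] {p : ℕ} [Fact p.Prime] (C : Subgroup G)
    (hC : ¬ p ∣ C.index) : ∃ Q : Sylow p G, (Q : Subgroup G) ≤ C := by
  obtain ⟨P⟩ : Nonempty (Sylow p G) := inferInstance
  have h1 : ¬ p ∣ Nat.card (G ⧸ C) := hC
  obtain ⟨a, ha⟩ := P.2.nonempty_fixed_point_of_prime_not_dvd_card (G ⧸ C) h1
  obtain ⟨g, rfl⟩ := QuotientGroup.mk_surjective a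
  refine ⟨g⁻¹ • P, ?_⟩
  intro y hy
  rw [Sylow.coe_subgroup_smul] at hy
  obtain ⟨q, hq, rfl⟩ := hy
  have h2 := ha ⟨q, hq⟩
  have h3 : ((q * g : G) : G ⧸ C) = (g : G ⧸ C) := h2
  rw [QuotientGroup.eq] at h3
  have h4 : (q * g)⁻¹ * g = g⁻¹ * q⁻¹ * g := by group
  rw [h4] at h3
  have h5 := C.inv_mem h3
  have h6 : (g⁻¹ * q⁻¹ * g)⁻¹ = g⁻¹ * q * g⁻¹⁻¹ := by group
  rw [h6] at h5
  exact h5

end Fus
end Agent
end Cfsg
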