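import Cfsg.Agent.Fus.GenExtraGrp2

/-!
Group-theoretic lemmas on `p`-groups whose centre has index `p ^ 2`.
-/

set_option autoImplicit false
namespace Cfsg.Agent.Fus

open Subgroup

theorem card_of_lt_of_lt {X : Type*} [Group X] {p : ℕ} (hp : p.Prime) {H E K : Subgroup X} [Finite K]
    (h1 : H < E) (h2 : E < K) (hc : Nat.card K = p ^ 2 * Nat.card H) :
    Nat.card E = p * Nat.card H ∧ Nat.card K = p * Nat.card E := by
  have hfE : Finite E := Finite.of_injective (Subgroup.inclusion h2.le) (inclusion_injective _)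
  have hfH : Finite H := Finite.of_injective (Subgroup.inclusion h1.le) (inclusion_injective _)
  obtain ⟨a, ha⟩ := Subgroup.card_dvd_of_le h1.le
  obtain ⟨b, hb⟩ := Subgroup.card_dvd_of_le h2.le
  have hH0 : 0 < Nat.card H := Nat.card_pos
  have ha1 : a ≠ 1 := by
    rintro rfl
    exact h1.ne (Subgroup.eq_of_le_of_card_ge h1.le (by rw [ha, mul_one]))
  have hb1 : b ≠ 1 := by
    rintro rfl
    exact h2.ne (Subgroup.eq_of_le_of_card_ge h2.le (by rw [hb, mul_one]))
  have hab : a * b = p ^ 2 := by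
    have h3 : Nat.card H * (a * b) = Nat.card H * p ^ 2 := by
      rw [← mul_assoc, ← ha, ← hb, hc, mul_comm]
    exact Nat.eq_of_mul_eq_mul_left hH0 h3
  obtain ⟨i, hi, rfl⟩ := (Nat.dvd_prime_pow hp).1 (Dvd.intro _ hab)
  have hi1 : i = 1 := by
    interval_cases i
    · exact absurd (pow_zero p) ha1
    · rfl
    · exfalso
      apply hb1
      have h4 : p ^ 2 * b = p ^ 2 * 1 := by rw [hab, mul_one]
      exact Nat.eq_of_mul_eq_mul_left (pow_pos hp.pos 2) h4
  subst hi1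
  rw [pow_one] at ha hab
  have hbp : b = p := by
    have h4 : p * b = p * p := by rw [hab, pow_two]
    exact Nat.eq_of_mul_eq_mul_left hp.pos h4
  subst hbp
  exact ⟨by rw [ha, mul_comm], by rw [hb, mul_comm]⟩

theorem exists_zpow_mul_of_card {X : Type*} [Group X] {p : ℕ} [Fact p.Prime] {H K : Subgroup X} [Finite K]
    (hHK : H ≤ K) (hn : ∀ k ∈ K, ∀ h ∈ H, k * h * k⁻¹ ∈ H) (hcard : Nat.card K = p * Nat.card H) {x : X}
    (hx : x ∈ K) (hxH : x ∉ H) :
    (∀ g ∈ K, ∃ i : ℤ, ∃ h ∈ H, g = x ^ i * h) ∧ ∀ g ∈ K, g ^ p ∈ H := by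
  have hN : (H.subgroupOf K).Normal := ⟨fun h hh k => by
    rw [mem_subgroupOf] at hh ⊢
    exact hn k k.2 h hh⟩
  have hfH : Finite H := Finite.of_injective (Subgroup.inclusion hHK) (inclusion_injective _)
  have hH0 : 0 < Nat.card H := Nat.card_pos
  have hq : Nat.card (K ⧸ H.subgroupOf K) = p := by
    have h1 := Subgroup.card_eq_card_quotient_mul_card_subgroup (H.subgroupOf K)
    rw [Nat.card_congr (Subgroup.subgroupOfEquivOfLe hHK).toEquiv, hcard] at h1
    exact (Nat.eq_of_mul_eq_mul_right hH0 h1).symm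
  have hx1 : (QuotientGroup.mk ⟨x, hx⟩ : K ⧸ H.subgroupOf K) ≠ 1 := by
    intro h
    rw [QuotientGroup.eq_one_iff, mem_subgroupOf] at h
    exact hxH h
  constructor
  · intro g hg
    obtain ⟨i, hi⟩ := mem_zpowers_iff.1
      (mem_zpowers_of_prime_card hq hx1 (g' := (QuotientGroup.mk ⟨g, hg⟩ : K ⧸ H.subgroupOf K)))
    have h2 : (QuotientGroup.mk ((⟨x, hx⟩ : K) ^ i) : K ⧸ H.subgroupOf K) = QuotientGroup.mk ⟨g, hg⟩ := hi
    rw [QuotientGroup.eq, mem_subgroupOf] at h2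
    refine ⟨i, _, h2, ?_⟩
    simp
  · intro g hg
    have h1 : (QuotientGroup.mk ⟨g, hg⟩ : K ⧸ H.subgroupOf K) ^ Nat.card (K ⧸ H.subgroupOf K) = 1 :=
      pow_card_eq_one'
    rw [hq, ← QuotientGroup.mk_pow, QuotientGroup.eq_one_iff, mem_subgroupOf] at h1
    exact h1

theorem exists_comm_gen {G : Type*} [Group G] [Finite G] {p : ℕ} [Fact p.Prime]
    (hidx : (center G).index = p ^ 2) :
    ∃ z ∈ center G, z ≠ 1 ∧ z ^ p = 1 ∧ (∀ a b : G, a * b * a⁻¹ * b⁻¹ ∈ zpowers z) ∧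
      ∃ a b : G, z = a * b * a⁻¹ * b⁻¹ := by
  have hp : p.Prime := Fact.out
  have hQ : Nat.card (G ⧸ center G) = p ^ 2 := by rw [← Subgroup.index_eq_card]; exact hidx
  have hcomm : ∀ a b : G, a * b * a⁻¹ * b⁻¹ ∈ center G := by
    intro a b
    rw [← QuotientGroup.eq_one_iff]
    simp only [QuotientGroup.mk_mul, QuotientGroup.mk_inv]
    rw [IsPGroup.commutative_of_card_eq_prime_sq hQ (a : G ⧸ center G) b]
    group
  have hZc : ∀ c ∈ center G, ∀ g : G, g * c = c * g := fun c hc g => (mem_center_iff.1 hc g)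
  obtain ⟨t, ht⟩ : ∃ t, t ∉ center G := by
    by_contra hcon
    push Not at hcon
    have h1 : center G = ⊤ := eq_top_iff.2 fun x _ => hcon x
    rw [h1, index_top] at hidx
    exact (one_lt_pow₀ hp.one_lt (by norm_num)).ne hidx
  set E : Subgroup G := centralizer {t} with hE
  have hmemE : ∀ g, g ∈ E ↔ g * t = t * g := fun g => by
    rw [hE, mem_centralizer_singleton_iff]
  have hZE : center G < E := by
    refine lt_of_le_of_ne (center_le_centralizer _) ?_
    intro h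
    exact ht (h ▸ (hmemE t).2 rfl)
  have hEtop : E < ⊤ := by
    refine lt_of_le_of_ne le_top ?_
    intro h
    apply ht
    rw [mem_center_iff]
    intro g
    exact (hmemE g).1 (h ▸ mem_top g)
  have hcard : Nat.card (⊤ : Subgroup G) = p ^ 2 * Nat.card (center G) := by
    rw [Subgroup.card_top, ← hidx, mul_comm, Subgroup.card_mul_index]
  obtain ⟨hc1, hc2⟩ := card_of_lt_of_lt hp hZE hEtop hcard
  obtain ⟨x, hx⟩ : ∃ x, x ∉ E := by
    by_contra hcon
    push Not at hcon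
    exact hEtop.ne (eq_top_iff.2 fun x _ => hcon x)
  have hfE : Finite E := inferInstance
  obtain ⟨hd1, -⟩ := exists_zpow_mul_of_card hZE.le (fun k _ h hh => by
    rw [hZc h hh k, mul_inv_cancel_right]; exact hh) hc1 ((hmemE t).2 rfl) ht
  obtain ⟨hd2, hd2'⟩ := exists_zpow_mul_of_card hEtop.le (fun k _ h hh => by
    have h1 : k * h * k⁻¹ = (k * h * k⁻¹ * h⁻¹) * h := by group
    rw [h1]
    exact E.mul_mem (hZE.le (hcomm k h)) hh) hc2 (mem_top x) hx
  set θ := commHom (center G) hZc hcomm with hθ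
  set zz : center G := θ t x with hzz
  have hswap : ∀ a b : G, θ b a = (θ a b)⁻¹ := by
    intro a b
    apply Subtype.ext
    show a * b * a⁻¹ * b⁻¹ = (b * a * b⁻¹ * a⁻¹)⁻¹
    group
  have hθc : ∀ b c : G, c ∈ center G → θ b c = 1 := fun b c hc =>
    (commHom_eq_one_iff _ hZc hcomm b c).2 (hZc c hc b).symm
  have hself : ∀ b : G, θ b b = 1 := fun b => (commHom_eq_one_iff _ hZc hcomm b b).2 rfl
  have s1 : ∀ g, ∃ n : ℤ, θ t g = zz ^ n := by
    intro g
    obtain ⟨i, e, he, rfl⟩ := hd2 g (mem_top g)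
    refine ⟨i, ?_⟩
    rw [map_mul, map_zpow, (commHom_eq_one_iff _ hZc hcomm t e).2 ((hmemE e).1 he), mul_one]
  have s2 : ∀ g, ∃ n : ℤ, θ x g = zz ^ n := by
    intro g
    obtain ⟨i, e, he, rfl⟩ := hd2 g (mem_top g)
    obtain ⟨k, c, hc, rfl⟩ := hd1 e he
    refine ⟨-k, ?_⟩
    rw [map_mul, map_mul, map_zpow, map_zpow, hself, one_zpow, one_mul, hθc x c hc, mul_one, hswap t x,
      inv_zpow, zpow_neg]
  have s3 : ∀ a b, ∃ n : ℤ, θ b a = zz ^ n := by
    intro a b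
    obtain ⟨i, e, he, rfl⟩ := hd2 a (mem_top a)
    obtain ⟨k, c, hc, rfl⟩ := hd1 e he
    obtain ⟨n1, hn1⟩ := s1 b
    obtain ⟨n2, hn2⟩ := s2 b
    refine ⟨-(n2 * i) + -(n1 * k), ?_⟩
    rw [map_mul, map_mul, map_zpow, map_zpow, hθc b c hc, mul_one, hswap x b, hswap t b, hn1, hn2,
      zpow_add, zpow_neg, zpow_neg, zpow_mul, zpow_mul, inv_zpow, inv_zpow]
  refine ⟨zz, zz.2, ?_, ?_, ?_, ⟨x, t, rfl⟩⟩
  · intro h
    apply hx
    rw [hmemE]
    exact (commHom_eq_one_iff _ hZc hcomm t x).1 (Subtype.ext h)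
  · have h1 : zz ^ p = 1 := by
      rw [hzz, ← map_pow]
      exact (commHom_eq_one_iff _ hZc hcomm t _).2 ((hmemE _).1 (hd2' x (mem_top x)))
    exact congrArg Subtype.val h1
  · intro a b
    obtain ⟨n, hn⟩ := s3 a b
    refine mem_zpowers_iff.2 ⟨n, ?_⟩
    have := congrArg Subtype.val hn
    rw [Subgroup.coe_zpow] at this
    exact this.symm

end Cfsg.Agent.Fus
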