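import Cfsg.Agent.Fus.Essential
import Cfsg.Agent.Fus.Normal2
import Cfsg.Agent.Lib.Helper27.FusFrattini
import Cfsg.Agent.Lib.Helper13.SLRep

/-!
Essential subgroups of small order.
-/

set_option autoImplicit false

namespace Cfsg
namespace Agent
namespace Fus

open Cfsg.Agent.Lib.Helper13

/-- Two `p`-elements of the automorphism group of a plane not lying in a common cyclic group generate `SL(2,p)`. -/
theorem nonempty_mulEquiv_SL2_of_aut {W : Type*} [CommGroup W] [Finite W] {p : ℕ} [Fact p.Prime]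
    (hexp : ∀ w : W, w ^ p = 1) (hcard : Nat.card W = p ^ 2) (u₁ u₂ : MulAut W) {k : ℕ}
    (h₁ : u₁ ^ p ^ k = 1) (h₂ : u₂ ^ p ^ k = 1) (hne : u₁ ≠ 1) (hnot : u₂ ∉ Subgroup.zpowers u₁) :
    Nonempty (↥(Subgroup.zpowers u₁ ⊔ Subgroup.zpowers u₂) ≃* Matrix.SpecialLinearGroup (Fin 2) (ZMod p)) := by
  have hp : p.Prime := Fact.out
  obtain ⟨μ, hμ⟩ := exists_matrix_rep (Wt := W) (p := p) (n := 2) hexp hcard
  let d : MulAut W →* ZMod p := Matrix.detMonoidHom.comp μ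
  have hd1 : ∀ g : MulAut W, g ^ p ^ k = 1 → d g = 1 := by
    intro g hg
    have h1 : d g ^ p ^ k = 1 := by rw [← map_pow, hg, map_one]
    rwa [ZMod.pow_card_pow] at h1
  set L := Subgroup.zpowers u₁ ⊔ Subgroup.zpowers u₂ with hL
  have hLD : L ≤ d.ker :=
    sup_le (Subgroup.zpowers_le.2 (hd1 _ h₁)) (Subgroup.zpowers_le.2 (hd1 _ h₂))
  let ρ : L →* Matrix.SpecialLinearGroup (Fin 2) (ZMod p) :=
    { toFun := fun g => ⟨μ (g : MulAut W), hLD g.2⟩
      map_one' := Subtype.ext (map_one μ)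
      map_mul' := fun g h => Subtype.ext (map_mul μ (g : MulAut W) (h : MulAut W)) }
  have hinj : Function.Injective ρ := by
    intro g h hgh
    exact Subtype.ext (hμ (congrArg Subtype.val hgh))
  have hu₂ : u₂ ≠ 1 := fun h => hnot (h ▸ Subgroup.one_mem _)
  have hsyl : ∀ u : MulAut W, ∀ hu : u ∈ L, u ^ p ^ k = 1 → u ≠ 1 →
      ∃ P : Sylow p (Matrix.SpecialLinearGroup (Fin 2) (ZMod p)),
        (P : Subgroup _) = Subgroup.zpowers (ρ ⟨u, hu⟩) := by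
    intro u hu hk hne
    have hpow : (ρ ⟨u, hu⟩) ^ p ^ k = 1 := by
      rw [← map_pow]
      have : (⟨u, hu⟩ : L) ^ p ^ k = 1 := Subtype.ext hk
      rw [this, map_one]
    have hpg : IsPGroup p (Subgroup.zpowers (ρ ⟨u, hu⟩)) := by
      obtain ⟨j, -, hj⟩ := (Nat.dvd_prime_pow hp).1 (orderOf_dvd_of_pow_eq_one hpow)
      exact IsPGroup.of_card (n := j) (by rw [Nat.card_zpowers, hj])
    obtain ⟨P, hP⟩ := hpg.exists_le_sylow
    refine ⟨P, (Subgroup.eq_of_le_of_card_ge hP ?_).symm⟩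
    rw [Cfsg.Agent.Lib.Helper18.card_sylow_SL2 p P, ZMod.card, Nat.card_zpowers]
    have h1 : orderOf (ρ ⟨u, hu⟩) ∣ p ^ k := orderOf_dvd_of_pow_eq_one hpow
    obtain ⟨j, -, hj⟩ := (Nat.dvd_prime_pow hp).1 h1
    rw [hj]
    rcases j with _ | j
    · exfalso
      rw [pow_zero, orderOf_eq_one_iff] at hj
      have h2 : (⟨u, hu⟩ : L) = 1 := hinj (by rw [hj, map_one])
      exact hne (congrArg Subtype.val h2)
    · exact Nat.le_self_pow (Nat.succ_ne_zero j) p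
  have hu₁L : u₁ ∈ L := (le_sup_left : Subgroup.zpowers u₁ ≤ L) (Subgroup.mem_zpowers _)
  have hu₂L : u₂ ∈ L := (le_sup_right : Subgroup.zpowers u₂ ≤ L) (Subgroup.mem_zpowers _)
  obtain ⟨P, hP⟩ := hsyl u₁ hu₁L h₁ hne
  obtain ⟨P', hP'⟩ := hsyl u₂ hu₂L h₂ hu₂
  have hPP' : P ≠ P' := by
    intro h
    apply hnot
    have h1 : ρ ⟨u₂, hu₂L⟩ ∈ Subgroup.zpowers (ρ ⟨u₁, hu₁L⟩) := by
      rw [← hP, h, hP']; exact Subgroup.mem_zpowers _
    obtain ⟨n, hn⟩ := Subgroup.mem_zpowers_iff.1 h1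
    rw [← map_zpow] at hn
    have h2 := hinj hn
    exact Subgroup.mem_zpowers_iff.2 ⟨n, congrArg Subtype.val h2⟩
  have htop := Cfsg.Agent.Lib.Helper18.sylow_SL2_sup_eq_top p P P' hPP'
  have hsurj : Function.Surjective ρ := by
    rw [← MonoidHom.range_eq_top, eq_top_iff, ← htop, hP, hP']
    exact sup_le (Subgroup.zpowers_le.2 ⟨_, rfl⟩) (Subgroup.zpowers_le.2 ⟨_, rfl⟩)
  exact ⟨MulEquiv.ofBijective ρ ⟨hinj, hsurj⟩⟩

end Fus
end Agent

namespace FusionSystem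

open Cfsg.Agent.Fus Cfsg.Agent.Lib.Helper27.Fus

variable {Ω : Type*} [Group Ω] {S : Subgroup Ω}

/-- An essential subgroup has a non-inner automorphism of `p`-power order in the system. -/
theorem IsEssential.exists_pElement {F : FusionSystem S} [Finite S] {p : ℕ} [Fact p.Prime]
    (hS : IsPGroup p S) (hF : F.IsSaturated p) {P : Subgroup Ω} (hP : F.IsEssential p P) :
    ∃ u ∈ F.autGroup P, u ∉ Inn P ∧ ∃ k : ℕ, u ^ p ^ k = 1 := by
  obtain ⟨g, hgS, hgN, hg⟩ := exists_normalizer_not_mem hS (IsEssential.lt hS hF hP)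
  have h1 : conjAut g hgN ∈ autInducedBy S P := conjAut_mem hgN hgS
  refine ⟨conjAut g hgN, F.autInducedBy_le_autGroup hP.1.1 h1,
    fun h => hg (mem_of_conjAut_mem_inn hP.1 hgS hgN h), ?_⟩
  obtain ⟨k, hk⟩ := isPGroup_autInducedBy (P := P) hS ⟨_, h1⟩
  exact ⟨k, congrArg Subtype.val hk⟩

/-- A normal `p`-subgroup of `Aut_F(P)`, `P` essential, consists of inner automorphisms. -/
theorem IsEssential.le_inn {F : FusionSystem S} [Finite S] {p : ℕ} [Fact p.Prime]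
    (hS : IsPGroup p S) {P : Subgroup Ω} (hP : F.IsEssential p P) {B : Subgroup (MulAut P)}
    (hBA : B ≤ F.autGroup P) (hn : ∀ β ∈ B, ∀ γ ∈ F.autGroup P, γ * β * γ⁻¹ ∈ B) (hp : IsPGroup p B) :
    B ≤ Inn P := by
  rw [← (hP.isRadical F hS).2]
  exact le_pCore_map hBA hn hp

theorem inn_eq_bot_of_comm {P : Subgroup Ω} (h : ∀ x y : P, x * y = y * x) : Inn P = ⊥ := by
  rw [eq_bot_iff]
  rintro _ ⟨x, rfl⟩
  rw [Subgroup.mem_bot]
  ext y
  show ((x * y * x⁻¹ : P) : Ω) = y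
  rw [h x y]; simp

/-- There are two `p`-elements of `Aut_F(P)` not in a common cyclic subgroup, if `P` is abelian and essential. -/
theorem IsEssential.exists_two_pElements {F : FusionSystem S} [Finite S] {p : ℕ} [Fact p.Prime]
    (hS : IsPGroup p S) (hF : F.IsSaturated p) {P : Subgroup Ω} (hP : F.IsEssential p P)
    (hab : ∀ x y : P, x * y = y * x) :
    ∃ u₁ ∈ F.autGroup P, ∃ u₂ ∈ F.autGroup P, ∃ k : ℕ, u₁ ^ p ^ k = 1 ∧ u₂ ^ p ^ k = 1 ∧ u₁ ≠ 1 ∧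
      u₂ ∉ Subgroup.zpowers u₁ := by
  have hp : p.Prime := Fact.out
  obtain ⟨u, huA, hu, k, hk⟩ := hP.exists_pElement hS hF
  rw [inn_eq_bot_of_comm hab, Subgroup.mem_bot] at hu
  by_contra hcon
  push Not at hcon
  have hconj : ∀ γ ∈ F.autGroup P, γ * u * γ⁻¹ ∈ Subgroup.zpowers u := by
    intro γ hγ
    by_contra hno
    refine hno (hcon u huA (γ * u * γ⁻¹) (Subgroup.mul_mem _ (Subgroup.mul_mem _ hγ huA) (Subgroup.inv_mem _ hγ))
      k hk ?_ hu)
    rw [conj_pow, hk]; group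
  have hle := hP.le_inn hS (B := Subgroup.zpowers u) (Subgroup.zpowers_le.2 huA) ?_ ?_
  · rw [inn_eq_bot_of_comm hab] at hle
    exact hu ((Subgroup.mem_bot).1 (hle (Subgroup.mem_zpowers u)))
  · intro β hβ γ hγ
    obtain ⟨n, rfl⟩ := Subgroup.mem_zpowers_iff.1 hβ
    rw [← conj_zpow]
    exact Subgroup.zpow_mem _ (hconj γ hγ) n
  · obtain ⟨j, -, hj⟩ := (Nat.dvd_prime_pow hp).1 (orderOf_dvd_of_pow_eq_one hk)
    exact IsPGroup.of_card (n := j) (by rw [Nat.card_zpowers, hj])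

end FusionSystem
end Cfsg
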