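import Cfsg.Agent.Fus.Normal2
import Cfsg.Agent.Fus.Residual

/-!
Focal and hyperfocal subgroups: S5092, S5124.
-/

set_option autoImplicit false

namespace Cfsg
namespace FusionSystem

open Cfsg.Agent.Fus
open scoped commutatorElement

variable {Ω : Type*} [Group Ω] {S : Subgroup Ω}

theorem mem_hyperfocal (F : FusionSystem S) (p : ℕ) {P : Subgroup Ω} (hP : P ≤ S) {α : MulAut P}
    (hα : α ∈ opOf p (F.autGroup P)) (x : P) : (x : Ω)⁻¹ * ((α x : P) : Ω) ∈ F.hyperfocalSubgroup p := by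
  obtain ⟨a, ha, rfl⟩ := hα
  exact Subgroup.subset_closure ⟨P, a, x, hP, ha, rfl⟩

theorem hyperfocal_le_iff (F : FusionSystem S) (p : ℕ) (T : Subgroup Ω) :
    F.hyperfocalSubgroup p ≤ T ↔ ∀ (P : Subgroup Ω), P ≤ S → ∀ α ∈ opOf p (F.autGroup P), ∀ x : P,
      (x : Ω)⁻¹ * ((α x : P) : Ω) ∈ T := by
  constructor
  · intro h P hP α hα x
    exact h (F.mem_hyperfocal p hP hα x)
  · intro h
    unfold hyperfocalSubgroup
    rw [Subgroup.closure_le]
    rintro _ ⟨P, a, x, hP, ha, rfl⟩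
    exact h P hP a ⟨a, ha, rfl⟩ x

theorem hyperfocal_le (F : FusionSystem S) (p : ℕ) : F.hyperfocalSubgroup p ≤ S := by
  rw [hyperfocal_le_iff]
  intro P hP α _ x
  exact S.mul_mem (S.inv_mem (hP x.2)) (hP (α x).2)

/-- The subsystem of the maps `φ` of `F` with `x⁻¹ φ(x) ∈ T` for all `x`. -/
def focalSub (F : FusionSystem S) (T : Subgroup Ω) (hT : ⁅S, S⁆ ≤ T) : FusionSystem S where
  Hom P := {φ | φ ∈ F.Hom P ∧ ∀ x : P, (x : Ω)⁻¹ * φ x ∈ T}
  le_of_mem h := F.le_of_mem h.1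
  injective_of_mem h := F.injective_of_mem h.1
  conj_mem := by
    intro P g hP hg
    refine ⟨F.conj_mem hP hg, fun x => hT ?_⟩
    have h1 := Subgroup.commutator_mem_commutator (S.inv_mem (hP x.2)) hg
    have h2 : ⁅(x : Ω)⁻¹, g⁆ = (x : Ω)⁻¹ * conjHom P g x := by
      rw [commutatorElement_def]
      show _ = (x : Ω)⁻¹ * (g * x * g⁻¹)
      group
    rwa [h2] at h1
  comp_mem := by
    rintro P Q φ ψ ⟨hφ, hφT⟩ ⟨hψ, hψT⟩ h
    refine ⟨F.comp_mem hφ hψ h, fun x => ?_⟩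
    have h1 := T.mul_mem (hφT x) (hψT ⟨φ x, h x⟩)
    have h2 : (x : Ω)⁻¹ * φ x * ((φ x)⁻¹ * ψ ⟨φ x, h x⟩) = (x : Ω)⁻¹ * ψ ⟨φ x, h x⟩ := by group
    rw [h2] at h1
    exact h1
  inv_mem := by
    rintro P φ ⟨hφ, hφT⟩
    obtain ⟨ψ, hψ, hψx⟩ := F.inv_mem hφ
    refine ⟨ψ, ⟨hψ, ?_⟩, hψx⟩
    rintro ⟨_, x, rfl⟩
    rw [hψx]
    have h1 := T.inv_mem (hφT x)
    have h2 : ((x : Ω)⁻¹ * φ x)⁻¹ = (φ x)⁻¹ * x := by group
    rwa [h2] at h1

/-- The subsystem of the maps of `F` preserving `T` in both directions. -/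
def preserveSub (F : FusionSystem S) (T : Subgroup Ω) (hT : ∀ g ∈ S, ∀ x, x ∈ T ↔ g * x * g⁻¹ ∈ T) :
    FusionSystem S where
  Hom P := {φ | φ ∈ F.Hom P ∧ ∀ x : P, (x : Ω) ∈ T ↔ φ x ∈ T}
  le_of_mem h := F.le_of_mem h.1
  injective_of_mem h := F.injective_of_mem h.1
  conj_mem := by
    intro P g hP hg
    exact ⟨F.conj_mem hP hg, fun x => hT g hg x⟩
  comp_mem := by
    rintro P Q φ ψ ⟨hφ, hφT⟩ ⟨hψ, hψT⟩ h
    exact ⟨F.comp_mem hφ hψ h, fun x => (hφT x).trans (hψT ⟨φ x, h x⟩)⟩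
  inv_mem := by
    rintro P φ ⟨hφ, hφT⟩
    obtain ⟨ψ, hψ, hψx⟩ := F.inv_mem hφ
    refine ⟨ψ, ⟨hψ, ?_⟩, hψx⟩
    rintro ⟨_, x, rfl⟩
    rw [hψx]
    exact (hφT x).symm

/-- In a saturated system, subgroups `P = S` or essential are fully automized. -/
theorem IsSaturated.fullyAutomized_of (F : FusionSystem S) [Finite S] {p : ℕ} [Fact p.Prime]
    (hS : IsPGroup p S) (hF : F.IsSaturated p) {P : Subgroup Ω} (hP : P = S ∨ F.IsEssential p P) :
    F.IsFullyAutomized p P := by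
  rcases hP with rfl | hP
  · exact (hF.fullyNormalized F hS F.isFullyNormalized_self).2.1
  · exact (hF.fullyNormalized F hS hP.2.1).2.1

/-- S5092. -/
theorem focal_eq (F : FusionSystem S) [Finite S] {p : ℕ} [Fact p.Prime]
    (hS : IsPGroup p S) (hF : F.IsSaturated p) :
    F.focalSubgroup = F.hyperfocalSubgroup p ⊔ ⁅S, S⁆ := by
  apply le_antisymm
  · have hle : F ≤ F.focalSub (F.hyperfocalSubgroup p ⊔ ⁅S, S⁆) le_sup_right := by
      apply F.alperin _ hS hF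
      intro P hP α hα
      have hfa := hF.fullyAutomized_of F hS hP
      have hPle := hfa.1
      have : Finite P := finite_of_le hPle
      apply Subgroup.subset_closure
      refine ⟨(F.mem_autGroup_iff hPle α).1 hα, fun x => ?_⟩
      obtain ⟨b, hb, u, hu, -, rfl⟩ := hfa.isSylowIn.exists_mul_opOf hα
      obtain ⟨g, hg, hgx⟩ := (mem_autInducedBy_iff u).1 hu
      have h1 : (x : Ω)⁻¹ * ((u x : P) : Ω) ∈ ⁅S, S⁆ := by
        have h1 := Subgroup.commutator_mem_commutator (S.inv_mem (hPle x.2)) hg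
        have h2 : ⁅(x : Ω)⁻¹, g⁆ = (x : Ω)⁻¹ * ((u x : P) : Ω) := by
          rw [commutatorElement_def, hgx]
          group
        rwa [h2] at h1
      have h2 := F.mem_hyperfocal p hPle hb (u x)
      have h3 := Subgroup.mul_mem _ ((le_sup_right : _ ≤ F.hyperfocalSubgroup p ⊔ ⁅S, S⁆) h1)
        ((le_sup_left : _ ≤ F.hyperfocalSubgroup p ⊔ ⁅S, S⁆) h2)
      have h4 : (x : Ω)⁻¹ * ((u x : P) : Ω) * (((u x : P) : Ω)⁻¹ * ((b (u x) : P) : Ω)) =
          (x : Ω)⁻¹ * ((b (u x) : P) : Ω) := by group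
      rw [h4] at h3
      exact h3
    unfold focalSubgroup
    rw [Subgroup.closure_le]
    rintro _ ⟨P, φ, x, hφ, rfl⟩
    exact (hle P hφ).2 x
  · refine sup_le ?_ ?_
    · rw [hyperfocal_le_iff]
      intro P hP α hα x
      exact Subgroup.subset_closure ⟨P, _, x, (F.mem_autGroup_iff hP α).1 (opOf_le _ _ hα), rfl⟩
    · rw [Subgroup.commutator_le]
      intro g₁ h₁ g₂ h₂
      refine Subgroup.subset_closure ⟨S, conjHom S g₂, ⟨g₁⁻¹, S.inv_mem h₁⟩, F.conj_mem le_rfl h₂, ?_⟩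
      rw [commutatorElement_def]
      show _ = g₁⁻¹⁻¹ * (g₂ * g₁⁻¹ * g₂⁻¹)
      group

/-- Conjugation by an element of `S` as an isomorphism in the system. -/
def conjEquiv (P : Subgroup Ω) (g : Ω) : P ≃* (P.map (MulAut.conj g).toMonoidHom : Subgroup Ω) :=
  (MulAut.conj g).subgroupMap P

@[simp] theorem conjEquiv_coe (P : Subgroup Ω) (g : Ω) (x : P) :
    ((conjEquiv P g x : (P.map (MulAut.conj g).toMonoidHom : Subgroup Ω)) : Ω) = g * x * g⁻¹ := rfl

theorem isMor_conjEquiv (F : FusionSystem S) {P : Subgroup Ω} (hP : P ≤ S) {g : Ω} (hg : g ∈ S) :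
    F.IsMor (conjEquiv P g).toMonoidHom := F.conj_mem hP hg

theorem hyperfocal_conj_mem (F : FusionSystem S) (p : ℕ) {g y : Ω} (hg : g ∈ S)
    (hy : y ∈ F.hyperfocalSubgroup p) : g * y * g⁻¹ ∈ F.hyperfocalSubgroup p := by
  have h : F.hyperfocalSubgroup p ≤ (F.hyperfocalSubgroup p).comap (MulAut.conj g).toMonoidHom := by
    rw [hyperfocal_le_iff]
    intro P hP α hα x
    show g * ((x : Ω)⁻¹ * ((α x : P) : Ω)) * g⁻¹ ∈ F.hyperfocalSubgroup p
    have he := F.isMor_conjEquiv hP hg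
    have hP' : (P.map (MulAut.conj g).toMonoidHom : Subgroup Ω) ≤ S := (he.symm F).le F
    have h1 : MulAut.congr (conjEquiv P g) α ∈ opOf p (F.autGroup (P.map (MulAut.conj g).toMonoidHom)) := by
      rw [← F.map_congr_autGroup he, ← opOf_map_equiv]
      exact ⟨α, hα, rfl⟩
    have h2 := F.mem_hyperfocal p hP' h1 (conjEquiv P g x)
    have h3 : (((conjEquiv P g x : (P.map (MulAut.conj g).toMonoidHom : Subgroup Ω)) : Ω))⁻¹ *
        ((MulAut.congr (conjEquiv P g) α (conjEquiv P g x) :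
          (P.map (MulAut.conj g).toMonoidHom : Subgroup Ω)) : Ω) =
        g * ((x : Ω)⁻¹ * ((α x : P) : Ω)) * g⁻¹ := by
      simp only [MulAut.congr_apply, MulEquiv.trans_apply, MulEquiv.symm_apply_apply, conjEquiv_coe]
      group
    rwa [h3] at h2
  exact h hy

/-- S5124. -/
theorem hyperfocal_stronglyClosed (F : FusionSystem S) [Finite S] {p : ℕ} [Fact p.Prime]
    (hS : IsPGroup p S) (hF : F.IsSaturated p) : F.StronglyClosed (F.hyperfocalSubgroup p) := by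
  have hT : ∀ g ∈ S, ∀ x, x ∈ F.hyperfocalSubgroup p ↔ g * x * g⁻¹ ∈ F.hyperfocalSubgroup p := by
    intro g hg x
    refine ⟨F.hyperfocal_conj_mem p hg, fun h => ?_⟩
    have h1 := F.hyperfocal_conj_mem p (S.inv_mem hg) h
    have h2 : g⁻¹ * (g * x * g⁻¹) * g⁻¹⁻¹ = x := by group
    rwa [h2] at h1
  have hle : F ≤ F.preserveSub (F.hyperfocalSubgroup p) hT := by
    apply F.alperin _ hS hF
    intro P hP α hα
    have hfa := hF.fullyAutomized_of F hS hP
    have hPle := hfa.1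
    have : Finite P := finite_of_le hPle
    apply Subgroup.subset_closure
    refine ⟨(F.mem_autGroup_iff hPle α).1 hα, fun x => ?_⟩
    obtain ⟨b, hb, u, hu, -, rfl⟩ := hfa.isSylowIn.exists_mul_opOf hα
    obtain ⟨g, hg, hgx⟩ := (mem_autInducedBy_iff u).1 hu
    have h1 : (x : Ω) ∈ F.hyperfocalSubgroup p ↔ ((u x : P) : Ω) ∈ F.hyperfocalSubgroup p := by
      rw [hgx]; exact hT g hg x
    have h2 := F.mem_hyperfocal p hPle hb (u x)
    rw [h1]
    show _ ↔ ((b (u x) : P) : Ω) ∈ F.hyperfocalSubgroup p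
    constructor
    · intro h3
      have h4 := Subgroup.mul_mem _ h3 h2
      rwa [mul_inv_cancel_left] at h4
    · intro h3
      have h4 := Subgroup.mul_mem _ h3 (Subgroup.inv_mem _ h2)
      have h5 : ((b (u x) : P) : Ω) * (((u x : P) : Ω)⁻¹ * ((b (u x) : P) : Ω))⁻¹ = ((u x : P) : Ω) := by
        group
      rwa [h5] at h4
  refine ⟨F.hyperfocal_le p, fun R hR φ hφ x => ?_⟩
  exact ((hle R hφ).2 x).1 (hR x.2)

end FusionSystem
end Cfsg
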