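import Cfsg.Agent.Fus.Transv2
import Cfsg.Agent.Fus.CenterIdxGrp
import Cfsg.Agent.Fus.EssSmall
import Cfsg.Agent.Fus.Normal3
import Cfsg.Agent.Fus.Focal

/-!
Saturated fusion systems over `p`-groups whose centre has index `p ^ 2`: abelian subgroups of index `p`.
-/

set_option autoImplicit false

namespace Cfsg
namespace FusionSystem

open Cfsg.Agent.Fus

variable {Ω : Type*} [Group Ω] {S : Subgroup Ω} [Finite S]

theorem exists_aut_extension (F : FusionSystem S) {P : Subgroup Ω} (hrec : F.IsReceptive P) (hPS : P ≤ S)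
    (hN : S ≤ Subgroup.normalizer (P : Set Ω)) {n : MulAut P} (hn : n ∈ F.autGroup P)
    (hnU : ∀ v ∈ autInducedBy S P, n * v * n⁻¹ ∈ autInducedBy S P) :
    ∃ α ∈ F.autGroup S, ∀ x : P, ((α ⟨x, hPS x.2⟩ : S) : Ω) = n x := by
  have hmor := (F.mem_autGroup_iff hPS n).1 hn
  have hext : S ≤ extender S P (P.subtype.comp n.toMonoidHom) := by
    intro g hg
    rw [mem_extender_iff']
    have hgN := hN hg
    obtain ⟨h, hh, hh'⟩ := (mem_autInducedBy_iff _).1 (hnU _ (conjAut_mem hgN hg))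
    refine ⟨hg, hgN, h, hh, fun x y hy => ?_⟩
    have h1 : y = conjAut g hgN x := Subtype.ext hy
    have h2 := hh' (n x)
    have h3 : (n * conjAut g hgN * n⁻¹) (n x) = n (conjAut g hgN x) := by
      show n (conjAut g hgN (n⁻¹ (n x))) = _
      rw [MulAut.inv_apply_self]
    rw [h3] at h2
    rw [h1]
    exact h2
  obtain ⟨ψ, hψ, hψe⟩ := hrec.exists_extension F n hmor hext
  have hbij : Function.Bijective ψ := (Finite.injective_iff_bijective).1 (hψ.injective F)
  refine ⟨equivOfBijective ψ hbij, (F.mem_autGroup_iff le_rfl _).2 (F.isMor_equivOfBijective hψ hbij),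
    fun x => ?_⟩
  exact hψe x ⟨x, hPS x.2⟩ rfl

section Good

variable {p : ℕ} [Fact p.Prime] (hS : IsPGroup p S) (F : FusionSystem S) (hF : F.IsSaturated p) {z : Ω}
  (hzZ : z ∈ centralizerIn S S) (hz1 : z ≠ 1) (hzp : z ^ p = 1)
  (hcomm : ∀ a ∈ S, ∀ b ∈ S, a * b * a⁻¹ * b⁻¹ ∈ Subgroup.zpowers z)
  {P : Subgroup Ω} (hPS : P ≤ S) (hZP : centralizerIn S S ≤ P) (hPab : ∀ a ∈ P, ∀ b ∈ P, a * b = b * a)
  (hcard : Nat.card S = p * Nat.card P)

include hzZ hcomm hPS hZP in
theorem good_conj_mem {g x : Ω} (hg : g ∈ S) (hx : x ∈ P) : g * x * g⁻¹ ∈ P := by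
  have h1 : g * x * g⁻¹ = (g * x * g⁻¹ * x⁻¹) * x := by group
  rw [h1]
  exact P.mul_mem (Subgroup.zpowers_le.2 (hZP hzZ) (hcomm g hg x (hPS hx))) hx

include hzZ hcomm hPS hZP in
theorem good_normalizer : S ≤ Subgroup.normalizer (P : Set Ω) := by
  intro g hg
  rw [Subgroup.mem_normalizer_iff]
  intro x
  refine ⟨fun hx => good_conj_mem hzZ hcomm hPS hZP hg hx, fun hx => ?_⟩
  have := good_conj_mem hzZ hcomm hPS hZP (S.inv_mem hg) hx
  have h2 : g⁻¹ * (g * x * g⁻¹) * g⁻¹⁻¹ = x := by group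
  rwa [h2] at this

include hzZ hcomm hPS hZP in
theorem good_fullyNormalized : F.IsFullyNormalized P := by
  refine ⟨hPS, fun Q _ => ?_⟩
  have h1 : normalizerIn S P = S := le_antisymm normalizerIn_le
    (fun g hg => mem_normalizerIn.2 ⟨hg, good_normalizer hzZ hcomm hPS hZP hg⟩)
  rw [h1]
  exact Subgroup.card_le_of_le normalizerIn_le

include hzZ hcomm hPS hZP hPab hcard in
theorem good_U :
    Nat.card (autInducedBy S P) = p ∧
    (∀ v ∈ autInducedBy S P, v ⟨z, hZP hzZ⟩ = ⟨z, hZP hzZ⟩) ∧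
    (∀ v ∈ autInducedBy S P, ∀ m : P, ∃ i : ℤ, v m = m * (⟨z, hZP hzZ⟩ : P) ^ i) ∧
    (∀ m : P, (∀ v ∈ autInducedBy S P, v m = m) → (m : Ω) ∈ centralizerIn S S) := by
  have hp : p.Prime := Fact.out
  have hN := good_normalizer hzZ hcomm hPS hZP
  have hzc := (mem_centralizerIn.1 hzZ).2
  refine ⟨?_, ?_, ?_, ?_⟩
  · have hfP : Finite P := finite_of_le hPS
    obtain ⟨t, htS, htP⟩ : ∃ t ∈ S, t ∉ P := by
      by_contra hcon
      push Not at hcon
      have h1 : P = S := le_antisymm hPS hcon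
      rw [h1] at hcard
      have h2 : 0 < Nat.card S := Nat.card_pos
      have h3 := hp.one_lt
      nlinarith
    obtain ⟨hd, hd'⟩ := exists_zpow_mul_of_card hPS
      (fun k hk h hh => good_conj_mem hzZ hcomm hPS hZP hk hh) hcard htS htP
    set φ := conjAutHom S P with hφ
    have hmemN : ∀ g ∈ S, g ∈ normalizerIn S P := fun g hg => mem_normalizerIn.2 ⟨hg, hN hg⟩
    have hφP : ∀ x (hx : x ∈ P), φ ⟨x, hmemN x (hPS hx)⟩ = 1 := by
      intro x hx
      ext m
      show x * (m : Ω) * x⁻¹ = m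
      rw [hPab x hx m m.2, mul_inv_cancel_right]
    set u := φ ⟨t, hmemN t htS⟩ with hu
    have hup : u ^ p = 1 := by
      rw [hu, ← map_pow]
      exact hφP (t ^ p) (hd' t htS)
    have hu1 : u ≠ 1 := by
      intro h
      apply htP
      apply hZP
      refine mem_centralizerIn.2 ⟨htS, fun g hg => ?_⟩
      obtain ⟨i, x, hx, rfl⟩ := hd g hg
      have h2 : t * x * t⁻¹ = x := by
        have := congrArg (fun w : MulAut P => ((w ⟨x, hx⟩ : P) : Ω)) h
        exact this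
      have h3 : t * x = x * t := by
        calc t * x = t * x * t⁻¹ * t := by group
          _ = x * t := by rw [h2]
      calc t ^ i * x * t = t ^ i * (x * t) := by group
        _ = t ^ i * (t * x) := by rw [h3]
        _ = t * (t ^ i * x) := by group
    have hU : autInducedBy S P = Subgroup.zpowers u := by
      apply le_antisymm
      · intro v hv
        obtain ⟨g, hgN, hgS, rfl⟩ := (mem_autInducedBy_iff' v).1 hv
        obtain ⟨i, x, hx, rfl⟩ := hd g hgS
        have h1 : conjAut (t ^ i * x) hgN = φ (⟨t, hmemN t htS⟩ ^ i * ⟨x, hmemN x (hPS hx)⟩) := rfl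
        rw [h1, map_mul, map_zpow, hφP x hx, mul_one]
        exact Subgroup.zpow_mem _ (Subgroup.mem_zpowers _) i
      · rw [Subgroup.zpowers_le]
        exact conjAut_mem (hN htS) htS
    rw [hU, Nat.card_zpowers, orderOf_eq_prime hup hu1]
  · intro v hv
    obtain ⟨g, hg, hv'⟩ := (mem_autInducedBy_iff v).1 hv
    apply Subtype.ext
    rw [hv']
    show g * z * g⁻¹ = z
    rw [hzc g hg, mul_inv_cancel_right]
  · intro v hv m
    obtain ⟨g, hg, hv'⟩ := (mem_autInducedBy_iff v).1 hv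
    obtain ⟨i, hi⟩ := Subgroup.mem_zpowers_iff.1 (hcomm g hg m (hPS m.2))
    refine ⟨i, Subtype.ext ?_⟩
    rw [hv']
    show g * (m : Ω) * g⁻¹ = m * ((⟨z, hZP hzZ⟩ : P) ^ i : P)
    rw [Subgroup.coe_zpow]
    show g * (m : Ω) * g⁻¹ = m * z ^ i
    rw [hPab m m.2 _ (P.zpow_mem (hZP hzZ) i), hi]
    group
  · intro m hm
    refine mem_centralizerIn.2 ⟨hPS m.2, fun g hg => ?_⟩
    have h1 := congrArg Subtype.val (hm _ (conjAut_mem (hN hg) hg))
    have h2 : g * (m : Ω) * g⁻¹ = m := h1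
    calc g * (m : Ω) = g * m * g⁻¹ * g := by group
      _ = m * g := by rw [h2]

end Good

end FusionSystem
end Cfsg
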