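import Cfsg.Agent.Fus.CenterIdx

/-!
Saturated fusion systems over `p`-groups whose centre has index `p ^ 2`: structure of the automizer of an abelian
subgroup of index `p`.
-/

set_option autoImplicit false

namespace Cfsg
namespace FusionSystem

open Cfsg.Agent.Fus

variable {Ω : Type*} [Group Ω] {S : Subgroup Ω} [Finite S]

section Good

variable {p : ℕ} [Fact p.Prime] (hS : IsPGroup p S) (F : FusionSystem S) (hF : F.IsSaturated p) {z : Ω}
  (hzZ : z ∈ centralizerIn S S) (hz1 : z ≠ 1) (hzp : z ^ p = 1)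
  (hcomm : ∀ a ∈ S, ∀ b ∈ S, a * b * a⁻¹ * b⁻¹ ∈ Subgroup.zpowers z)
  {P : Subgroup Ω} (hPS : P ≤ S) (hZP : centralizerIn S S ≤ P) (hPab : ∀ a ∈ P, ∀ b ∈ P, a * b = b * a)
  (hcard : Nat.card S = p * Nat.card P)

include hS hF hzZ hz1 hzp hcomm hPS hZP hPab hcard in
theorem good_struct (hne : ∃ v ∈ F.autGroup P, (∃ k : ℕ, v ^ p ^ k = 1) ∧ v ∉ autInducedBy S P) :
    ∃ (y : Ω) (D : Subgroup Ω), y ∈ P ∧ y ^ p = 1 ∧ (∃ g ∈ S, g * y * g⁻¹ = y * z) ∧
      D ≤ centralizerIn S S ∧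
      (∀ c ∈ centralizerIn S S, ∃ i : ℤ, c * z ^ i ∈ D) ∧ (∀ i : ℤ, z ^ i ∈ D → z ^ i = 1) ∧
      (∀ g ∈ F.autGroup P, ∀ x : P, (x : Ω) ∈ D → ((g x : P) : Ω) ∈ D) ∧
      (∀ g ∈ F.autGroup P, ∀ x : P, (x : Ω) ∈ Subgroup.closure ({z, y} : Set Ω) →
        ((g x : P) : Ω) ∈ Subgroup.closure ({z, y} : Set Ω)) ∧
      (∀ g ∈ F.autGroup P, ∃ α ∈ F.autGroup S,
        (∀ x : P, (x : Ω) ∈ D → ((g x : P) : Ω) = (α ⟨x, hPS x.2⟩ : S)) ∧
        ∀ x : P, ((α ⟨x, hPS x.2⟩ : S) : Ω)⁻¹ * (g x : P) ∈ Subgroup.closure ({z, y} : Set Ω)) ∧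
      (∃ α ∈ F.autGroup S, ((α ⟨z, (mem_centralizerIn.1 hzZ).1⟩ : S) : Ω) = z⁻¹ ∧
        ∀ d ∈ D, ∀ hdS : d ∈ S, ((α ⟨d, hdS⟩ : S) : Ω) = d) := by
  have hp : p.Prime := Fact.out
  have hfn := good_fullyNormalized F hzZ hcomm hPS hZP
  obtain ⟨-, hfa, hrec⟩ := hF.fullyNormalized F hS hfn
  have hsyl := hfa.isSylowIn
  have hN := good_normalizer hzZ hcomm hPS hZP
  obtain ⟨hUc, hUz, hUm, hUfix⟩ := good_U hzZ hcomm hPS hZP hPab hcard
  have hUA := F.autInducedBy_le_autGroup hPS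
  have hfP : Finite P := finite_of_le hPS
  have hfA : Finite (F.autGroup P) := inferInstance
  set zP : P := ⟨z, hZP hzZ⟩ with hzP
  have hzP1 : zP ≠ 1 := fun h => hz1 (congrArg Subtype.val h)
  have hzPp : zP ^ p = 1 := Subtype.ext hzp
  obtain ⟨yM, DM, hyp, ⟨u, huU, huy⟩, h3, h4, h5, h6, h7, h8, h9, ⟨h, hhA, hhU, hhz, hhD⟩⟩ :=
    transv_struct (fun a b => Subtype.ext (hPab a a.2 b b.2)) (F.autGroup P) (autInducedBy S P) hUA hsyl hUc
      zP hzP1 hzPp hUz hUm hne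
  have hWmap : (Subgroup.closure ({zP, yM} : Set P)).map P.subtype =
      Subgroup.closure ({z, (yM : Ω)} : Set Ω) := by
    rw [MonoidHom.map_closure, Set.image_pair]
    rfl
  have hW : ∀ w : P, w ∈ Subgroup.closure ({zP, yM} : Set P) ↔
      (w : Ω) ∈ Subgroup.closure ({z, (yM : Ω)} : Set Ω) := by
    intro w
    rw [← hWmap]
    exact (Subgroup.mem_map_iff_mem P.subtype_injective).symm
  have hD : ∀ w : P, w ∈ DM ↔ (w : Ω) ∈ DM.map P.subtype := fun w =>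
    (Subgroup.mem_map_iff_mem P.subtype_injective).symm
  have hUp : ∀ v ∈ autInducedBy S P, ∃ k : ℕ, v ^ p ^ k = 1 := by
    intro v hv
    refine ⟨1, ?_⟩
    have h1 : (⟨v, hv⟩ : autInducedBy S P) ^ Nat.card (autInducedBy S P) = 1 := pow_card_eq_one'
    rw [hUc] at h1
    rw [pow_one]
    exact congrArg Subtype.val h1
  refine ⟨yM, DM.map P.subtype, yM.2, congrArg Subtype.val hyp, ?_, ?_, ?_, ?_, ?_, ?_, ?_, ?_⟩
  · obtain ⟨g, hg, hu'⟩ := (mem_autInducedBy_iff u).1 huU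
    refine ⟨g, hg, ?_⟩
    rw [← hu' yM, huy]
    rfl
  · rintro _ ⟨d, hd, rfl⟩
    exact hUfix d (fun v hv => h3 v (hUA hv) (hUp v hv) d hd)
  · intro c hc
    obtain ⟨i, hi⟩ := h5 ⟨c, hZP hc⟩ (by
      intro v hv
      obtain ⟨g, hg, hv'⟩ := (mem_autInducedBy_iff v).1 hv
      apply Subtype.ext
      rw [hv']
      show g * c * g⁻¹ = c
      rw [(mem_centralizerIn.1 hc).2 g hg, mul_inv_cancel_right])
    refine ⟨i, ?_⟩
    have := (hD _).1 hi
    simpa using this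
  · intro i hi
    have h1 : ((zP ^ i : P) : Ω) ∈ DM.map P.subtype := by
      rw [Subgroup.coe_zpow]
      exact hi
    have h2 := congrArg Subtype.val (h6 i ((hD _).2 h1))
    rw [Subgroup.coe_zpow] at h2
    exact h2
  · intro g hg x hx
    exact (hD _).1 (h4 g hg x ((hD _).2 hx))
  · intro g hg x hx
    exact (hW _).1 (h8 g hg x ((hW _).2 hx))
  · intro g hg
    obtain ⟨k, hk, n, hn, rfl, hnU, hkD, hkW⟩ := h9 g hg
    obtain ⟨α, hα, hαn⟩ := exists_aut_extension F hrec hPS hN hn hnU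
    refine ⟨α, hα, fun x hx => ?_, fun x => ?_⟩
    · rw [hαn, MulAut.mul_apply, hkD _ (h4 n hn x ((hD _).2 hx))]
    · rw [hαn]
      exact (hW _).1 (hkW (n x))
  · obtain ⟨α, hα, hαn⟩ := exists_aut_extension F hrec hPS hN hhA (fun v hv => by
      rw [hhU v hv, mul_inv_cancel_right]
      exact hv)
    refine ⟨α, hα, ?_, ?_⟩
    · have := hαn zP
      rw [hhz] at this
      exact this
    · rintro _ ⟨d, hd, rfl⟩ hdS
      have := hαn d
      rw [hhD d hd] at this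
      exact this

end Good

end FusionSystem
end Cfsg
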