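import Cfsg.Agent.Fus.CenterIdx2

/-!
Saturated fusion systems over `p`-groups whose centre has index `p ^ 2`: set-up and essential subgroups.
-/

set_option autoImplicit false

namespace Cfsg
namespace FusionSystem

open Cfsg.Agent.Fus

variable {Ω : Type*} [Group Ω] {S : Subgroup Ω} [Finite S]

theorem isNormal_of_invariant' (F : FusionSystem S) {p : ℕ} [Fact p.Prime]
    (hS : IsPGroup p S) (hF : F.IsSaturated p) {Q : Subgroup Ω}
    (h : ∀ P : Subgroup Ω, (P = S ∨ F.IsEssential p P) →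
      (Q ≤ P ∧ ∀ α ∈ F.autGroup P, ∀ x : P, (x : Ω) ∈ Q → ((α x : P) : Ω) ∈ Q)) : F.IsNormal Q := by
  apply F.isNormal_of_invariant hS hF
  intro P hP
  obtain ⟨h1, h2⟩ := h P hP
  refine ⟨h1, fun α hα => le_antisymm ?_ ?_⟩
  · rintro _ ⟨x, hx, rfl⟩
    exact Subgroup.mem_subgroupOf.2 (h2 α hα x (Subgroup.mem_subgroupOf.1 hx))
  · intro x hx
    refine ⟨α⁻¹ x, Subgroup.mem_subgroupOf.2 (h2 α⁻¹ (Subgroup.inv_mem _ hα) x (Subgroup.mem_subgroupOf.1 hx)), ?_⟩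
    exact MulAut.apply_inv_self _ _ _

theorem centralizerIn_self_eq_map : centralizerIn S S = (Subgroup.center S).map S.subtype := by
  ext x
  constructor
  · intro hx
    obtain ⟨hxS, hx'⟩ := mem_centralizerIn.1 hx
    exact ⟨⟨x, hxS⟩, Subgroup.mem_center_iff.2 (fun g => Subtype.ext (hx' g g.2)), rfl⟩
  · rintro ⟨c, hc, rfl⟩
    refine mem_centralizerIn.2 ⟨c.2, fun g hg => ?_⟩
    exact congrArg Subtype.val (Subgroup.mem_center_iff.1 hc ⟨g, hg⟩)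

theorem center_setup {p : ℕ} [Fact p.Prime] (hidx : (Subgroup.center S).index = p ^ 2) :
    ∃ z, z ∈ centralizerIn S S ∧ z ≠ 1 ∧ z ^ p = 1 ∧
      (∀ a ∈ S, ∀ b ∈ S, a * b * a⁻¹ * b⁻¹ ∈ Subgroup.zpowers z) ∧
      (∃ a ∈ S, ∃ b ∈ S, z = a * b * a⁻¹ * b⁻¹) ∧
      Nat.card S = p ^ 2 * Nat.card (centralizerIn S S) := by
  obtain ⟨z, hz, hz1, hzp, hcomm, a, b, hab⟩ := exists_comm_gen hidx
  refine ⟨z, ?_, fun h => hz1 (Subtype.ext h), congrArg Subtype.val hzp, ?_, ⟨a, a.2, b, b.2, congrArg Subtype.val hab⟩, ?_⟩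
  · rw [centralizerIn_self_eq_map]
    exact ⟨z, hz, rfl⟩
  · intro a ha b hb
    obtain ⟨i, hi⟩ := Subgroup.mem_zpowers_iff.1 (hcomm ⟨a, ha⟩ ⟨b, hb⟩)
    refine Subgroup.mem_zpowers_iff.2 ⟨i, ?_⟩
    have := congrArg Subtype.val hi
    rw [Subgroup.coe_zpow] at this
    exact this
  · rw [centralizerIn_self_eq_map, Subgroup.card_map_of_injective S.subtype_injective, ← hidx, mul_comm,
      Subgroup.card_mul_index]

/-- `p`-elements of `Aut_F(S)` are inner. -/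
theorem mem_autInducedBy_self_of_pow (F : FusionSystem S) {p : ℕ} [Fact p.Prime] (hS : IsPGroup p S)
    (hF : F.IsSaturated p) {β : MulAut S} (hβ : β ∈ F.autGroup S) (hk : ∃ k : ℕ, β ^ p ^ k = 1) :
    β ∈ autInducedBy S S := by
  have hsyl := (IsSaturated.fullyAutomized_of F hS hF (Or.inl rfl)).isSylowIn
  obtain ⟨g, hg, hgU⟩ := hsyl.exists_conj_le (Subgroup.zpowers_le.2 hβ) (isPGroup_zpowers_of_pow hk)
  obtain ⟨s, hs, hs'⟩ := (mem_autInducedBy_iff _).1 (hgU β (Subgroup.mem_zpowers β))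
  refine (mem_autInducedBy_iff _).2 ⟨(g⁻¹ ⟨s, hs⟩ : S), (g⁻¹ ⟨s, hs⟩ : S).2, fun x => ?_⟩
  have h1 : (g * β * g⁻¹) (g x) = ⟨s, hs⟩ * g x * ⟨s, hs⟩⁻¹ := Subtype.ext (hs' (g x))
  have h2 : (g * β * g⁻¹) (g x) = g (β x) := by
    show g (β (g⁻¹ (g x))) = _
    rw [MulAut.inv_apply_self]
  rw [h2] at h1
  have h3 : β x = g⁻¹ ⟨s, hs⟩ * x * (g⁻¹ ⟨s, hs⟩)⁻¹ := by
    have := congrArg (fun w => g⁻¹ w) h1
    simpa using this
  exact congrArg Subtype.val h3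

/-- Some power of exponent prime to `p` of an element of `Aut_F(S)` is inner. -/
theorem exists_pow_mem_autInducedBy_self (F : FusionSystem S) {p : ℕ} [Fact p.Prime] (hS : IsPGroup p S)
    (hF : F.IsSaturated p) {β : MulAut S} (hβ : β ∈ F.autGroup S) :
    ∃ m : ℕ, ¬ p ∣ m ∧ β ^ m ∈ autInducedBy S S := by
  have hp : p.Prime := Fact.out
  have ho : orderOf β ≠ 0 := (orderOf_pos β).ne'
  obtain ⟨e, m, hm, hem⟩ := Nat.exists_eq_pow_mul_and_not_dvd ho p hp.ne_one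
  refine ⟨m, hm, F.mem_autInducedBy_self_of_pow hS hF (Subgroup.pow_mem _ hβ m) ⟨e, ?_⟩⟩
  rw [← pow_mul, mul_comm, ← hem, pow_orderOf_eq_one]

theorem eq_one_of_aut_shift (F : FusionSystem S) {p : ℕ} [Fact p.Prime] (hS : IsPGroup p S)
    (hF : F.IsSaturated p) {β : MulAut S} (hβ : β ∈ F.autGroup S) {c s : S}
    (hc : (c : Ω) ∈ centralizerIn S S) (hsp : s ^ p = 1) (h1 : β c = c * s) (h2 : β s = s) : s = 1 := by
  have hp : p.Prime := Fact.out
  obtain ⟨m, hm, hmem⟩ := F.exists_pow_mem_autInducedBy_self hS hF hβ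
  obtain ⟨g, hg, hg'⟩ := (mem_autInducedBy_iff _).1 hmem
  have h3 := pow_apply_of_fixed β c s h1 h2 m
  have h4 : (β ^ m) c = c := by
    apply Subtype.ext
    rw [hg', (mem_centralizerIn.1 hc).2 g hg, mul_inv_cancel_right]
  rw [h4] at h3
  have h5 : s ^ m = 1 := by
    have : c * 1 = c * s ^ m := by rw [mul_one]; exact h3
    exact (mul_left_cancel this).symm
  have h6 : orderOf s ∣ Nat.gcd m p := Nat.dvd_gcd (orderOf_dvd_of_pow_eq_one h5) (orderOf_dvd_of_pow_eq_one hsp)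
  have h7 : Nat.gcd m p = 1 := Nat.Coprime.symm ((Nat.Prime.coprime_iff_not_dvd hp).2 hm)
  rw [h7, Nat.dvd_one, orderOf_eq_one_iff] at h6
  exact h6

theorem IsEssential.ne_self {F : FusionSystem S} {p : ℕ} [Fact p.Prime] (hS : IsPGroup p S)
    (hF : F.IsSaturated p) {P : Subgroup Ω} (hP : F.IsEssential p P) : P ≠ S := by
  rintro rfl
  obtain ⟨u, hu, huI, hk⟩ := hP.exists_pElement hS hF
  apply huI
  rw [← autInducedBy_self]
  exact F.mem_autInducedBy_self_of_pow hS hF hu hk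

theorem IsEssential.good {F : FusionSystem S} {p : ℕ} [Fact p.Prime] (hS : IsPGroup p S)
    (hF : F.IsSaturated p) (hcardS : Nat.card S = p ^ 2 * Nat.card (centralizerIn S S))
    {z : Ω} (hzZ : z ∈ centralizerIn S S) (hcomm : ∀ a ∈ S, ∀ b ∈ S, a * b * a⁻¹ * b⁻¹ ∈ Subgroup.zpowers z)
    {P : Subgroup Ω} (hP : F.IsEssential p P) :
    P ≤ S ∧ centralizerIn S S ≤ P ∧ (∀ a ∈ P, ∀ b ∈ P, a * b = b * a) ∧ Nat.card S = p * Nat.card P ∧
      Nat.card P = p * Nat.card (centralizerIn S S) ∧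
      ∃ v ∈ F.autGroup P, (∃ k : ℕ, v ^ p ^ k = 1) ∧ v ∉ autInducedBy S P := by
  have hp : p.Prime := Fact.out
  have hPS : P ≤ S := hP.1.1
  have hCP : centralizerIn S P ≤ P := hP.1.2 P (IsConj.refl F hPS)
  have hZP : centralizerIn S S ≤ P := fun c hc =>
    hCP (mem_centralizerIn.2 ⟨(mem_centralizerIn.1 hc).1, fun x hx => (mem_centralizerIn.1 hc).2 x (hPS hx)⟩)
  have hlt2 : P < S := lt_of_le_of_ne hPS (hP.ne_self hS hF)
  have hlt1 : centralizerIn S S < P := by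
    refine lt_of_le_of_ne hZP ?_
    intro h
    apply hlt2.ne
    refine le_antisymm hPS fun g hg => hCP (mem_centralizerIn.2 ⟨hg, fun x hx => ?_⟩)
    exact ((mem_centralizerIn.1 (h ▸ hx)).2 g hg).symm
  obtain ⟨hc1, hc2⟩ := card_of_lt_of_lt hp hlt1 hlt2 hcardS
  have hfP : Finite P := finite_of_le hPS
  obtain ⟨x, hxP, hxZ⟩ : ∃ x ∈ P, x ∉ centralizerIn S S := by
    by_contra hcon
    push Not at hcon
    exact hlt1.ne (le_antisymm hZP hcon)
  obtain ⟨hd, -⟩ := exists_zpow_mul_of_card hZP (fun k hk h hh => by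
    rw [(mem_centralizerIn.1 hh).2 k (hPS hk), mul_inv_cancel_right]; exact hh) hc1 hxP hxZ
  have hPab : ∀ a ∈ P, ∀ b ∈ P, a * b = b * a := by
    intro a ha b hb
    obtain ⟨i, c, hc, rfl⟩ := hd a ha
    obtain ⟨j, c', hc', rfl⟩ := hd b hb
    have hxS : x ∈ S := hPS hxP
    have e1 : ∀ k : ℤ, Commute (x ^ k) c := fun k => (mem_centralizerIn.1 hc).2 _ (S.zpow_mem hxS k)
    have e2 : ∀ k : ℤ, Commute (x ^ k) c' := fun k => (mem_centralizerIn.1 hc').2 _ (S.zpow_mem hxS k)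
    have e3 : Commute c c' := (mem_centralizerIn.1 hc').2 _ (mem_centralizerIn.1 hc).1
    have e4 : Commute (x ^ i) (x ^ j) := Commute.zpow_zpow_self x i j
    exact ((e4.mul_right (e2 i)).mul_left (((e1 j).symm).mul_right e3)).eq
  refine ⟨hPS, hZP, hPab, hc2, hc1, ?_⟩
  obtain ⟨u₁, hu1, u₂, hu2, k, hk1, hk2, hne, hnot⟩ :=
    hP.exists_two_pElements hS hF (fun a b => Subtype.ext (hPab a a.2 b b.2))
  by_cases h1 : u₁ ∈ autInducedBy S P
  · refine ⟨u₂, hu2, ⟨k, hk2⟩, fun h2 => hnot ?_⟩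
    exact mem_zpowers_of_card_prime hp (good_U hzZ hcomm hPS hZP hPab hc2).1 h1 hne h2
  · exact ⟨u₁, hu1, ⟨k, hk1⟩, h1⟩

end FusionSystem
end Cfsg
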