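import Cfsg.Agent.Fus.Normal3

/-!
Fusion systems in which every element is conjugate into the centre of `S` (Camina–Herzog).
-/

set_option autoImplicit false

namespace Cfsg
namespace FusionSystem

open Cfsg.Agent.Fus

variable {Ω : Type*} [Group Ω] {S : Subgroup Ω}

theorem isFullyNormalized_of_le_center (F : FusionSystem S) [Finite S] {B : Subgroup Ω}
    (hB : B ≤ centralizerIn S S) : F.IsFullyNormalized B := by
  have hBS : B ≤ S := hB.trans centralizerIn_le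
  have : Finite B := finite_of_le hBS
  refine ⟨hBS, fun Q _ => ?_⟩
  have h1 : normalizerIn S B = S := by
    apply le_antisymm normalizerIn_le
    intro g hg
    refine mem_normalizerIn.2 ⟨hg, ?_⟩
    apply Subgroup.mem_normalizer_fintype
    intro y hy
    have h2 := (mem_centralizerIn.1 (hB hy)).2 g hg
    have h3 : g * y * g⁻¹ = y := by rw [h2, mul_inv_cancel_right]
    rw [h3]; exact hy
  rw [h1]
  exact Subgroup.card_le_of_le normalizerIn_le

theorem autInducedBy_eq_bot_of_le_center {B : Subgroup Ω} (hB : B ≤ centralizerIn S S) :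
    autInducedBy S B = ⊥ := by
  rw [eq_bot_iff]
  intro α hα
  obtain ⟨g, hg, h⟩ := (mem_autInducedBy_iff α).1 hα
  rw [Subgroup.mem_bot]
  ext x
  rw [h x]
  have h2 := (mem_centralizerIn.1 (hB x.2)).2 g hg
  rw [h2, mul_inv_cancel_right]
  rfl

/-- If `B` is conjugate in the system to a subgroup of the centre of `S`, then every element of `S`
normalizing `B` centralizes `B`. -/
theorem commute_of_conj_central (F : FusionSystem S) [Finite S] {p : ℕ} [Fact p.Prime]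
    (hS : IsPGroup p S) (hF : F.IsSaturated p) {B B' : Subgroup Ω} (e : B ≃* B')
    (he : F.IsMor e.toMonoidHom) (hB' : B' ≤ centralizerIn S S) {g : Ω} (hg : g ∈ S)
    (hgN : g ∈ Subgroup.normalizer (B : Set Ω)) {y : Ω} (hy : y ∈ B) : g * y = y * g := by
  have hBS : B ≤ S := he.le F
  have hB'S : B' ≤ S := hB'.trans centralizerIn_le
  have : Finite B' := finite_of_le hB'S
  have h1 := (hF.fullyNormalized F hS (F.isFullyNormalized_of_le_center hB')).2.1.isSylowIn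
  rw [autInducedBy_eq_bot_of_le_center hB'] at h1
  have h2 : conjAut g hgN ∈ autInducedBy S B := conjAut_mem hgN hg
  have h3 : MulAut.congr e (conjAut g hgN) ∈ F.autGroup B' :=
    F.congr_mem_autGroup he (F.autInducedBy_le_autGroup hBS h2)
  have h4 : IsPGroup p (Subgroup.zpowers (MulAut.congr e (conjAut g hgN))) := by
    have h5 : IsPGroup p ((autInducedBy S B).map (MulAut.congr e).toMonoidHom) :=
      (isPGroup_autInducedBy hS).map _
    refine h5.to_le ?_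
    rw [Subgroup.zpowers_le]
    exact ⟨_, h2, rfl⟩
  have h6 := h1.card_le bot_le (Subgroup.zpowers_le.2 h3) h4
  rw [Subgroup.card_bot] at h6
  have h7 : Subgroup.zpowers (MulAut.congr e (conjAut g hgN)) = ⊥ :=
    Subgroup.eq_bot_of_card_le _ h6
  rw [Subgroup.zpowers_eq_bot] at h7
  have h8 : conjAut g hgN = 1 := by
    have := (MulAut.congr e).injective (h7.trans (map_one (MulAut.congr e)).symm)
    exact this
  have h9 : ((conjAut g hgN ⟨y, hy⟩ : B) : Ω) = y := by rw [h8]; rfl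
  rw [conjAut_coe] at h9
  have h10 : g * y * g⁻¹ = y := h9
  calc g * y = g * y * g⁻¹ * g := by group
    _ = y * g := by rw [h10]

/-- A subgroup normal in the system is central in `S` when every element is conjugate into the centre. -/
theorem IsNormal.le_center_of_conj {F : FusionSystem S} {N : Subgroup Ω} (hN : F.IsNormal N)
    (h : ∀ x ∈ S, ∃ z ∈ centralizerIn S S, F.IsConjElt x z) : N ≤ centralizerIn S S := by
  intro x hx
  refine mem_centralizerIn.2 ⟨hN.1 hx, fun s hs => ?_⟩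
  obtain ⟨z, hz, φ, hφ, hφz⟩ := h s hs
  obtain ⟨ψ, hψ, hψ1, hψ2⟩ := hN.2 _ φ hφ
  have hsx : s ∈ Subgroup.zpowers s ⊔ N := (le_sup_left : _ ≤ Subgroup.zpowers s ⊔ N) (Subgroup.mem_zpowers s)
  have hxx : x ∈ Subgroup.zpowers s ⊔ N := (le_sup_right : _ ≤ Subgroup.zpowers s ⊔ N) hx
  have h1 : ψ ⟨s, hsx⟩ = z := by
    rw [← hφz, ← hψ1]; rfl
  have h2 : ψ ⟨x, hxx⟩ ∈ S := (F.le_of_mem hψ).2 _
  have h3 := (mem_centralizerIn.1 hz).2 _ h2
  have h4 : ψ (⟨s, hsx⟩ * ⟨x, hxx⟩) = ψ (⟨x, hxx⟩ * ⟨s, hsx⟩) := by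
    rw [map_mul, map_mul, h1, h3]
  have h5 := F.injective_of_mem hψ h4
  exact congrArg (fun w : (Subgroup.zpowers s ⊔ N : Subgroup Ω) => (w : Ω)) h5

/-- The elements of `S` of order dividing `n`, when they commute pairwise. -/
def omegaSub (S : Subgroup Ω) (n : ℕ)
    (hc : ∀ x ∈ S, ∀ y ∈ S, x ^ n = 1 → y ^ n = 1 → x * y = y * x) : Subgroup Ω where
  carrier := {x | x ∈ S ∧ x ^ n = 1}
  one_mem' := ⟨S.one_mem, one_pow n⟩
  mul_mem' := by
    rintro x y ⟨hx, hx'⟩ ⟨hy, hy'⟩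
    refine ⟨S.mul_mem hx hy, ?_⟩
    have : Commute x y := hc x hx y hy hx' hy'
    rw [this.mul_pow, hx', hy', one_mul]
  inv_mem' := by
    rintro x ⟨hx, hx'⟩
    exact ⟨S.inv_mem hx, by rw [inv_pow, hx', inv_one]⟩

theorem mem_omegaSub {n : ℕ} {hc : ∀ x ∈ S, ∀ y ∈ S, x ^ n = 1 → y ^ n = 1 → x * y = y * x} {x : Ω} :
    x ∈ omegaSub S n hc ↔ x ∈ S ∧ x ^ n = 1 := Iff.rfl

theorem isNormal_omegaSub (F : FusionSystem S) [Finite S] {p : ℕ} [Fact p.Prime]
    (hS : IsPGroup p S) (hF : F.IsSaturated p) (n : ℕ)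
    (hc : ∀ x ∈ S, ∀ y ∈ S, x ^ n = 1 → y ^ n = 1 → x * y = y * x) : F.IsNormal (omegaSub S n hc) := by
  apply F.isNormal_of_abelian_stronglyClosed hS hF
  · refine ⟨fun x hx => hx.1, fun R hR φ hφ x => ?_⟩
    refine ⟨(F.le_of_mem hφ).2 x, ?_⟩
    rw [← map_pow]
    have h1 : x ^ n = 1 := Subtype.ext (by rw [Subgroup.coe_pow]; exact (hR x.2).2)
    rw [h1, map_one]
  · refine ⟨⟨fun x y => Subtype.ext ?_⟩⟩
    exact hc x x.2.1 y y.2.1 x.2.2 y.2.2

/-- The inductive step. -/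
theorem commute_of_sq_mem_aux (F : FusionSystem S) [Finite S]
    (hS : IsPGroup 2 S) (hF : F.IsSaturated 2) {E : Subgroup Ω} (hEZ : E ≤ centralizerIn S S)
    {a b : Ω} (ha : a ∈ S) (hb : b ∈ S) (ha2 : a ^ 2 ∈ E) (hb2 : b ^ 2 ∈ E)
    {B : Subgroup Ω} (hBdef : B = Subgroup.zpowers (a * b) ⊔ E) (ψ : B →* Ω) (hψ : ψ ∈ F.Hom B)
    (huB : a * b ∈ B) (hEB : E ≤ B) (f1 : ψ ⟨a * b, huB⟩ ∈ centralizerIn S S)
    (f2 : ∀ (x : Ω) (hx : x ∈ E), ψ ⟨x, hEB hx⟩ ∈ E) : a * b = b * a := by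
  have : Fact (Nat.Prime 2) := ⟨Nat.prime_two⟩
  have hBS : B ≤ S := (F.le_of_mem hψ).1
  have : Finite B := finite_of_le hBS
  -- the image of `B` is central
  have h1 : ∀ y : B, ψ y ∈ centralizerIn S S := by
    have h2 : B ≤ ((centralizerIn S S).comap ψ).map B.subtype := by
      refine hBdef.le.trans ?_
      apply sup_le
      · rw [Subgroup.zpowers_le]
        exact ⟨⟨a * b, huB⟩, f1, rfl⟩
      · intro x hx
        exact ⟨⟨x, hEB hx⟩, hEZ (f2 x hx), rfl⟩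
    intro y
    obtain ⟨y', hy', hyy⟩ := h2 y.2
    have : y' = y := Subtype.ext hyy
    rw [← this]; exact hy'
  have h3 : ψ.range ≤ centralizerIn S S := by
    rintro _ ⟨y, rfl⟩
    exact h1 y
  -- `a` normalizes `B`
  have ha2c := (mem_centralizerIn.1 (hEZ ha2)).2
  have hb2c := (mem_centralizerIn.1 (hEZ hb2)).2
  have h4 : a * (a * b) * a⁻¹ = (a * b)⁻¹ * (a ^ 2 * b ^ 2) := by
    have e1 : b * a ^ 2 = a ^ 2 * b := ha2c b hb
    have e2 : a * (a * b) * a⁻¹ = b * a := by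
      calc a * (a * b) * a⁻¹ = (a ^ 2 * b) * a⁻¹ := by rw [pow_two]; group
        _ = b * a ^ 2 * a⁻¹ := by rw [e1]
        _ = b * a := by rw [pow_two]; group
    rw [e2]
    calc b * a = b⁻¹ * b ^ 2 * a := by rw [pow_two]; group
      _ = b⁻¹ * (a⁻¹ * a ^ 2 * b ^ 2) := by
          have e3 : a * b ^ 2 = b ^ 2 * a := hb2c a ha
          rw [mul_assoc b⁻¹, ← e3, pow_two a]; group
      _ = (a * b)⁻¹ * (a ^ 2 * b ^ 2) := by group
  have h5 : a ∈ Subgroup.normalizer (B : Set Ω) := by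
    apply Subgroup.mem_normalizer_fintype
    have h6 : B ≤ B.comap (MulAut.conj a).toMonoidHom := by
      refine hBdef.le.trans ?_
      apply sup_le
      · rw [Subgroup.zpowers_le]
        show a * (a * b) * a⁻¹ ∈ B
        rw [h4]
        exact B.mul_mem (B.inv_mem huB) (hEB (E.mul_mem ha2 hb2))
      · intro x hx
        show a * x * a⁻¹ ∈ B
        have := (mem_centralizerIn.1 (hEZ hx)).2 a ha
        rw [this, mul_inv_cancel_right]
        exact hEB hx
    intro y hy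
    exact h6 hy
  have h7 := F.commute_of_conj_central hS hF (F.rangeEquiv hψ) (F.isMor_rangeEquiv hψ) h3 ha h5 huB
  have h8 : a * (a * b) = a * (b * a) := by rw [h7]; group
  exact mul_left_cancel h8

theorem commute_of_sq_mem (F : FusionSystem S) [Finite S]
    (hS : IsPGroup 2 S) (hF : F.IsSaturated 2)
    (h : ∀ x ∈ S, ∃ z ∈ centralizerIn S S, F.IsConjElt x z) {E : Subgroup Ω} (hE : F.IsNormal E)
    {a b : Ω} (ha : a ∈ S) (hb : b ∈ S) (ha2 : a ^ 2 ∈ E) (hb2 : b ^ 2 ∈ E) : a * b = b * a := by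
  have hEZ : E ≤ centralizerIn S S := hE.le_center_of_conj h
  obtain ⟨c, hc, φ, hφ, hφc⟩ := h (a * b) (S.mul_mem ha hb)
  obtain ⟨ψ, hψ, hψ1, hψ2⟩ := hE.2 _ φ hφ
  have huB : a * b ∈ Subgroup.zpowers (a * b) ⊔ E :=
    (le_sup_left : _ ≤ Subgroup.zpowers (a * b) ⊔ E) (Subgroup.mem_zpowers _)
  have hEB : E ≤ Subgroup.zpowers (a * b) ⊔ E := le_sup_right
  refine F.commute_of_sq_mem_aux hS hF hEZ ha hb ha2 hb2 rfl ψ hψ huB hEB ?_ ?_
  · have : ψ ⟨a * b, huB⟩ = c := by rw [← hφc, ← hψ1]; rfl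
    rw [this]; exact hc
  · intro x hx
    have : ψ ⟨x, hEB hx⟩ ∈ (E.subgroupOf (Subgroup.zpowers (a * b) ⊔ E)).map ψ :=
      ⟨⟨x, hEB hx⟩, Subgroup.mem_subgroupOf.2 hx, rfl⟩
    rw [hψ2] at this
    exact this

/-- Camina–Herzog for fusion systems. -/
theorem comm_of_conj_central (F : FusionSystem S) [Finite S]
    (hS : IsPGroup 2 S) (hF : F.IsSaturated 2)
    (h : ∀ x ∈ S, ∃ z ∈ centralizerIn S S, F.IsConjElt x z) :
    ∀ x ∈ S, ∀ y ∈ S, x * y = y * x := by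
  have : Fact (Nat.Prime 2) := ⟨Nat.prime_two⟩
  have key : ∀ k : ℕ, ∀ x ∈ S, ∀ y ∈ S, x ^ (2 ^ k) = 1 → y ^ (2 ^ k) = 1 → x * y = y * x := by
    intro k
    induction k with
    | zero =>
      intro x _ y _ hx hy
      rw [pow_zero, pow_one] at hx hy
      rw [hx, hy]
    | succ k ih =>
      intro x hx y hy hx' hy'
      have hN := F.isNormal_omegaSub hS hF (2 ^ k) ih
      refine F.commute_of_sq_mem hS hF h hN hx hy ?_ ?_
      · exact ⟨S.pow_mem hx 2, by rw [← pow_mul, ← pow_succ']; exact hx'⟩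
      · exact ⟨S.pow_mem hy 2, by rw [← pow_mul, ← pow_succ']; exact hy'⟩
  intro x hx y hy
  obtain ⟨k, hk⟩ := hS ⟨x, hx⟩
  obtain ⟨l, hl⟩ := hS ⟨y, hy⟩
  have hk' : x ^ 2 ^ k = 1 := congrArg (fun w : S => (w : Ω)) hk
  have hl' : y ^ 2 ^ l = 1 := congrArg (fun w : S => (w : Ω)) hl
  refine key (k + l) x hx y hy ?_ ?_
  · rw [pow_add, pow_mul, hk', one_pow]
  · rw [pow_add, mul_comm, pow_mul, hl', one_pow]

end FusionSystem
end Cfsg
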