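import Cfsg.Agent.Fus.GenExtraGrp2
import Cfsg.Agent.S0206

/-!
The dihedral case of the decomposition (p = 2).
-/

set_option autoImplicit false
namespace Cfsg.Agent.Fus
open Cfsg.Agent.Lib.Helper27
universe u

section Struct

variable {G : Type u} [Group G] [Finite G] (Z : Subgroup G)
  (hZc : ∀ c ∈ Z, ∀ g : G, g * c = c * g) (hcomm : ∀ a b : G, a * b * a⁻¹ * b⁻¹ ∈ Z)

include hZc hcomm in
theorem exists_dihedral_decomp (hZcard : Nat.card Z = 2) (hpow : ∀ a : G, a ^ 2 ∈ Z) (y b₀ : G)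
    (hMab : ∀ a c : G, a * y = y * a → c * y = y * c → a * c = c * a)
    (hMexp : ∀ a : G, a * y = y * a → a ^ 2 = 1) (hb₀ : b₀ * y ≠ y * b₀) :
    ∃ (A : Type) (_ : CommGroup A), (∀ a : A, a ^ 2 = 1) ∧ Nonempty (G ≃* DihedralGroup 4 × A) := by
  have : Fact (Nat.Prime 2) := ⟨Nat.prime_two⟩
  have hy2 : y ^ 2 = 1 := hMexp y rfl
  have hZ2 : ∀ c ∈ Z, c ^ 2 = 1 := by
    intro c hc
    have h1 : (⟨c, hc⟩ : Z) ^ Nat.card Z = 1 := pow_card_eq_one'
    rw [hZcard] at h1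
    exact congrArg Subtype.val h1
  have hZ' : ∀ c ∈ Z, c ≠ 1 → ∀ x ∈ Z, x ≠ 1 → x = c := by
    intro c hc hc1 x hx hx1
    obtain ⟨k, rfl⟩ := Subgroup.mem_zpowers_iff.1 (mem_zpowers_of_card_prime Nat.prime_two hZcard hc hc1 hx)
    rcases Int.even_or_odd' k with ⟨m, rfl | rfl⟩
    · exfalso; apply hx1
      rw [zpow_mul, zpow_ofNat, hZ2 c hc, one_zpow]
    · rw [zpow_add, zpow_mul, zpow_ofNat, hZ2 c hc, one_zpow, one_mul, zpow_one]
  -- relation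
  have hrel : ∀ b : G, b * y = (b * y * b⁻¹ * y⁻¹) * y * b := fun b => by group
  have hsq : ∀ b : G, (y * b) ^ 2 = (b * y * b⁻¹ * y⁻¹) * b ^ 2 := by
    intro b
    have h1 := hZc _ (hcomm b y) y
    calc (y * b) ^ 2 = y * (b * y) * b := by rw [pow_two]; group
      _ = y * ((b * y * b⁻¹ * y⁻¹) * y * b) * b := by rw [← hrel b]
      _ = (y * (b * y * b⁻¹ * y⁻¹)) * y * b * b := by group
      _ = ((b * y * b⁻¹ * y⁻¹) * y) * y * b * b := by rw [h1]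
      _ = (b * y * b⁻¹ * y⁻¹) * y ^ 2 * b ^ 2 := by rw [pow_two, pow_two]; group
      _ = (b * y * b⁻¹ * y⁻¹) * b ^ 2 := by rw [hy2, mul_one]
  have hc1 : ∀ b : G, b * y ≠ y * b → b * y * b⁻¹ * y⁻¹ ≠ 1 := by
    intro b hb h
    apply hb
    calc b * y = (b * y * b⁻¹ * y⁻¹) * (y * b) := by group
      _ = y * b := by rw [h, one_mul]
  obtain ⟨b, hb, hb2⟩ : ∃ b : G, b * y ≠ y * b ∧ b ^ 2 = 1 := by
    by_cases h : b₀ ^ 2 = 1
    · exact ⟨b₀, hb₀, h⟩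
    · refine ⟨y * b₀, ?_, ?_⟩
      · intro h1
        apply hb₀
        have h2 : y * (b₀ * y) = y * (y * b₀) := by rw [← mul_assoc, h1]
        exact mul_left_cancel h2
      · rw [hsq, hZ' _ (hcomm b₀ y) (hc1 b₀ hb₀) _ (hpow b₀) h, ← pow_two]
        exact hZ2 _ (hcomm b₀ y)
  have hy1 : y ≠ 1 := by
    rintro rfl; exact hb (by simp)
  have hb1 : b ≠ 1 := by
    rintro rfl; exact hb (by simp)
  have hoy : orderOf y = 2 := orderOf_eq_prime hy2 hy1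
  have hob : orderOf b = 2 := orderOf_eq_prime hb2 hb1
  have hne : y ≠ b := by
    rintro rfl; exact hb rfl
  have hoyb : orderOf (y * b) = 4 := by
    have h1 : (y * b) ^ 2 = b * y * b⁻¹ * y⁻¹ := by rw [hsq, hb2, mul_one]
    have := orderOf_eq_prime_pow (p := 2) (n := 1) (x := y * b) (by rw [pow_one, h1]; exact hc1 b hb)
      (by
        show (y * b) ^ (2 ^ 2) = 1
        rw [pow_two, pow_mul, h1]
        exact hZ2 _ (hcomm b y))
    simpa using this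
  obtain ⟨e1⟩ := Cfsg.Agent.S0206.result y b hoy hob hne
  rw [hoyb] at e1
  obtain ⟨A, hAc, hAe, ⟨e2⟩⟩ := exists_decomp (p := 2) Z hZc hcomm hZcard y b hMab hMexp hb
  obtain ⟨A', iA', ⟨e3⟩⟩ := exists_type0_commGroup A (fun a c => Subtype.ext (hAc c c.2 a))
  refine ⟨A', iA', ?_, ⟨e2.trans (MulEquiv.prodCongr e1 e3)⟩⟩
  intro a
  obtain ⟨x, rfl⟩ := e3.surjective a
  rw [← map_pow]
  have : x ^ 2 = 1 := Subtype.ext (hAe x x.2)
  rw [this, map_one]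

end Struct
end Cfsg.Agent.Fus
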