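import Cfsg.Agent.Fus.GenExtraGrp

/-!
Two transvections generate an element acting as -1 on the plane they span.
-/

set_option autoImplicit false
namespace Cfsg.Agent.Fus

theorem sl2_trick {M : Type*} [CommGroup M] {p : ℕ} [Fact p.Prime] (hexp : ∀ m : M, m ^ p = 1)
    (u u' : MulAut M) (z y : M)
    (hu : ∀ m, ∃ i : ℤ, u m = m * z ^ i) (huz : u z = z) (huy : u y = y * z)
    (hu' : ∀ m, ∃ j : ℤ, u' m = m * y ^ j) (hu'y : u' y = y) (hu'z : u' z ≠ z) :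
    ∃ h ∈ Subgroup.closure ({u, u'} : Set (MulAut M)), h * u = u * h ∧ h z = z⁻¹ := by
  have hp : p.Prime := Fact.out
  obtain ⟨l, hl⟩ := hu' z
  have hw0 : y ^ l ≠ 1 := by
    intro h
    rw [h, mul_one] at hl
    exact hu'z hl
  have hy1 : y ≠ 1 := by
    rintro rfl
    exact hw0 (one_zpow l)
  have hcard : Nat.card (Subgroup.zpowers y) = p := by
    rw [Nat.card_zpowers, orderOf_eq_prime (hexp y) hy1]
  have h1 : y⁻¹ ∈ Subgroup.zpowers (y ^ l) :=
    mem_zpowers_of_card_prime hp hcard (Subgroup.zpow_mem _ (Subgroup.mem_zpowers y) l) hw0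
      (Subgroup.inv_mem _ (Subgroup.mem_zpowers y))
  have hfo : IsOfFinOrder (y ^ l) := isOfFinOrder_iff_pow_eq_one.2 ⟨p, hp.pos, hexp _⟩
  rw [← hfo.mem_powers_iff_mem_zpowers] at h1
  obtain ⟨n, hn⟩ := Submonoid.mem_powers_iff _ _ |>.1 h1
  have hfixpow : ∀ j : ℤ, u' (y ^ j) = y ^ j := fun j => by rw [map_zpow, hu'y]
  set v := u' ^ n with hv
  have hvz : v z = z * y⁻¹ := by
    rw [hv, pow_apply_of_fixed u' z (y ^ l) hl (hfixpow l) n, hn]
  have hvy : v y = y := by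
    have := pow_apply_of_fixed u' y 1 (by rw [hu'y, mul_one]) (map_one _) n
    rw [hv, this, one_pow, mul_one]
  have hvm : ∀ m, ∃ j : ℤ, v m = m * y ^ j := by
    intro m
    obtain ⟨j, hj⟩ := hu' m
    refine ⟨j * n, ?_⟩
    rw [hv, pow_apply_of_fixed u' m (y ^ j) hj (hfixpow j) n, zpow_mul, zpow_natCast]
  set w := u * v * u with hw
  have hwz : w z = y⁻¹ := by
    rw [hw, MulAut.mul_apply, MulAut.mul_apply, huz, hvz, map_mul, map_inv, huz, huy, mul_inv]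
    calc z * (y⁻¹ * z⁻¹) = (z * z⁻¹) * y⁻¹ := by ac_rfl
      _ = y⁻¹ := by rw [mul_inv_cancel, one_mul]
  have hwy : w y = z := by
    rw [hw, MulAut.mul_apply, MulAut.mul_apply, huy, map_mul, hvy, hvz]
    have : y * (z * y⁻¹) = z := by
      calc y * (z * y⁻¹) = (y * y⁻¹) * z := by ac_rfl
        _ = z := by rw [mul_inv_cancel, one_mul]
    rw [this, huz]
  have hhz : (w * w) z = z⁻¹ := by rw [MulAut.mul_apply, hwz, map_inv, hwy]
  have hhy : (w * w) y = y⁻¹ := by rw [MulAut.mul_apply, hwy, hwz]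
  have huC : u ∈ Subgroup.closure ({u, u'} : Set (MulAut M)) := Subgroup.subset_closure (by simp)
  have hvC : v ∈ Subgroup.closure ({u, u'} : Set (MulAut M)) :=
    Subgroup.pow_mem _ (Subgroup.subset_closure (by simp)) n
  have hwC : w ∈ Subgroup.closure ({u, u'} : Set (MulAut M)) :=
    Subgroup.mul_mem _ (Subgroup.mul_mem _ huC hvC) huC
  refine ⟨w * w, Subgroup.mul_mem _ hwC hwC, ?_, hhz⟩
  have hW : ∀ a c : ℤ, (w * w) (y ^ a * z ^ c) = (y ^ a * z ^ c)⁻¹ := by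
    intro a c
    rw [map_mul, map_zpow, map_zpow, hhy, hhz, inv_zpow, inv_zpow, mul_inv]
  have uW : ∀ a c : ℤ, u (y ^ a * z ^ c) = y ^ a * z ^ (a + c) := by
    intro a c
    rw [map_mul, map_zpow, map_zpow, huy, huz, mul_zpow, zpow_add, mul_assoc]
  ext m
  obtain ⟨i, hi⟩ := hu m
  obtain ⟨j, hj⟩ := hvm m
  set m0 := m * y ^ (-i) * z ^ j with hm0
  have hum0 : u m0 = m0 := by
    rw [hm0, map_mul, map_mul, map_zpow, map_zpow, hi, huy, huz, mul_zpow, zpow_neg z i]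
    calc m * z ^ i * (y ^ (-i) * (z ^ i)⁻¹) * z ^ j = m * y ^ (-i) * z ^ j * (z ^ i * (z ^ i)⁻¹) := by ac_rfl
      _ = m * y ^ (-i) * z ^ j := by rw [mul_inv_cancel, mul_one]
  have hvm0 : v m0 = m0 := by
    rw [hm0, map_mul, map_mul, map_zpow, map_zpow, hj, hvy, hvz, mul_zpow, inv_zpow]
    calc m * y ^ j * y ^ (-i) * (z ^ j * (y ^ j)⁻¹) = m * y ^ (-i) * z ^ j * (y ^ j * (y ^ j)⁻¹) := by ac_rfl
      _ = m * y ^ (-i) * z ^ j := by rw [mul_inv_cancel, mul_one]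
  have hwm0 : w m0 = m0 := by
    rw [hw, MulAut.mul_apply, MulAut.mul_apply, hum0, hvm0, hum0]
  have hhm0 : (w * w) m0 = m0 := by rw [MulAut.mul_apply, hwm0, hwm0]
  have hm : m = m0 * (y ^ i * z ^ (-j)) := by
    rw [hm0, zpow_neg, zpow_neg]
    calc m = m * (y ^ i * (y ^ i)⁻¹) * (z ^ j * (z ^ j)⁻¹) := by
          rw [mul_inv_cancel, mul_inv_cancel, mul_one, mul_one]
      _ = m * (y ^ i)⁻¹ * z ^ j * (y ^ i * (z ^ j)⁻¹) := by ac_rfl
  have key : ∀ h : MulAut M, h m0 = m0 → (∀ a c : ℤ, h (y ^ a * z ^ c) = (y ^ a * z ^ c)⁻¹) →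
      (h * u) m = (u * h) m := by
    intro h h1 h2
    rw [MulAut.mul_apply, MulAut.mul_apply, hm, map_mul u, hum0, uW, map_mul h, h1, h2, map_mul h, h1, h2,
      map_mul u, hum0, map_inv, uW]
  exact key _ hhm0 hW

end Cfsg.Agent.Fus
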