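import Cfsg.Agent.Fus.GenExtraGrp4
import Cfsg.Agent.Fus.GenExtraGrp3
import Cfsg.Agent.Fus.GenExtraSL2
import Cfsg.Agent.Fus.CentralConj
import Cfsg.Agent.S3741
import Cfsg.Agent.H1.Small2

/-!
Strongly closed generalized extraspecial subgroups: the fusion-theoretic part.
-/

set_option autoImplicit false

namespace Cfsg
namespace FusionSystem

open Cfsg.Agent.Fus Cfsg.Agent.Lib.Helper27

theorem sl2_trick_group {M : Type*} [Group M] (hc : ∀ a b : M, a * b = b * a) {p : ℕ} [Fact p.Prime]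
    (hexp : ∀ m : M, m ^ p = 1)
    (u u' : MulAut M) (z y : M)
    (hu : ∀ m, ∃ i : ℤ, u m = m * z ^ i) (huz : u z = z) (huy : u y = y * z)
    (hu' : ∀ m, ∃ j : ℤ, u' m = m * y ^ j) (hu'y : u' y = y) (hu'z : u' z ≠ z) :
    ∃ h ∈ Subgroup.closure ({u, u'} : Set (MulAut M)), h * u = u * h ∧ h z = z⁻¹ := by
  let _ : CommGroup M := { ‹Group M› with mul_comm := hc }
  exact sl2_trick hexp u u' z y hu huz huy hu' hu'y hu'z

theorem isFullyNormalized_of_stronglyClosed {Ω : Type*} [Group Ω] {S : Subgroup Ω} [Finite S]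
    {F : FusionSystem S} {Q : Subgroup Ω} (hQ : F.StronglyClosed Q) : F.IsFullyNormalized Q := by
  refine ⟨hQ.1, fun Q' hQ' => ?_⟩
  have : Finite Q := finite_of_le hQ.1
  have hle : Q' ≤ Q := by
    obtain ⟨φ, hφ, rfl⟩ := hQ'
    rintro _ ⟨x, rfl⟩
    exact hQ.2 Q le_rfl φ hφ x
  have : Q' = Q := Subgroup.eq_of_le_of_card_ge hle (hQ'.card_eq F).le
  rw [this]

section GenExtra

variable {Ω : Type*} [Group Ω] {S : Subgroup Ω} [Finite S] {p : ℕ} [Fact p.Prime]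
  (hS : IsPGroup p S) (F : FusionSystem S) (hF : F.IsSaturated p) {P Z : Subgroup Ω}
  (hP : F.StronglyClosed P) (hZP : Z ≤ P) (hZcard : Nat.card Z = p)
  (hZc : ∀ c ∈ Z, ∀ g ∈ S, g * c = c * g)
  (hcomm : ∀ a ∈ P, ∀ b ∈ P, a * b * a⁻¹ * b⁻¹ ∈ Z) (hpow : ∀ a ∈ P, a ^ p ∈ Z)

include hS hF hP hZP hZcard hZc hcomm hpow in
/-- If a generator of `Z` is fused to an element `y` outside `Z`, then `C_P(y)` is elementary abelian. -/
theorem genExtra_centralizer {φ : Z →* Ω} (hφ : φ ∈ F.Hom Z) (x : Z) (hx : φ x ∉ Z) :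
    (∀ a ∈ P, ∀ c ∈ P, a * φ x = φ x * a → c * φ x = φ x * c → a * c = c * a) ∧
    (∀ a ∈ P, a * φ x = φ x * a → a ^ p = 1) := by
  have hp : p.Prime := Fact.out
  have hZS : Z ≤ centralizerIn S S := fun c hc =>
    mem_centralizerIn.2 ⟨hP.1 (hZP hc), fun g hg => hZc c hc g hg⟩
  have hrec := (hF.fullyNormalized F hS (F.isFullyNormalized_of_le_center hZS)).2.2
  obtain ⟨ψ, hψ, h⟩ := hrec.exists_extension F (F.rangeEquiv hφ).symm ((F.isMor_rangeEquiv hφ).symm F)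
    (centralizerIn_le_extender _)
  have hx1 : (x : Ω) ≠ 1 := by
    intro h1
    apply hx
    have : x = 1 := Subtype.ext h1
    rw [this, map_one]; exact Z.one_mem
  have hmemC : ∀ a ∈ S, a * φ x = φ x * a → a ∈ centralizerIn S φ.range := by
    intro a ha hax
    refine mem_centralizerIn.2 ⟨ha, ?_⟩
    rintro _ ⟨w, rfl⟩
    obtain ⟨k, hk⟩ := Subgroup.mem_zpowers_iff.1 (mem_zpowers_of_card_prime hp hZcard x.2 hx1 w.2)
    have hw : w = x ^ k := Subtype.ext (by simpa using hk.symm)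
    rw [hw, map_zpow]
    exact ((Commute.zpow_right (show Commute a (φ x) from hax) k)).eq.symm
  have hyS : φ x ∈ S := (F.le_of_mem hφ).2 x
  have hyC : φ x ∈ centralizerIn S φ.range := hmemC _ hyS rfl
  have hψy : ((ψ ⟨φ x, hyC⟩ : S) : Ω) = x := by
    rw [h (F.rangeEquiv hφ x) ⟨φ x, hyC⟩ rfl]
    simp
  have hψP : ∀ w : centralizerIn S φ.range, (w : Ω) ∈ P → ((ψ w : S) : Ω) ∈ P := fun w hw =>
    hP.map_mem hψ hw
  -- the key step
  have key : ∀ c (hc : c ∈ centralizerIn S φ.range), c ∈ Z → ((ψ ⟨c, hc⟩ : S) : Ω) ∈ Z → c = 1 := by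
    intro c hc hcZ hψc
    by_contra hc1
    have h1 : ((ψ ⟨c, hc⟩ : S) : Ω) ≠ 1 := by
      intro h2
      apply hc1
      have h3 : ψ ⟨c, hc⟩ = ψ 1 := by rw [map_one]; exact Subtype.ext h2
      exact congrArg Subtype.val (hψ.injective F h3)
    obtain ⟨k, hk⟩ := Subgroup.mem_zpowers_iff.1 (mem_zpowers_of_card_prime hp hZcard hψc h1 x.2)
    have h4 : ψ (⟨c, hc⟩ ^ k) = ψ ⟨φ x, hyC⟩ := by
      apply Subtype.ext
      rw [hψy, map_zpow, ← hk]
      simp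
    have h5 : c ^ k = φ x := by
      have := congrArg Subtype.val (hψ.injective F h4)
      simpa using this
    apply hx
    rw [← h5]
    exact Z.zpow_mem hcZ k
  constructor
  · intro a ha c hc hay hcy
    have haC := hmemC a (hP.1 ha) hay
    have hcC := hmemC c (hP.1 hc) hcy
    have h1 : a * c * a⁻¹ * c⁻¹ ∈ centralizerIn S φ.range :=
      Subgroup.mul_mem _ (Subgroup.mul_mem _ (Subgroup.mul_mem _ haC hcC) (Subgroup.inv_mem _ haC))
        (Subgroup.inv_mem _ hcC)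
    have h2 := key _ h1 (hcomm a ha c hc) (by
      have h3 : (⟨a * c * a⁻¹ * c⁻¹, h1⟩ : centralizerIn S φ.range) =
          ⟨a, haC⟩ * ⟨c, hcC⟩ * ⟨a, haC⟩⁻¹ * ⟨c, hcC⟩⁻¹ := rfl
      rw [h3]
      simp only [map_mul, map_inv, Subgroup.coe_mul, Subgroup.coe_inv]
      exact hcomm _ (hψP ⟨a, haC⟩ ha) _ (hψP ⟨c, hcC⟩ hc))
    calc a * c = (a * c * a⁻¹ * c⁻¹) * (c * a) := by group
      _ = c * a := by rw [h2, one_mul]
  · intro a ha hay
    have haC := hmemC a (hP.1 ha) hay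
    refine key _ (pow_mem haC p) (hpow a ha) ?_
    have h3 : (⟨a ^ p, pow_mem haC p⟩ : centralizerIn S φ.range) = ⟨a, haC⟩ ^ p := rfl
    rw [h3]
    simp only [map_pow, Subgroup.coe_pow]
    exact hpow _ (hψP ⟨a, haC⟩ ha)

include hS hF hP hZP hZcard hZc hcomm hpow in
theorem genExtra_odd (hp2 : p ≠ 2) {φ : Z →* Ω} (hφ : φ ∈ F.Hom Z) (x : Z) (hx : φ x ∉ Z)
    (b : Ω) (hb : b ∈ P) (hby : b * φ x ≠ φ x * b) :
    ∃ b' ∈ P, b' * φ x ≠ φ x * b' ∧ b' ^ p = 1 := by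
  have hp : p.Prime := Fact.out
  by_contra hcon
  push Not at hcon
  obtain ⟨hMab, hMexp⟩ := genExtra_centralizer hS F hF hP hZP hZcard hZc hcomm hpow hφ x hx
  have hx1 : (x : Ω) ≠ 1 := by
    intro h1
    apply hx
    have : x = 1 := Subtype.ext h1
    rw [this, map_one]; exact Z.one_mem
  set y := φ x with hy
  have hyS : y ∈ S := (F.le_of_mem hφ).2 x
  have hyP : y ∈ P := hP.2 Z hZP φ hφ x
  have hbS : b ∈ S := hP.1 hb
  set M : Subgroup Ω := P ⊓ Subgroup.centralizer {y} with hM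
  have hmemM : ∀ g, g ∈ M ↔ g ∈ P ∧ g * y = y * g := by
    intro g
    rw [hM, Subgroup.mem_inf, Subgroup.mem_centralizer_singleton_iff]
  have hmemM' : ∀ g ∈ P, g ^ p = 1 → g ∈ M := by
    intro g hg hgp
    refine (hmemM g).2 ⟨hg, ?_⟩
    by_contra hgy
    exact hcon g hg hgy hgp
  have hMP : M ≤ P := inf_le_left
  have hMS : M ≤ S := hMP.trans hP.1
  have hMexp' : ∀ g ∈ M, g ^ p = 1 := fun g hg => hMexp g ((hmemM g).1 hg).1 ((hmemM g).1 hg).2
  have hMc : ∀ a c : M, a * c = c * a := fun a c => Subtype.ext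
    (hMab a ((hmemM a).1 a.2).1 c ((hmemM c).1 c.2).1 ((hmemM a).1 a.2).2 ((hmemM c).1 c.2).2)
  have hMsc : F.StronglyClosed M := by
    refine ⟨hMS, fun R hR φ' hφ' r => hmemM' _ (hP.2 R (hR.trans hMP) φ' hφ' r) ?_⟩
    have h1 : r ^ p = 1 := Subtype.ext (hMexp' r (hR r.2))
    rw [← map_pow, h1, map_one]
  have hMn : F.IsNormal M := F.isNormal_of_abelian_stronglyClosed hS hF hMsc ⟨⟨hMc⟩⟩
  have hZM : Z ≤ M := fun c hc => (hmemM c).2 ⟨hZP hc, (hZc c hc y hyS).symm⟩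
  obtain ⟨γ, hγ, hγx⟩ := hMn.exists_aut_extend hZM hφ
  set z := b * y * b⁻¹ * y⁻¹ with hz
  have hzZ : z ∈ Z := hcomm b hb y hyP
  have hz1 : z ≠ 1 := by
    intro h1
    apply hby
    calc b * y = (b * y * b⁻¹ * y⁻¹) * (y * b) := by group
      _ = y * b := by rw [← hz, h1, one_mul]
  have hgenz : ∀ c ∈ Z, ∃ k : ℤ, z ^ k = c := fun c hc =>
    Subgroup.mem_zpowers_iff.1 (mem_zpowers_of_card_prime hp hZcard hzZ hz1 hc)
  have hgenx : ∀ c ∈ Z, ∃ k : ℤ, (x : Ω) ^ k = c := fun c hc =>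
    Subgroup.mem_zpowers_iff.1 (mem_zpowers_of_card_prime hp hZcard x.2 hx1 hc)
  have hbN : b ∈ Subgroup.normalizer (M : Set Ω) := hMsc.le_normalizer hbS
  set u : MulAut M := conjAut b hbN with hu_def
  have huF : u ∈ F.autGroup M := F.autInducedBy_le_autGroup hMS (conjAut_mem hbN hbS)
  set u' : MulAut M := γ * u * γ⁻¹ with hu'_def
  have hu'F : u' ∈ F.autGroup M := Subgroup.mul_mem _ (Subgroup.mul_mem _ hγ huF) (Subgroup.inv_mem _ hγ)
  set zM : M := ⟨z, hZM hzZ⟩ with hzM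
  set yM : M := ⟨y, (hmemM y).2 ⟨hyP, rfl⟩⟩ with hyM
  set xM : M := Subgroup.inclusion hZM x with hxM
  have hγxM : γ xM = yM := Subtype.ext (hγx x)
  have hufix : ∀ c : M, (c : Ω) ∈ Z → u c = c := by
    intro c hc
    apply Subtype.ext
    show b * (c : Ω) * b⁻¹ = c
    rw [hZc c hc b hbS, mul_inv_cancel_right]
  have hu : ∀ m : M, ∃ i : ℤ, u m = m * zM ^ i := by
    intro m
    obtain ⟨i, hi⟩ := hgenz _ (hcomm b hb m (hMP m.2))
    refine ⟨i, Subtype.ext ?_⟩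
    show b * (m : Ω) * b⁻¹ = m * z ^ i
    rw [hZc _ (Z.zpow_mem hzZ i) m (hMS m.2), hi]
    group
  have huz : u zM = zM := hufix zM hzZ
  have huy : u yM = yM * zM := by
    apply Subtype.ext
    show b * y * b⁻¹ = y * z
    rw [hZc z hzZ y hyS, hz]
    group
  obtain ⟨kz, hkz⟩ := hgenx z hzZ
  have hzx : zM = xM ^ kz := Subtype.ext (by
    rw [Subgroup.coe_zpow]
    exact hkz.symm)
  have hγz : γ zM = yM ^ kz := by rw [hzx, map_zpow, hγxM]
  have hu' : ∀ m : M, ∃ j : ℤ, u' m = m * yM ^ j := by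
    intro m
    obtain ⟨i, hi⟩ := hu (γ⁻¹ m)
    refine ⟨kz * i, ?_⟩
    show γ (u (γ⁻¹ m)) = _
    rw [hi, map_mul, map_zpow, hγz, MulAut.apply_inv_self, zpow_mul]
  have hu'y : u' yM = yM := by
    show γ (u (γ⁻¹ yM)) = _
    rw [← hγxM, MulAut.inv_apply_self, hufix xM x.2]
  have hyp : y ^ p = 1 := hMexp y hyP rfl
  have hy1 : y ≠ 1 := fun h => hx (h ▸ Z.one_mem)
  have hu'z : u' zM ≠ zM := by
    intro h1
    have h2 : u (γ⁻¹ zM) = γ⁻¹ zM := by
      have h3 : γ (u (γ⁻¹ zM)) = zM := h1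
      apply γ.injective
      rw [h3, MulAut.apply_inv_self]
    set t := γ⁻¹ zM with ht
    have h4 : b * (t : Ω) = t * b := by
      have h5 : b * (t : Ω) * b⁻¹ = t := congrArg Subtype.val h2
      calc b * (t : Ω) = b * (t : Ω) * b⁻¹ * b := by group
        _ = t * b := by rw [h5]
    have hφ' : (M.subtype.comp (γ⁻¹ : MulAut M).toMonoidHom).comp (Subgroup.inclusion hZM) ∈ F.Hom Z :=
      F.restrict_mem ((F.mem_autGroup_iff hMS γ⁻¹).1 (Subgroup.inv_mem _ hγ)) hZM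
    by_cases htZ : (t : Ω) ∈ Z
    · obtain ⟨j, hj⟩ := hgenx t htZ
      have h6 : t = xM ^ j := Subtype.ext (by
        rw [Subgroup.coe_zpow]
        exact hj.symm)
      have h7 : zM = yM ^ j := by
        rw [← hγxM, ← map_zpow, ← h6, ht, MulAut.apply_inv_self]
      have h8 : z = y ^ j := by
        have := congrArg Subtype.val h7
        rwa [Subgroup.coe_zpow] at this
      have hcy : Nat.card (Subgroup.zpowers y) = p := by
        rw [Nat.card_zpowers, orderOf_eq_prime hyp hy1]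
      have h9 : y ∈ Subgroup.zpowers z := mem_zpowers_of_card_prime hp hcy
        (Subgroup.mem_zpowers_iff.2 ⟨j, h8.symm⟩) hz1 (Subgroup.mem_zpowers y)
      exact hx (Subgroup.zpowers_le.2 hzZ h9)
    · have h6 := (genExtra_centralizer hS F hF hP hZP hZcard hZc hcomm hpow hφ' ⟨z, hzZ⟩ htZ).2 b hb h4
      exact hcon b hb hby h6
  obtain ⟨h, hh, hhu, hhz⟩ := sl2_trick_group hMc (fun m => Subtype.ext (hMexp' m m.2)) u u' zM yM
    hu huz huy hu' hu'y hu'z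
  have hhF : h ∈ F.autGroup M := by
    refine (Subgroup.closure_le _).2 ?_ hh
    rintro w (rfl | rfl)
    · exact huF
    · exact hu'F
  have hrecM := (hF.fullyNormalized F hS (isFullyNormalized_of_stronglyClosed hMsc)).2.2
  obtain ⟨ĥ, hĥ, hĥe⟩ := hrecM.exists_extension F h ((F.mem_autGroup_iff hMS h).1 hhF) (le_refl _)
  have hhu' : ∀ m : M, h (u m) = u (h m) := fun m => by
    have := congrArg (fun w : MulAut M => w m) hhu
    exact this
  have hbE : b ∈ extender S M (M.subtype.comp h.toMonoidHom) := by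
    rw [mem_extender_iff']
    refine ⟨hbS, hbN, b, hbS, fun m m' hm' => ?_⟩
    have h1 : m' = u m := Subtype.ext hm'
    rw [h1]
    exact congrArg Subtype.val (hhu' m)
  have hME : M ≤ extender S M (M.subtype.comp h.toMonoidHom) := le_extender _ hMS hMS
  set B : extender S M (M.subtype.comp h.toMonoidHom) := ⟨b, hbE⟩ with hB
  set b1 : Ω := ((ĥ B : S) : Ω) with hb1
  have hb1P : b1 ∈ P := hP.map_mem hĥ hb
  have hĥM : ∀ m : M, ((ĥ ⟨m, hME m.2⟩ : S) : Ω) = h m := fun m => hĥe m ⟨m, hME m.2⟩ rfl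
  have hZp : ∀ c ∈ Z, c ^ p = 1 := by
    intro c hc
    have h1 : (⟨c, hc⟩ : Z) ^ Nat.card Z = 1 := pow_card_eq_one'
    rw [hZcard] at h1
    exact congrArg Subtype.val h1
  have h1 : b1 * y * b1⁻¹ = b * y * b⁻¹ := by
    have h2 : (⟨(u (h⁻¹ yM) : M), hME (u (h⁻¹ yM)).2⟩ : extender S M (M.subtype.comp h.toMonoidHom)) =
        B * ⟨(h⁻¹ yM : M), hME (h⁻¹ yM).2⟩ * B⁻¹ := Subtype.ext rfl
    have h3 := hĥM (u (h⁻¹ yM))
    rw [h2, map_mul, map_mul, map_inv, hhu', MulAut.apply_inv_self] at h3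
    simp only [Subgroup.coe_mul, Subgroup.coe_inv] at h3
    rw [hĥM, MulAut.apply_inv_self] at h3
    exact h3
  set m0 := b⁻¹ * b1 with hm0
  have hm0P : m0 ∈ P := P.mul_mem (P.inv_mem hb) hb1P
  have hm0y : m0 * y = y * m0 := by
    calc b⁻¹ * b1 * y = b⁻¹ * (b1 * y * b1⁻¹) * b1 := by group
      _ = b⁻¹ * (b * y * b⁻¹) * b1 := by rw [h1]
      _ = y * (b⁻¹ * b1) := by group
  have hm0p : m0 ^ p = 1 := hMexp m0 hm0P hm0y
  have hb1' : b1 = b * m0 := by rw [hm0]; group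
  set c := m0 * b * m0⁻¹ * b⁻¹ with hc
  have hcZ : c ∈ Z := hcomm m0 hm0P b hb
  have hrel : m0 * b = c * (b * m0) := by rw [hc]; group
  have hcb : Commute c b := (hZc c hcZ b hbS).symm
  have hcm : Commute c m0 := (hZc c hcZ m0 (hP.1 hm0P)).symm
  have h3 : 2 < p := lt_of_le_of_ne hp.two_le (Ne.symm hp2)
  obtain ⟨t, ht⟩ := hp.dvd_choose_self (by norm_num) h3
  have hb1p : b1 ^ p = b ^ p := by
    rw [hb1', mul_pow_central hrel hcb hcm p, ht, pow_mul, hZp c hcZ, one_pow, hm0p]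
    simp
  have hbpZ : b ^ p ∈ Z := hpow b hb
  obtain ⟨k, hk⟩ := hgenz _ hbpZ
  have h5 : ((ĥ (B ^ p) : S) : Ω) = b1 ^ p := by rw [map_pow]; rfl
  have h6 : B ^ p = ⟨(zM ^ k : M), hME (zM ^ k).2⟩ := Subtype.ext (by
    show b ^ p = ((zM ^ k : M) : Ω)
    rw [Subgroup.coe_zpow]
    exact hk.symm)
  have h7 : ((ĥ (B ^ p) : S) : Ω) = (b ^ p)⁻¹ := by
    rw [h6, hĥM, map_zpow, hhz, Subgroup.coe_zpow, Subgroup.coe_inv, inv_zpow]
    exact congrArg _ hk
  have h8 : b ^ p = (b ^ p)⁻¹ := by rw [← h7, h5, hb1p]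
  have h9 : (b ^ p) ^ 2 = 1 := by
    rw [pow_two]
    nth_rewrite 1 [h8]
    exact inv_mul_cancel _
  have h10 : (b ^ p) ^ p = 1 := hZp _ hbpZ
  have h11 : orderOf (b ^ p) ∣ Nat.gcd 2 p :=
    Nat.dvd_gcd (orderOf_dvd_of_pow_eq_one h9) (orderOf_dvd_of_pow_eq_one h10)
  have h12 : Nat.gcd 2 p = 1 := (Nat.coprime_primes Nat.prime_two hp).2 (Ne.symm hp2)
  rw [h12, Nat.dvd_one, orderOf_eq_one_iff] at h11
  exact hcon b hb hby h11

include hS hF hP hZP hZcard hZc hcomm hpow in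
theorem genExtra_struct (hnab : ∃ a ∈ P, ∃ b ∈ P, a * b ≠ b * a) (hnsc : ¬ F.StronglyClosed Z) :
    ∃ y ∈ P, ∃ b ∈ P, (∀ a ∈ P, ∀ c ∈ P, a * y = y * a → c * y = y * c → a * c = c * a) ∧
      (∀ a ∈ P, a * y = y * a → a ^ p = 1) ∧ b * y ≠ y * b ∧ (p ≠ 2 → b ^ p = 1) := by
  have hp : p.Prime := Fact.out
  have h1 : ∃ φ ∈ F.Hom Z, ∃ x : Z, φ x ∉ Z := by
    by_contra hcon
    push Not at hcon
    apply hnsc
    refine ⟨hZP.trans hP.1, fun R hR φ hφ r => ?_⟩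
    by_cases hRb : R = ⊥
    · have h2 : r = 1 := Subtype.ext (by
        have h3 : (r : Ω) ∈ (⊥ : Subgroup Ω) := hRb ▸ r.2
        exact h3)
      rw [h2, map_one]; exact Z.one_mem
    · have hRZ : R = Z := eq_of_card_prime_of_le' hp hR hZcard hRb
      subst hRZ
      exact hcon φ hφ r
  obtain ⟨φ, hφ, x, hx⟩ := h1
  obtain ⟨hMab, hMexp⟩ := genExtra_centralizer hS F hF hP hZP hZcard hZc hcomm hpow hφ x hx
  have hyP : φ x ∈ P := hP.2 Z hZP φ hφ x
  have h2 : ∃ b ∈ P, b * φ x ≠ φ x * b := by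
    by_contra hcon
    push Not at hcon
    obtain ⟨a, ha, b, hb, hab⟩ := hnab
    exact hab (hMab a ha b hb (hcon a ha) (hcon b hb))
  obtain ⟨b, hb, hby⟩ := h2
  by_cases hp2 : p = 2
  · exact ⟨φ x, hyP, b, hb, hMab, hMexp, hby, fun h => absurd hp2 h⟩
  · obtain ⟨b', hb', hb'y, hb'p⟩ :=
      genExtra_odd hS F hF hP hZP hZcard hZc hcomm hpow hp2 hφ x hx b hb hby
    exact ⟨φ x, hyP, b', hb', hMab, hMexp, hb'y, fun _ => hb'p⟩

end GenExtra

open scoped commutatorElement in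
/-- S5233. -/
theorem isNormal_of_genExtra {Ω : Type*} [Group Ω] {S : Subgroup Ω} [Finite S] (p : ℕ) [Fact p.Prime]
    (hS : IsPGroup p S) (F : FusionSystem S) (hF : F.IsSaturated p) (P : Subgroup Ω)
    (hP : F.StronglyClosed P)
    (hge : frattini ↥P = commutator ↥P ∧ Nat.card ↥(commutator ↥P) = p)
    (h2 : p = 2 → ¬ ∃ (A : Type) (_ : CommGroup A), (∀ a : A, a ^ 2 = 1) ∧
      Nonempty (↥P ≃* DihedralGroup 4 × A))
    (hodd : p ≠ 2 → ¬ ∃ (E : Type) (_ : Group E) (A : Type) (_ : CommGroup A),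
      Cfsg.IsExtraspecial p E ∧ Nat.card E = p ^ 3 ∧ Monoid.exponent E = p ∧ (∀ a : A, a ^ p = 1) ∧
      Nonempty (↥P ≃* E × A)) :
    F.IsNormal P := by
  have hp : p.Prime := Fact.out
  have hPS := hP.1
  have : Finite P := finite_of_le hPS
  have hPp : IsPGroup p P := isPGroup_of_le hS hPS
  set Zp : Subgroup P := commutator P with hZp
  set Z : Subgroup Ω := Zp.map P.subtype with hZ
  have hZP : Z ≤ P := map_subtype_le' _
  have hZS : Z ≤ S := hZP.trans hPS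
  have hZcard : Nat.card Z = p := by
    rw [← hge.2]
    exact Nat.card_congr (Zp.equivMapOfInjective _ P.subtype_injective).symm.toEquiv
  have hcommP : ∀ a b : P, a * b * a⁻¹ * b⁻¹ ∈ Zp := fun a b => by
    rw [hZp, commutator_def]
    exact Subgroup.commutator_mem_commutator (Subgroup.mem_top a) (Subgroup.mem_top b)
  have hpowP : ∀ a : P, a ^ p ∈ Zp := fun a => by
    rw [← hge.1]; exact (Cfsg.H1.frattini_pgroup_ge p hPp).2 a
  have hcomm : ∀ a ∈ P, ∀ b ∈ P, a * b * a⁻¹ * b⁻¹ ∈ Z :=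
    fun a ha b hb => ⟨_, hcommP ⟨a, ha⟩ ⟨b, hb⟩, rfl⟩
  have hpow : ∀ a ∈ P, a ^ p ∈ Z := fun a ha => ⟨_, hpowP ⟨a, ha⟩, rfl⟩
  have hZn : ∀ g ∈ S, ∀ c ∈ Z, g * c * g⁻¹ ∈ Z := by
    rintro g hg _ ⟨c, hc, rfl⟩
    have hgN := hP.le_normalizer hg
    refine ⟨conjAut g hgN c, ?_, rfl⟩
    have hchar : Zp.Characteristic := by rw [hZp]; infer_instance
    have h1 : c ∈ Zp.comap (conjAut g hgN).toMonoidHom := by rw [hchar.fixed]; exact hc
    exact h1
  have hZc : ∀ c ∈ Z, ∀ g ∈ S, g * c = c * g := by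
    intro c hc g hg
    have h0 : Nat.card (Z.subgroupOf S) = p := by
      rw [← hZcard]
      exact Nat.card_congr (Subgroup.subgroupOfEquivOfLe hZS).toEquiv
    have h1 := Cfsg.Agent.S3741.normalizer_le_centralizer_of_card_le hS (Z.subgroupOf S) h0.le
    have h2 : (⟨g, hg⟩ : S) ∈ Subgroup.normalizer ((Z.subgroupOf S : Subgroup S) : Set S) := by
      apply Subgroup.mem_normalizer_fintype
      intro w hw
      exact Subgroup.mem_subgroupOf.2 (hZn g hg w (Subgroup.mem_subgroupOf.1 hw))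
    have h3 := Subgroup.mem_centralizer_iff.1 (h1 h2) ⟨c, hZS hc⟩ (Subgroup.mem_subgroupOf.2 hc)
    exact (congrArg Subtype.val h3).symm
  by_cases hsc : F.StronglyClosed Z
  · refine F.isNormal_of_fin_chain hS hF 2 ![⊥, Z, P] rfl rfl ?_
    intro i
    fin_cases i
    · refine ⟨hsc, ?_⟩
      show ⁅P, Z⁆ ≤ ⊥
      rw [Subgroup.commutator_le]
      intro g₁ h₁ g₂ h₂
      rw [Subgroup.mem_bot, commutatorElement_def, hZc g₂ h₂ g₁ (hPS h₁)]
      group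
    · refine ⟨hP, ?_⟩
      show ⁅P, P⁆ ≤ Z
      rw [Subgroup.commutator_le]
      intro g₁ h₁ g₂ h₂
      exact hcomm g₁ h₁ g₂ h₂
  · exfalso
    have hnab : ∃ a ∈ P, ∃ b ∈ P, a * b ≠ b * a := by
      by_contra hcon
      push Not at hcon
      have h1 : Zp = ⊥ := by
        rw [eq_bot_iff, hZp, commutator_def, Subgroup.commutator_le]
        intro a _ b _
        rw [Subgroup.mem_bot, commutatorElement_def]
        have h3 : a * b = b * a := Subtype.ext (hcon a a.2 b b.2)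
        rw [h3]; group
      have h4 := hge.2
      rw [h1, Subgroup.card_bot] at h4
      exact hp.one_lt.ne h4
    obtain ⟨y, hy, b, hb, hMab, hMexp, hby, hbp⟩ :=
      genExtra_struct hS F hF hP hZP hZcard hZc hcomm hpow hnab hsc
    have hZcP : ∀ c ∈ Zp, ∀ g : P, g * c = c * g :=
      fun c hc g => Subtype.ext (hZc c ⟨c, hc, rfl⟩ g (hPS g.2))
    have hMabP : ∀ a c : P, a * ⟨y, hy⟩ = ⟨y, hy⟩ * a → c * ⟨y, hy⟩ = ⟨y, hy⟩ * c → a * c = c * a :=
      fun a c ha hc => Subtype.ext (hMab a a.2 c c.2 (congrArg Subtype.val ha) (congrArg Subtype.val hc))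
    have hMexpP : ∀ a : P, a * ⟨y, hy⟩ = ⟨y, hy⟩ * a → a ^ p = 1 :=
      fun a ha => Subtype.ext (hMexp a a.2 (congrArg Subtype.val ha))
    have hbyP : (⟨b, hb⟩ : P) * ⟨y, hy⟩ ≠ ⟨y, hy⟩ * ⟨b, hb⟩ := fun h => hby (congrArg Subtype.val h)
    by_cases hp2 : p = 2
    · subst hp2
      exact h2 rfl (exists_dihedral_decomp Zp hZcP hcommP hge.2 hpowP ⟨y, hy⟩ ⟨b, hb⟩ hMabP hMexpP hbyP)
    · exact hodd hp2 (exists_extraspecial_decomp Zp hZcP hcommP hp2 hge.2 ⟨y, hy⟩ ⟨b, hb⟩ hMabP hMexpP hbyP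
        (Subtype.ext (hbp hp2)))

end FusionSystem
end Cfsg
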