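import Cfsg.Agent.Fus.CenterIdxTwo2
import Cfsg.Agent.Fus.GenExtra

/-!
S5265: saturated fusion systems over `p`-groups whose centre has index at most `p ^ 2`.
-/

set_option autoImplicit false

namespace Cfsg
namespace FusionSystem

open Cfsg.Agent.Fus

variable {Ω : Type*} [Group Ω] {S : Subgroup Ω} [Finite S]

theorem card_eq_cube_of_center_le {p : ℕ} [Fact p.Prime] {z : Ω} (hzZ : z ∈ centralizerIn S S) (hz1 : z ≠ 1)
    (hzp : z ^ p = 1) (hcardS : Nat.card S = p ^ 2 * Nat.card (centralizerIn S S))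
    (hle : centralizerIn S S ≤ Subgroup.zpowers z) : Nat.card S = p ^ 3 := by
  have h1 : centralizerIn S S = Subgroup.zpowers z := le_antisymm hle (Subgroup.zpowers_le.2 hzZ)
  rw [hcardS, h1, Nat.card_zpowers, orderOf_eq_prime hzp hz1]
  ring

theorem center_index_main (p : ℕ) [Fact p.Prime] (hS : IsPGroup p S) (F : FusionSystem S)
    (hF : F.IsSaturated p) (hS1 : S ≠ ⊥) (hcore : F.core = ⊥) (hhyp : F.hyperfocalSubgroup p = S)
    (hZ : (Subgroup.center S).index ≤ p ^ 2) :
    Cfsg.IsExtraspecial p S ∧ Nat.card S = p ^ 3 ∧ (p ≠ 2 → Monoid.exponent S = p) ∧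
      (p = 2 → Nonempty (S ≃* DihedralGroup 4)) := by
  have hp : p.Prime := Fact.out
  have hnn : ¬ F.IsNormal S := fun h => hS1 (le_bot_iff.1 (hcore ▸ le_sSup h))
  have hnab : ¬ ∀ a b : S, a * b = b * a := fun h =>
    hnn (F.isNormal_of_abelian_stronglyClosed hS hF F.stronglyClosed_self ⟨⟨h⟩⟩)
  have hidx : (Subgroup.center S).index = p ^ 2 := by
    obtain ⟨n, hn⟩ := IsPGroup.iff_card.1 hS
    obtain ⟨j, -, hj⟩ := (Nat.dvd_prime_pow hp).1 (hn ▸ Subgroup.index_dvd_card (Subgroup.center S))
    have hj2 : j ≤ 2 := by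
      rw [hj] at hZ
      exact (Nat.pow_le_pow_iff_right hp.one_lt).1 hZ
    interval_cases j
    · exfalso
      apply hnab
      rw [pow_zero, Subgroup.index_eq_one] at hj
      intro a b
      exact (Subgroup.mem_center_iff.1 (hj ▸ Subgroup.mem_top b) a)
    · exfalso
      apply hnab
      rw [pow_one, Subgroup.index_eq_card] at hj
      have hcy : IsCyclic (S ⧸ Subgroup.center S) := isCyclic_of_prime_card hj
      exact commutative_of_cyclic_center_quotient (QuotientGroup.mk' (Subgroup.center S))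
        (by rw [QuotientGroup.ker_mk'])
    · exact hj
  obtain ⟨z, hzZ, hz1, hzp, hcomm, hzab, hcardS⟩ := center_setup hidx
  have hle : centralizerIn S S ≤ Subgroup.zpowers z := by
    by_cases hp2 : p = 2
    · subst hp2
      exact center_le_zpowers_of_two hS F hF hcore hhyp hzZ hz1 hzp hcomm hzab hcardS
    · exact center_le_zpowers_of_odd hp2 hS F hF hcore hzZ hz1 hzp hcomm hzab hcardS
  have hcard : Nat.card S = p ^ 3 := card_eq_cube_of_center_le hzZ hz1 hzp hcardS hle
  have hex : Cfsg.IsExtraspecial p S := isExtraspecial_of_card_cube hcard hnab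
  have hge : frattini S = commutator S ∧ Nat.card (commutator S) = p :=
    ⟨hex.1.2.1.trans hex.1.2.2.symm, hex.1.2.2 ▸ hex.2⟩
  refine ⟨hex, hcard, ?_, ?_⟩
  · intro hp2
    by_contra hexp
    apply hnn
    refine isNormal_of_genExtra p hS F hF S F.stronglyClosed_self hge (fun h => absurd h hp2) (fun _ => ?_)
    rintro ⟨E, _, A, _, -, -, hEe, hA, ⟨e⟩⟩
    apply hexp
    have h1 : ∀ s : S, s ^ p = 1 := by
      intro s
      apply e.injective
      rw [map_pow, map_one]
      apply Prod.ext
      · rw [Prod.pow_fst, ← hEe]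
        exact Monoid.pow_exponent_eq_one _
      · rw [Prod.pow_snd]
        exact hA _
    rcases (Nat.dvd_prime hp).1 (Monoid.exponent_dvd_of_forall_pow_eq_one h1) with h2 | h2
    · exfalso
      rw [Monoid.exp_eq_one_iff] at h2
      exact hnab (fun a b => Subsingleton.elim _ _)
    · exact h2
  · intro hp2
    subst hp2
    by_contra hno
    apply hnn
    refine isNormal_of_genExtra 2 hS F hF S F.stronglyClosed_self hge (fun _ => ?_) (fun h => absurd rfl h)
    rintro ⟨A, _, -, ⟨e⟩⟩
    apply hno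
    have h1 : Nat.card S = Nat.card (DihedralGroup 4 × A) := Nat.card_congr e.toEquiv
    rw [hcard, Nat.card_prod, DihedralGroup.nat_card] at h1
    have h2 : Nat.card A = 1 := by omega
    obtain ⟨h3, h4⟩ := Nat.card_eq_one_iff_unique.1 h2
    have : Unique A := ⟨⟨1⟩, fun a => Subsingleton.elim _ _⟩
    exact ⟨e.trans MulEquiv.prodUnique⟩

end FusionSystem
end Cfsg
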