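import Cfsg.Agent.Fus.DirectFactor

/-!
Fusion systems over a direct product of two strongly closed subgroups, II.
-/

set_option autoImplicit false

namespace Cfsg
namespace FusionSystem

open Cfsg.Agent.Fus

variable {Ω : Type*} [Group Ω] {S S₁ S₂ : Subgroup Ω}

theorem exists_mul_of_sup (hcomm : ∀ a ∈ S₁, ∀ b ∈ S₂, a * b = b * a) {s : Ω} (hs : s ∈ S₁ ⊔ S₂) :
    ∃ a ∈ S₁, ∃ b ∈ S₂, s = a * b := by
  have hN : S₁ ≤ Subgroup.normalizer (S₂ : Set Ω) := by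
    apply Subgroup.le_normalizer_iff.2
    intro a ha b hb
    rw [hcomm a ha b hb, mul_inv_cancel_right]
    exact hb
  have hset := Subgroup.coe_mul_of_left_le_normalizer_right S₁ S₂ hN
  have hs' : s ∈ ((S₁ ⊔ S₂ : Subgroup Ω) : Set Ω) := hs
  rw [hset] at hs'
  obtain ⟨a, ha, b, hb, rfl⟩ := Set.mem_mul.1 hs'
  exact ⟨a, ha, b, hb, rfl⟩

/-- Strong invariance of the centralizer of the second factor. -/
theorem centralizerHom_conj (F : FusionSystem S) [Finite S] {p : ℕ} [Fact p.Prime]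
    (hS : IsPGroup p S) (hF : F.IsSaturated p) (h₁ : F.StronglyClosed S₁) (h₂ : F.StronglyClosed S₂)
    (hcomm : ∀ a ∈ S₁, ∀ b ∈ S₂, a * b = b * a) {P Q : Subgroup Ω} (hPQ : P ≤ Q) (hQ : Q ≤ S₁)
    {φ : P →* Ω} (hφ : φ ∈ F.centralizerHom S₂ P) (hφQ : ∀ x : P, φ x ∈ Q) {ψ : Q →* Ω}
    (hψ : ψ ∈ F.Hom Q) :
    ∃ χ ∈ F.centralizerHom S₂ ((P.subgroupOf Q).map ψ),
      ∀ (x : P) (hx : ψ (Subgroup.inclusion hPQ x) ∈ (P.subgroupOf Q).map ψ),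
        χ ⟨ψ (Subgroup.inclusion hPQ x), hx⟩ = ψ ⟨φ x, hφQ x⟩ := by
  obtain ⟨hφF, -, -, φh, hφh, hφhP, hφhS⟩ := hφ
  obtain ⟨ψh, hψh, hψhQ⟩ := F.exists_extension_sup hS hF hψ h₂
    (fun c hc x hx => hcomm x (hQ hx) c hc) (fun c hc x => hcomm _ (h₁.2 Q hQ ψ hψ x) c hc)
  have hle : P ⊔ S₂ ≤ Q ⊔ S₂ := sup_le_sup_right hPQ _
  have hφhQ : ∀ z : ↥(P ⊔ S₂), φh z ∈ Q ⊔ S₂ := by
    refine forall_mem_sup ((Q ⊔ S₂).comap φh) (fun x => ?_) (fun c => ?_)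
    · show φh _ ∈ Q ⊔ S₂
      rw [hφhP]; exact Subgroup.mem_sup_left (hφQ x)
    · show φh _ ∈ Q ⊔ S₂
      rw [hφhS]; exact Subgroup.mem_sup_right c.2
  have hex := F.exists_conj_map hle hφh hφhQ hψh
  set W := ((P ⊔ S₂).subgroupOf (Q ⊔ S₂)).map ψh with hW
  obtain ⟨χh, hχh, hχhx⟩ := hex
  have hS₁c : S₁ ≤ centralizerIn S S₂ := fun a ha =>
    mem_centralizerIn.2 ⟨h₁.1 ha, fun b hb => (hcomm a ha b hb).symm⟩
  have hPW : (P.subgroupOf Q).map ψ ≤ W := by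
    rintro _ ⟨z, hz, rfl⟩
    refine ⟨Subgroup.inclusion le_sup_left z, ?_, hψhQ z⟩
    exact Subgroup.mem_subgroupOf.2 (Subgroup.mem_sup_left (Subgroup.mem_subgroupOf.1 hz))
  have hSW : S₂ ≤ W := by
    intro c hc
    obtain ⟨c', hc', hcc⟩ := h₂.exists_preimage le_sup_right hψh hc
    exact ⟨c', Subgroup.mem_subgroupOf.2 (Subgroup.mem_sup_right hc'), hcc⟩
  have hval : ∀ (x : P) (hx : ψ (Subgroup.inclusion hPQ x) ∈ W),
      χh ⟨ψ (Subgroup.inclusion hPQ x), hx⟩ = ψ ⟨φ x, hφQ x⟩ := by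
    intro x hx
    have h3 : ψh (Subgroup.inclusion hle (Subgroup.inclusion le_sup_left x)) =
        ψ (Subgroup.inclusion hPQ x) := by
      rw [← hψhQ]; rfl
    have h4 := hχhx (Subgroup.inclusion le_sup_left x) (by rw [h3]; exact hx)
    have h5 : (⟨ψ (Subgroup.inclusion hPQ x), hx⟩ : W) =
        ⟨ψh (Subgroup.inclusion hle (Subgroup.inclusion le_sup_left x)), by rw [h3]; exact hx⟩ :=
      Subtype.ext h3.symm
    rw [h5, h4, ← hψhQ]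
    congr 1
    apply Subtype.ext
    exact hφhP x
  refine ⟨χh.comp (Subgroup.inclusion hPW), ⟨F.restrict_mem hχh hPW, ?_, ?_,
    χh.comp (Subgroup.inclusion (sup_le hPW hSW)), F.restrict_mem hχh _, fun x => rfl, ?_⟩,
    fun x hx => hval x (hPW hx)⟩
  · refine le_trans ?_ hS₁c
    rintro _ ⟨z, -, rfl⟩
    exact h₁.2 Q hQ ψ hψ z
  · rintro ⟨_, z, hz, rfl⟩
    apply hS₁c
    have h6 : χh ⟨ψ z, hPW ⟨z, hz, rfl⟩⟩ = ψ ⟨φ ⟨z, Subgroup.mem_subgroupOf.1 hz⟩, hφQ _⟩ :=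
      hval ⟨z, Subgroup.mem_subgroupOf.1 hz⟩ (hPW ⟨z, hz, rfl⟩)
    show χh ⟨ψ z, _⟩ ∈ S₁
    rw [h6]
    exact h₁.2 Q hQ ψ hψ _
  · intro c
    obtain ⟨c', hc', hcc⟩ := h₂.exists_preimage le_sup_right hψh c.2
    have h8 := hχhx ⟨c', Subgroup.mem_sup_right hc'⟩ ⟨c', Subgroup.mem_subgroupOf.2 (Subgroup.mem_sup_right hc'), rfl⟩
    have h9 : (Subgroup.inclusion hle ⟨(c' : Ω), Subgroup.mem_sup_right hc'⟩ : ↥(Q ⊔ S₂)) = c' :=
      Subtype.ext rfl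
    show χh ⟨(c : Ω), _⟩ = c
    have h10 : φh ⟨(c' : Ω), Subgroup.mem_sup_right hc'⟩ = c' := hφhS ⟨c', hc'⟩
    have h11 : (⟨(c : Ω), sup_le hPW hSW (Subgroup.mem_sup_right c.2)⟩ : W) =
        ⟨ψh (Subgroup.inclusion hle ⟨(c' : Ω), Subgroup.mem_sup_right hc'⟩),
          ⟨c', Subgroup.mem_subgroupOf.2 (Subgroup.mem_sup_right hc'), by rw [h9]⟩⟩ := by
      apply Subtype.ext
      show (c : Ω) = ψh _
      rw [h9, hcc]
    rw [h11, h8, ← hcc]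
    congr 1
    exact Subtype.ext h10

theorem aut_map_central (α : MulAut S₁) {a : S₁} (ha : ∀ x ∈ S₁, x * (a : Ω) = a * x) :
    ∀ x ∈ S₁, x * ((α a : S₁) : Ω) = (α a : S₁) * x := by
  intro x hx
  have h1 : (α⁻¹ ⟨x, hx⟩ : S₁) * a = a * α⁻¹ ⟨x, hx⟩ := Subtype.ext (ha _ (α⁻¹ ⟨x, hx⟩).2)
  have h2 := congrArg α h1
  rw [map_mul, map_mul, MulAut.apply_inv_self] at h2
  exact congrArg Subtype.val h2

theorem inv_mul_aut_mem_center (α : MulAut S₁) {a : S₁} (ha : ∀ x ∈ S₁, x * (a : Ω) = a * x) :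
    (a : Ω)⁻¹ * ((α a : S₁) : Ω) ∈ S₁ ⊓ Subgroup.centralizer (S₁ : Set Ω) := by
  refine ⟨S₁.mul_mem (S₁.inv_mem a.2) (α a).2, ?_⟩
  apply Subgroup.mem_centralizer_iff.2
  intro x hx
  have h1 := aut_map_central α ha x hx
  have h2 := ha x hx
  calc x * ((a : Ω)⁻¹ * ((α a : S₁) : Ω)) = (a : Ω)⁻¹ * ((a : Ω) * x) * (a : Ω)⁻¹ * ((α a : S₁) : Ω) := by group
    _ = (a : Ω)⁻¹ * (x * (a : Ω)) * (a : Ω)⁻¹ * ((α a : S₁) : Ω) := by rw [h2]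
    _ = (a : Ω)⁻¹ * (x * ((α a : S₁) : Ω)) := by group
    _ = (a : Ω)⁻¹ * (((α a : S₁) : Ω) * x) := by rw [h1]
    _ = (a : Ω)⁻¹ * ((α a : S₁) : Ω) * x := by group

/-- S5130. -/
theorem directFactor_main (F : FusionSystem S) [Finite S] {p : ℕ} [Fact p.Prime] (hS : IsPGroup p S)
    (hF : F.IsSaturated p) (hprod : IsInternalDirectProduct S₁ S₂ S) (h₁ : F.StronglyClosed S₁)
    (h₂ : F.StronglyClosed S₂) (R R' : FusionSystem S₁) (hR : ∀ P : Subgroup Ω, P ≤ S₁ → R.Hom P = F.Hom P)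
    (hR' : ∀ P : Subgroup Ω, P ≤ S₁ → R'.Hom P = F.centralizerHom S₂ P) :
    R.IsSaturated p ∧ R'.IsSaturated p ∧ R'.IsNormalIn F p ∧ R'.IsNormalIn R p ∧ R.IsWeaklyNormalIn F p := by
  obtain ⟨hS₁S, hS₂S, hcomm, -, hsup⟩ := hprod
  have hfS₁ : Finite S₁ := finite_of_le hS₁S
  have hS₁p : IsPGroup p S₁ := isPGroup_of_le hS hS₁S
  have hdec : ∀ s ∈ S, ∃ a ∈ S₁, ∃ b ∈ S₂, s = a * b := fun s hs =>
    exists_mul_of_sup hcomm (hsup.symm ▸ hs)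
  have hact : ∀ s ∈ S, ∃ a ∈ S₁, ∀ x ∈ S₁, s * x * s⁻¹ = a * x * a⁻¹ := by
    intro s hs
    obtain ⟨a, ha, b, hb, rfl⟩ := hdec s hs
    refine ⟨a, ha, fun x hx => ?_⟩
    calc a * b * x * (a * b)⁻¹ = a * (b * x) * b⁻¹ * a⁻¹ := by group
      _ = a * (x * b) * b⁻¹ * a⁻¹ := by rw [hcomm x hx b hb]
      _ = a * x * a⁻¹ := by group
  have hRsat : R.IsSaturated p := F.isSaturated_full hF h₁ hact R hR
  have hS₁c : S₁ ≤ centralizerIn S S₂ := fun a ha =>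
    mem_centralizerIn.2 ⟨hS₁S ha, fun b hb => (hcomm a ha b hb).symm⟩
  have hR'sat : R'.IsSaturated p := by
    have hCF := F.isCentralizerSystem_centralizerSystem S₂ hS₂S
    have hfc : F.IsFullyCentralized S₂ := ⟨hS₂S, fun Q hQ => by rw [h₂.eq_of_isConj hQ]⟩
    have hCFsat := IsCentralizerSystem.isSaturated hS hF hfc hCF
    have hsub : (F.centralizerSystem S₂ hS₂S).IsSubsystemOf F := by
      intro P φ hφ
      rw [hCF P] at hφ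
      exact hφ.1
    exact (F.centralizerSystem S₂ hS₂S).isSaturated_full hCFsat (h₁.of_subsystem hsub hS₁c)
      (fun s hs => hact s hs.1) R' (fun P hP => by rw [hR' P hP, hCF P])
  have hR'F : R'.IsSubsystemOf F := by
    intro P φ hφ
    rw [hR' P (R'.le_of_mem hφ).1] at hφ
    exact hφ.1
  have hR'R : R'.IsSubsystemOf R := by
    intro P φ hφ
    rw [hR P (R'.le_of_mem hφ).1]
    exact hR'F P hφ
  have hRF : R.IsSubsystemOf F := by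
    intro P φ hφ
    rw [hR P (R.le_of_mem hφ).1] at hφ
    exact hφ
  have himg : ∀ {P Q : Subgroup Ω} (_ : Q ≤ S₁) {ψ : Q →* Ω} (_ : ψ ∈ F.Hom Q),
      (P.subgroupOf Q).map ψ ≤ S₁ := by
    intro P Q hQ ψ hψ
    rintro _ ⟨z, -, rfl⟩
    exact h₁.2 Q hQ ψ hψ z
  have hinv1 : R'.IsInvariantIn F := by
    refine (F.isInvariantIn_iff_strong hS hF R' hR'F h₁).2 ?_
    intro P Q hPQ hQ φ hφ hφQ ψ hψ
    rw [hR' P (hPQ.trans hQ)] at hφ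
    obtain ⟨χ, hχ, hχx⟩ := F.centralizerHom_conj hS hF h₁ h₂ hcomm hPQ hQ hφ hφQ hψ
    exact ⟨χ, by rw [hR' _ (himg hQ hψ)]; exact hχ, hχx⟩
  have hinv2 : R'.IsInvariantIn R := by
    refine (R.isInvariantIn_iff_strong hS₁p hRsat R' hR'R R.stronglyClosed_self).2 ?_
    intro P Q hPQ hQ φ hφ hφQ ψ hψ
    rw [hR' P (hPQ.trans hQ)] at hφ
    rw [hR Q hQ] at hψ
    obtain ⟨χ, hχ, hχx⟩ := F.centralizerHom_conj hS hF h₁ h₂ hcomm hPQ hQ hφ hφQ hψ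
    exact ⟨χ, by rw [hR' _ (himg hQ hψ)]; exact hχ, hχx⟩
  have hinv3 : R.IsInvariantIn F := by
    refine (F.isInvariantIn_iff_strong hS hF R hRF h₁).2 ?_
    intro P Q hPQ hQ φ hφ hφQ ψ hψ
    rw [hR P (hPQ.trans hQ)] at hφ
    obtain ⟨χ, hχ, hχx⟩ := F.exists_conj_map hPQ hφ hφQ hψ
    exact ⟨χ, by rw [hR _ (himg hQ hψ)]; exact hχ, hχx⟩
  refine ⟨hRsat, hR'sat, ⟨⟨hR'sat, hF, hinv1⟩, ?_⟩, ⟨⟨hR'sat, hRsat, hinv2⟩, ?_⟩, hRsat, hF, hinv3⟩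
  · intro α hα
    have hα' := (R'.mem_autGroup_iff le_rfl α).1 hα
    have hα'' : S₁.subtype.comp α.toMonoidHom ∈ F.centralizerHom S₂ S₁ := by
      rw [← hR' S₁ le_rfl]; exact hα'
    obtain ⟨-, -, -, ψ, hψ, hψ1, hψ2⟩ := hα''
    have hS₂c : S₂ ≤ centralizerIn S S₁ := fun b hb =>
      mem_centralizerIn.2 ⟨hS₂S hb, fun a ha => hcomm a ha b hb⟩
    have hU : S₁ ⊔ centralizerIn S S₁ = S₁ ⊔ S₂ :=
      le_antisymm (sup_le le_sup_left (centralizerIn_le.trans hsup.ge)) (sup_le_sup_left hS₂c _)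
    have hUS : S₁ ⊔ centralizerIn S S₁ ≤ S := sup_le hS₁S centralizerIn_le
    have hfU : Finite ↥(S₁ ⊔ centralizerIn S S₁) := finite_of_le hUS
    have hψ' := F.restrict_mem hψ hU.le
    have hval : ∀ z, (ψ.comp (Subgroup.inclusion hU.le)) z ∈ S₁ ⊔ centralizerIn S S₁ := by
      intro z
      have hSU : S ≤ S₁ ⊔ centralizerIn S S₁ := by rw [hU, hsup]
      exact hSU ((F.le_of_mem hψ').2 z)
    have hmor := F.isMor_codRestrict hψ' hval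
    have hbij : Function.Bijective ((ψ.comp (Subgroup.inclusion hU.le)).codRestrict _ hval) :=
      ⟨hmor.injective F, Finite.surjective_of_injective (hmor.injective F)⟩
    refine ⟨equivOfBijective _ hbij, (F.mem_autGroup_iff hUS _).2 (F.isMor_equivOfBijective hmor hbij),
      fun x => hψ1 x, fun c hc => ?_⟩
    obtain ⟨hcS, hcc⟩ := mem_centralizerIn.1 hc
    obtain ⟨a, ha, b, hb, hab⟩ := hdec c hcS
    have hac : ∀ x ∈ S₁, x * a = a * x := by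
      intro x hx
      have h3 := hcc x hx
      rw [hab] at h3
      have h4 : x * a * b = a * x * b := by
        calc x * a * b = x * (a * b) := by group
          _ = a * b * x := h3
          _ = a * (b * x) := by group
          _ = a * (x * b) := by rw [hcomm x hx b hb]
          _ = a * x * b := by group
      exact mul_right_cancel h4
    have h5 : ψ (Subgroup.inclusion hU.le c) = ((α ⟨a, ha⟩ : S₁) : Ω) * b := by
      have h6 : Subgroup.inclusion hU.le c = Subgroup.inclusion le_sup_left (⟨a, ha⟩ : S₁) *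
          Subgroup.inclusion le_sup_right (⟨b, hb⟩ : S₂) := Subtype.ext hab
      rw [h6, map_mul, hψ1, hψ2]
      rfl
    show (c : Ω)⁻¹ * ψ (Subgroup.inclusion hU.le c) ∈ _
    rw [h5, hab]
    have h7 : (a * b)⁻¹ * (((α ⟨a, ha⟩ : S₁) : Ω) * b) = a⁻¹ * ((α ⟨a, ha⟩ : S₁) : Ω) := by
      calc (a * b)⁻¹ * (((α ⟨a, ha⟩ : S₁) : Ω) * b) = b⁻¹ * a⁻¹ * (((α ⟨a, ha⟩ : S₁) : Ω) * b) := by group
        _ = b⁻¹ * a⁻¹ * (b * ((α ⟨a, ha⟩ : S₁) : Ω)) := by rw [hcomm _ (α ⟨a, ha⟩).2 b hb]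
        _ = b⁻¹ * (a⁻¹ * b) * ((α ⟨a, ha⟩ : S₁) : Ω) := by group
        _ = b⁻¹ * (b * a⁻¹) * ((α ⟨a, ha⟩ : S₁) : Ω) := by rw [hcomm _ (S₁.inv_mem ha) b hb]
        _ = a⁻¹ * ((α ⟨a, ha⟩ : S₁) : Ω) := by group
    rw [h7]
    exact inv_mul_aut_mem_center α (a := ⟨a, ha⟩) hac
  · intro α hα
    have hα' : S₁.subtype.comp α.toMonoidHom ∈ R.Hom S₁ := hR'R S₁ ((R'.mem_autGroup_iff le_rfl α).1 hα)
    have hU : S₁ ⊔ centralizerIn S₁ S₁ = S₁ := sup_eq_left.2 centralizerIn_le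
    let e : ↥(S₁ ⊔ centralizerIn S₁ S₁) ≃* S₁ := MulEquiv.subgroupCongr hU
    refine ⟨e.trans (α.trans e.symm), ?_, fun x => rfl, fun c hc => ?_⟩
    · rw [R.mem_autGroup_iff hU.le]
      exact R.hom_congr hU.symm hα' _ (fun _ _ _ => rfl)
    · obtain ⟨hcS, hcc⟩ := mem_centralizerIn.1 hc
      exact inv_mul_aut_mem_center α (a := ⟨c, hcS⟩) hcc

end FusionSystem
end Cfsg
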