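import Cfsg.Agent.Fus.CenterIdx3
import Cfsg.Agent.Fus.DirectFactor2

/-!
Saturated fusion systems over `p`-groups whose centre has index `p ^ 2`: the case of odd `p`.
-/

set_option autoImplicit false

namespace Cfsg
namespace FusionSystem

open Cfsg.Agent.Fus

variable {Ω : Type*} [Group Ω] {S : Subgroup Ω} [Finite S]

theorem aut_mem_center (α : MulAut S) {c : S} (hc : (c : Ω) ∈ centralizerIn S S) :
    ((α c : S) : Ω) ∈ centralizerIn S S :=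
  mem_centralizerIn.2 ⟨(α c).2, aut_map_central α (mem_centralizerIn.1 hc).2⟩

theorem aut_comm_gen {z : Ω} (hzS : z ∈ S)
    (hcomm : ∀ a ∈ S, ∀ b ∈ S, a * b * a⁻¹ * b⁻¹ ∈ Subgroup.zpowers z)
    (hzab : ∃ a ∈ S, ∃ b ∈ S, z = a * b * a⁻¹ * b⁻¹) (α : MulAut S) :
    ∃ k : ℤ, α ⟨z, hzS⟩ = (⟨z, hzS⟩ : S) ^ k := by
  obtain ⟨a, ha, b, hb, hab⟩ := hzab
  have h1 : (⟨z, hzS⟩ : S) = ⟨a, ha⟩ * ⟨b, hb⟩ * ⟨a, ha⟩⁻¹ * ⟨b, hb⟩⁻¹ := Subtype.ext hab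
  obtain ⟨k, hk⟩ := Subgroup.mem_zpowers_iff.1 (hcomm _ (α ⟨a, ha⟩).2 _ (α ⟨b, hb⟩).2)
  refine ⟨k, Subtype.ext ?_⟩
  rw [Subgroup.coe_zpow]
  show _ = z ^ k
  rw [hk, h1]
  simp only [map_mul, map_inv, Subgroup.coe_mul, Subgroup.coe_inv]

theorem exists_essential_of_core {p : ℕ} [Fact p.Prime] (hS : IsPGroup p S) (F : FusionSystem S)
    (hF : F.IsSaturated p) (hcore : F.core = ⊥) (hS1 : S ≠ ⊥) : ∃ E, F.IsEssential p E := by
  by_contra hcon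
  push Not at hcon
  have h1 : F.IsNormal S := by
    apply F.isNormal_of_invariant' hS hF
    rintro P (rfl | hP)
    · exact ⟨le_rfl, fun α _ x _ => (α x).2⟩
    · exact absurd hP (hcon P)
  apply hS1
  exact le_bot_iff.1 (hcore ▸ le_sSup h1)

theorem center_le_zpowers_of_odd {p : ℕ} [Fact p.Prime] (hp2 : p ≠ 2) (hS : IsPGroup p S)
    (F : FusionSystem S) (hF : F.IsSaturated p) (hcore : F.core = ⊥) {z : Ω}
    (hzZ : z ∈ centralizerIn S S) (hz1 : z ≠ 1) (hzp : z ^ p = 1)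
    (hcomm : ∀ a ∈ S, ∀ b ∈ S, a * b * a⁻¹ * b⁻¹ ∈ Subgroup.zpowers z)
    (hzab : ∃ a ∈ S, ∃ b ∈ S, z = a * b * a⁻¹ * b⁻¹)
    (hcardS : Nat.card S = p ^ 2 * Nat.card (centralizerIn S S)) :
    centralizerIn S S ≤ Subgroup.zpowers z := by
  have hp : p.Prime := Fact.out
  have hzS : z ∈ S := (mem_centralizerIn.1 hzZ).1
  set zS : S := ⟨z, hzS⟩ with hzS'
  have hzSp : zS ^ p = 1 := Subtype.ext hzp
  have hS1 : S ≠ ⊥ := fun h => hz1 ((Subgroup.mem_bot).1 (h ▸ hzS))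
  obtain ⟨E₀, hE₀⟩ := exists_essential_of_core hS F hF hcore hS1
  have hpowp : ∀ i : ℤ, (zS ^ i) ^ p = 1 := fun i => by
    rw [← zpow_natCast, ← zpow_mul, mul_comm, zpow_mul, zpow_natCast, hzSp, one_zpow]
  have hdata : ∀ E, F.IsEssential p E → ∃ (D : Subgroup Ω) (h : MulAut S), D ≤ centralizerIn S S ∧
      (∀ c ∈ centralizerIn S S, ∃ i : ℤ, c * z ^ i ∈ D) ∧
      (∀ g ∈ F.autGroup E, ∀ x : E, (x : Ω) ∈ D → ((g x : E) : Ω) ∈ D) ∧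
      h ∈ F.autGroup S ∧ h zS = zS⁻¹ ∧ (∀ c : S, (c : Ω) ∈ centralizerIn S S → ∃ j : ℤ, h c = c * zS ^ j) ∧
      (∀ c : S, (c : Ω) ∈ centralizerIn S S → (h c = c ↔ (c : Ω) ∈ D)) := by
    intro E hE
    obtain ⟨hES, hZE, hEab, hc2, -, hne⟩ := hE.good hS hF hcardS hzZ hcomm
    obtain ⟨y, D, -, -, -, hDZ, hb2, hb3, hb4, -, -, h, hh, hhz, hhD⟩ :=
      good_struct hS F hF hzZ hz1 hzp hcomm hES hZE hEab hc2 hne
    have hhz' : h zS = zS⁻¹ := Subtype.ext hhz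
    have hhD' : ∀ d : S, (d : Ω) ∈ D → h d = d := fun d hd => Subtype.ext (hhD d hd d.2)
    have hb2' : ∀ c : S, (c : Ω) ∈ centralizerIn S S → ∃ i : ℤ, ((c * zS ^ i : S) : Ω) ∈ D := by
      intro c hc
      obtain ⟨i, hi⟩ := hb2 c hc
      refine ⟨i, ?_⟩
      rw [Subgroup.coe_mul, Subgroup.coe_zpow]
      exact hi
    refine ⟨D, h, hDZ, hb2, hb4, hh, hhz', ?_, ?_⟩
    · intro c hc
      obtain ⟨i, hi⟩ := hb2' c hc
      refine ⟨i + i, ?_⟩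
      have h1 := hhD' _ hi
      rw [map_mul, map_zpow, hhz', inv_zpow] at h1
      rw [zpow_add, ← mul_assoc, ← h1]
      group
    · intro c hc
      refine ⟨fun hfix => ?_, fun hcD => hhD' c hcD⟩
      obtain ⟨i, hi⟩ := hb2' c hc
      have h1 := hhD' _ hi
      rw [map_mul, map_zpow, hhz', inv_zpow, hfix] at h1
      have h2 : (zS ^ i)⁻¹ = zS ^ i := mul_left_cancel h1
      have h3 : (zS ^ i) ^ 2 = 1 := by
        rw [pow_two]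
        nth_rewrite 1 [← h2]
        exact inv_mul_cancel _
      have h4 : orderOf (zS ^ i) ∣ Nat.gcd 2 p :=
        Nat.dvd_gcd (orderOf_dvd_of_pow_eq_one h3) (orderOf_dvd_of_pow_eq_one (hpowp i))
      have h5 : Nat.gcd 2 p = 1 := (Nat.coprime_primes Nat.prime_two hp).2 (Ne.symm hp2)
      rw [h5, Nat.dvd_one, orderOf_eq_one_iff] at h4
      rw [h4, mul_one] at hi
      exact hi
  have L1 : ∀ h₁ h₂ : MulAut S, h₁ ∈ F.autGroup S → h₂ ∈ F.autGroup S → h₁ zS = zS⁻¹ → h₂ zS = zS⁻¹ →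
      (∀ c : S, (c : Ω) ∈ centralizerIn S S → ∃ j : ℤ, h₂ c = c * zS ^ j) →
      ∀ c : S, (c : Ω) ∈ centralizerIn S S → h₁ c = c → h₂ c = c := by
    intro h₁ h₂ hh1 hh2 hz1' hz2' hl2 c hc hfix
    obtain ⟨j, hj⟩ := hl2 c hc
    have e1 : h₁⁻¹ c = c := by
      nth_rewrite 1 [← hfix]
      exact MulAut.inv_apply_self _ _ _
    have e2 : h₁⁻¹ zS = zS⁻¹ := by
      have : h₁ zS⁻¹ = zS := by rw [map_inv, hz1', inv_inv]
      nth_rewrite 1 [← this]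
      exact MulAut.inv_apply_self _ _ _
    have e3 : (h₁⁻¹ * h₂) c = c * (zS⁻¹) ^ j := by
      rw [MulAut.mul_apply, hj, map_mul, map_zpow, e1, e2]
    have e4 : (h₁⁻¹ * h₂) zS = zS := by
      rw [MulAut.mul_apply, hz2', map_inv, e2, inv_inv]
    have e5 : (h₁⁻¹ * h₂) ((zS⁻¹) ^ j) = (zS⁻¹) ^ j := by
      rw [map_zpow, map_inv, e4]
    have e6 : ((zS⁻¹) ^ j) ^ p = 1 := by
      rw [inv_zpow, inv_pow, hpowp, inv_one]
    have e7 := F.eq_one_of_aut_shift hS hF (Subgroup.mul_mem _ (Subgroup.inv_mem _ hh1) hh2) hc e6 e3 e5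
    rw [inv_zpow, inv_eq_one] at e7
    rw [hj, e7, mul_one]
  obtain ⟨D₀, h₀, hD₀Z, hb2, hb4, hh₀, hh₀z, hh₀l, hh₀c⟩ := hdata E₀ hE₀
  have hnorm : F.IsNormal D₀ := by
    apply F.isNormal_of_invariant' hS hF
    rintro P (hPeq | hP)
    · have hPeq' := hPeq.symm
      subst hPeq'
      refine ⟨hD₀Z.trans centralizerIn_le, fun α hα x hx => ?_⟩
      have hxZ := hD₀Z hx
      have hαxZ := aut_mem_center α hxZ
      rw [← hh₀c _ hαxZ]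
      obtain ⟨k, hk⟩ := aut_comm_gen hzS hcomm hzab α
      obtain ⟨k', hk'⟩ := aut_comm_gen hzS hcomm hzab α⁻¹
      have f1 : (α⁻¹ * h₀ * α) zS = zS⁻¹ := by
        show α⁻¹ (h₀ (α zS)) = zS⁻¹
        have : h₀ (α zS) = (α zS)⁻¹ := by rw [hk, map_zpow, hh₀z, inv_zpow]
        rw [this, map_inv, MulAut.inv_apply_self]
      have f2 : ∀ c : S, (c : Ω) ∈ centralizerIn S S → ∃ j : ℤ, (α⁻¹ * h₀ * α) c = c * zS ^ j := by
        intro c hc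
        obtain ⟨j, hj⟩ := hh₀l _ (aut_mem_center α hc)
        refine ⟨k' * j, ?_⟩
        show α⁻¹ (h₀ (α c)) = _
        rw [hj, map_mul, MulAut.inv_apply_self, map_zpow, hk', zpow_mul]
      have f3 := L1 h₀ (α⁻¹ * h₀ * α) hh₀
        (Subgroup.mul_mem _ (Subgroup.mul_mem _ (Subgroup.inv_mem _ hα) hh₀) hα) hh₀z f1 f2 x hxZ
        ((hh₀c x hxZ).2 hx)
      have f4 : α⁻¹ (h₀ (α x)) = x := f3
      have f5 : α (α⁻¹ (h₀ (α x))) = α x := by rw [f4]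
      rwa [MulAut.apply_inv_self] at f5
    · obtain ⟨hPS, hZP, -⟩ := hP.good hS hF hcardS hzZ hcomm
      obtain ⟨D, h, hDZ, -, hb4', hh, hhz, hhl, hhc⟩ := hdata P hP
      refine ⟨hD₀Z.trans hZP, fun g hg x hx => ?_⟩
      have hxZ := hD₀Z hx
      have g1 : ((⟨x, hPS x.2⟩ : S) : Ω) ∈ D :=
        (hhc ⟨x, hPS x.2⟩ hxZ).1 (L1 h₀ h hh₀ hh hh₀z hhz hhl ⟨x, hPS x.2⟩ hxZ ((hh₀c ⟨x, hPS x.2⟩ hxZ).2 hx))
      have g2 := hb4' g hg x g1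
      have g3 := hDZ g2
      exact (hh₀c ⟨(g x : P), hPS (g x).2⟩ g3).1
        (L1 h h₀ hh hh₀ hhz hh₀z hh₀l ⟨(g x : P), hPS (g x).2⟩ g3 ((hhc ⟨(g x : P), hPS (g x).2⟩ g3).2 g2))
  have hbot : D₀ = ⊥ := le_bot_iff.1 (hcore ▸ le_sSup hnorm)
  intro c hc
  obtain ⟨i, hi⟩ := hb2 c hc
  rw [hbot, Subgroup.mem_bot] at hi
  have : c = z ^ (-i) := by
    rw [zpow_neg]
    exact eq_inv_of_mul_eq_one_left hi
  rw [this]
  exact Subgroup.zpow_mem _ (Subgroup.mem_zpowers z) _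

end FusionSystem
end Cfsg
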