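import Cfsg.Agent.Fus.ModT
import Cfsg.Agent.Fus.Focal
import Mathlib.FieldTheory.Finite.Basic

/-!
The hyperfocal subgroup acts on a strongly closed subgroup `T` through `O^p(Aut_F(T)) Inn(T)` (S5198).
-/

set_option autoImplicit false

namespace Cfsg
namespace FusionSystem

open Agent.Fus

variable {Ω : Type*} [Group Ω] {S : Subgroup Ω}

/-- Restriction of automorphisms of `R` preserving `T ≤ R`. -/
theorem exists_restrict_aut_hom {T R : Subgroup Ω} (hTR : T ≤ R) (D : Subgroup (MulAut R))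
    (hD : ∀ β ∈ D, ∀ x : R, (x : Ω) ∈ T → ((β x : R) : Ω) ∈ T) :
    ∃ Φ : D →* MulAut T, ∀ (β : D) (t : T),
      ((Φ β t : T) : Ω) = (((β : MulAut R) (Subgroup.inclusion hTR t) : R) : Ω) := by
  let f : D → T → T := fun β t => ⟨((β : MulAut R) (Subgroup.inclusion hTR t) : R), hD β β.2 _ t.2⟩
  have hincl : ∀ (β : D) (t : T), Subgroup.inclusion hTR (f β t) = (β : MulAut R) (Subgroup.inclusion hTR t) :=
    fun β t => Subtype.ext rfl
  have hinv : ∀ (β : D) (t : T), f β⁻¹ (f β t) = t := by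
    intro β t
    apply Subtype.ext
    show ((((β⁻¹ : D) : MulAut R) (Subgroup.inclusion hTR (f β t)) : R) : Ω) = t
    rw [hincl]
    simp
  have hinv' : ∀ (β : D) (t : T), f β (f β⁻¹ t) = t := by
    intro β t
    have := hinv β⁻¹ t
    rwa [inv_inv] at this
  let Φ : D → MulAut T := fun β =>
    { toFun := f β, invFun := f β⁻¹, left_inv := hinv β, right_inv := hinv' β,
      map_mul' := fun a b => by
        apply Subtype.ext
        show (((β : MulAut R) (Subgroup.inclusion hTR (a * b)) : R) : Ω) = _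
        rw [map_mul, map_mul]
        rfl }
  refine ⟨MonoidHom.mk' Φ ?_, fun β t => rfl⟩
  intro β γ
  ext t
  show ((((β * γ : D) : MulAut R) (Subgroup.inclusion hTR t) : R) : Ω) =
    (((β : MulAut R) (Subgroup.inclusion hTR (f γ t)) : R) : Ω)
  rw [hincl]
  rfl

/-- The elements of the ambient group acting on `T` as an element of `B`. -/
def actsIn (T : Subgroup Ω) (B : Subgroup (MulAut T)) : Subgroup Ω where
  carrier := {y | ∃ β ∈ B, ∀ t : T, ((β t : T) : Ω) = y * t * y⁻¹}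
  one_mem' := ⟨1, B.one_mem, fun t => by simp⟩
  mul_mem' := by
    rintro a b ⟨β₁, h₁, h₁'⟩ ⟨β₂, h₂, h₂'⟩
    refine ⟨β₁ * β₂, B.mul_mem h₁ h₂, fun t => ?_⟩
    rw [MulAut.mul_apply, h₁', h₂']
    group
  inv_mem' := by
    rintro a ⟨β, h, h'⟩
    refine ⟨β⁻¹, B.inv_mem h, fun t => ?_⟩
    have h1 := h' (β⁻¹ t)
    rw [MulAut.apply_inv_self] at h1
    rw [h1]
    group

theorem hyperfocal_le_actsIn (F : FusionSystem S) [Finite S] {p : ℕ} [Fact p.Prime]
    (hS : IsPGroup p S) (hF : F.IsSaturated p) {T : Subgroup Ω} (hT : F.StronglyClosed T) :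
    F.hyperfocalSubgroup p ≤ actsIn T (opOf p (F.autGroup T) ⊔ Inn T) := by
  have hp : p.Prime := Fact.out
  have hTn := hT.le_normalizer
  rw [hyperfocal_le_iff]
  intro P hP α hα
  rw [opOf_eq_closure] at hα
  induction hα using Subgroup.closure_induction with
  | one => intro x; simp [Subgroup.one_mem]
  | mul a b _ _ iha ihb =>
    intro x
    have h1 := Subgroup.mul_mem _ (ihb x) (iha (b x))
    have h2 : (x : Ω)⁻¹ * ((b x : P) : Ω) * (((b x : P) : Ω)⁻¹ * ((a (b x) : P) : Ω)) =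
        (x : Ω)⁻¹ * (((a * b) x : P) : Ω) := by
      rw [MulAut.mul_apply]; group
    rwa [h2] at h1
  | inv a _ iha =>
    intro x
    have h1 := Subgroup.inv_mem _ (iha (a⁻¹ x))
    rw [MulAut.apply_inv_self] at h1
    have h2 : (((a⁻¹ x : P) : Ω)⁻¹ * (x : Ω))⁻¹ = (x : Ω)⁻¹ * ((a⁻¹ x : P) : Ω) := by group
    rwa [h2] at h1
  | mem α hα =>
    obtain ⟨hαF, hαc⟩ := hα
    intro x
    obtain ⟨ψ, hψ, hψx⟩ := F.exists_map_mod hS hF hT ((F.mem_autGroup_iff hP α).1 hαF)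
    have hRS : P ⊔ T ≤ S := sup_le hP hT.1
    have hfR : Finite ↥(P ⊔ T) := finite_of_le hRS
    have hψR : ∀ y : ↥(P ⊔ T), ψ y ∈ P ⊔ T := by
      refine forall_mem_sup ((P ⊔ T).comap ψ) (fun y => ?_) (fun t => ?_)
      · show ψ _ ∈ P ⊔ T
        have h1 := hψx y
        have h2 : ψ (Subgroup.inclusion le_sup_left y) =
            ((α y : P) : Ω) * ((((α y : P) : Ω))⁻¹ * ψ (Subgroup.inclusion le_sup_left y)) := by group
        rw [h2]
        exact Subgroup.mul_mem _ (Subgroup.mem_sup_left (α y).2) (Subgroup.mem_sup_right h1)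
      · show ψ _ ∈ P ⊔ T
        exact Subgroup.mem_sup_right (hT.map_mem hψ t.2)
    have hmor : F.IsMor (ψ.codRestrict _ hψR) := F.isMor_codRestrict hψ hψR
    have hbij : Function.Bijective (ψ.codRestrict _ hψR) :=
      ⟨hmor.injective F, Finite.surjective_of_injective (hmor.injective F)⟩
    obtain ⟨ψh, hψhF, hψh⟩ : ∃ ψh : MulAut ↥(P ⊔ T), ψh ∈ F.autGroup (P ⊔ T) ∧ ∀ y, ((ψh y : ↥(P ⊔ T)) : Ω) = ψ y :=
      ⟨equivOfBijective _ hbij, (F.mem_autGroup_iff hRS _).2 (F.isMor_equivOfBijective hmor hbij), fun y => rfl⟩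
    -- powers agree modulo `T`
    have hpow : ∀ (i : ℕ) (y : P), (((α ^ i) y : P) : Ω)⁻¹ *
        (((ψh ^ i) (Subgroup.inclusion le_sup_left y) : ↥(P ⊔ T)) : Ω) ∈ T := by
      intro i
      induction i with
      | zero => intro y; simp [T.one_mem]
      | succ i ih =>
        intro y
        rw [pow_succ', pow_succ', MulAut.mul_apply, MulAut.mul_apply]
        set u : P := (α ^ i) y with hu
        set v : ↥(P ⊔ T) := (ψh ^ i) (Subgroup.inclusion le_sup_left y) with hv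
        have h1 : (u : Ω)⁻¹ * (v : Ω) ∈ T := ih y
        have h2 : v = Subgroup.inclusion le_sup_left u * ((Subgroup.inclusion le_sup_left u)⁻¹ * v) := by group
        have h3 : (((ψh ((Subgroup.inclusion le_sup_left u)⁻¹ * v) : ↥(P ⊔ T))) : Ω) ∈ T :=
          hT.aut_mem hRS hψhF h1
        have h4 := hψx u
        rw [← hψh] at h4
        have h5 := T.mul_mem h4 h3
        rw [h2, map_mul]
        have h6 : (((α u : P) : Ω))⁻¹ * ((ψh (Subgroup.inclusion le_sup_left u) *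
            ψh ((Subgroup.inclusion le_sup_left u)⁻¹ * v) : ↥(P ⊔ T)) : Ω) =
            ((P.subtype.comp (MulEquiv.toMonoidHom α)) u)⁻¹ *
              ((ψh (Subgroup.inclusion le_sup_left u) : ↥(P ⊔ T)) : Ω) *
              ((ψh ((Subgroup.inclusion le_sup_left u)⁻¹ * v) : ↥(P ⊔ T)) : Ω) := by
          show _ = (((α u : P) : Ω))⁻¹ * _ * _
          rw [Subgroup.coe_mul, mul_assoc]
        rw [h6]
        exact h5
    -- the exponent
    have ho : orderOf ψh ≠ 0 := (orderOf_pos ψh).ne'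
    set m := (orderOf ψh).factorization p with hm
    set j := (p ^ Nat.totient (orderOf α)) ^ m with hj
    have hj1 : α ^ j = α := by
      have h1 : j ≡ 1 [MOD orderOf α] := by
        have h2 := (Nat.ModEq.pow_totient hαc.symm).pow m
        rwa [one_pow] at h2
      have h3 := pow_eq_pow_iff_modEq.2 h1
      rwa [pow_one] at h3
    have hfP : Finite P := finite_of_le hP
    have htot : 0 < Nat.totient (orderOf α) := Nat.totient_pos.2 (orderOf_pos α)
    have hdvd : p ^ m ∣ j := by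
      rw [hj, ← pow_mul]
      exact pow_dvd_pow p (Nat.le_mul_of_pos_left m htot)
    have hψ'c : Nat.Coprime (orderOf (ψh ^ j)) p := by
      have h1 : (ψh ^ j) ^ (orderOf ψh / p ^ m) = 1 := by
        obtain ⟨c, hc⟩ := hdvd
        rw [← pow_mul, hc, mul_right_comm, Nat.mul_div_cancel' (Nat.ordProj_dvd _ _), pow_mul,
          pow_orderOf_eq_one, one_pow]
      exact Nat.Coprime.coprime_dvd_left (orderOf_dvd_of_pow_eq_one h1)
        (Nat.coprime_ordCompl hp ho).symm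
    have hψ'F : ψh ^ j ∈ F.autGroup (P ⊔ T) := Subgroup.pow_mem _ hψhF _
    obtain ⟨Φ, hΦ⟩ := exists_restrict_aut_hom (le_sup_right : T ≤ P ⊔ T) (F.autGroup (P ⊔ T))
      (fun β hβ y hy => hT.aut_mem hRS hβ hy)
    set τ : MulAut T := Φ ⟨ψh ^ j, hψ'F⟩ with hτ
    have hτapp : ∀ t : T, ((τ t : T) : Ω) = (((ψh ^ j) (Subgroup.inclusion le_sup_right t) : ↥(P ⊔ T)) : Ω) :=
      fun t => hΦ ⟨ψh ^ j, hψ'F⟩ t
    have hτF : τ ∈ F.autGroup T := by
      rw [F.mem_autGroup_iff hT.1]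
      have h1 := F.restrict_mem ((F.mem_autGroup_iff hRS _).1 hψ'F) (le_sup_right : T ≤ P ⊔ T)
      have h2 : T.subtype.comp τ.toMonoidHom = ((P ⊔ T).subtype.comp (MulEquiv.toMonoidHom (ψh ^ j))).comp
          (Subgroup.inclusion le_sup_right) := by
        ext t
        exact hτapp t
      unfold IsMor
      rw [h2]
      exact h1
    have hτc : Nat.Coprime (orderOf τ) p := by
      have h1 : orderOf τ ∣ orderOf (⟨ψh ^ j, hψ'F⟩ : F.autGroup (P ⊔ T)) := orderOf_map_dvd Φ _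
      rw [← Subgroup.orderOf_coe] at h1
      exact Nat.Coprime.coprime_dvd_left h1 hψ'c
    have hτO : τ ∈ opOf p (F.autGroup T) := by
      rw [opOf_eq_closure]
      exact Subgroup.subset_closure ⟨hτF, hτc⟩
    -- the elements
    have hxS : (x : Ω) ∈ S := hP x.2
    set cx : MulAut T := conjAut (x : Ω) (hTn hxS) with hcx
    have hcxF : cx ∈ F.autGroup T := F.autInducedBy_le_autGroup hT.1 (conjAut_mem (hTn hxS) hxS)
    set X : ↥(P ⊔ T) := Subgroup.inclusion le_sup_left x with hX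
    have ht₀ : (((ψh ^ j) X : ↥(P ⊔ T)) : Ω)⁻¹ * ((α x : P) : Ω) ∈ T := by
      have h1 := T.inv_mem (hpow j x)
      rw [hj1] at h1
      have h2 : ((((α x : P) : Ω))⁻¹ * (((ψh ^ j) X : ↥(P ⊔ T)) : Ω))⁻¹ =
          (((ψh ^ j) X : ↥(P ⊔ T)) : Ω)⁻¹ * ((α x : P) : Ω) := by group
      rwa [h2] at h1
    refine ⟨(cx⁻¹ * τ * cx⁻¹⁻¹ * τ⁻¹) * MulAut.conj ⟨_, ht₀⟩, ?_, fun t => ?_⟩
    · refine Subgroup.mul_mem _ (Subgroup.mem_sup_left ?_) (Subgroup.mem_sup_right ⟨_, rfl⟩)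
      exact Subgroup.mul_mem _ (opOf_normal p _ hτO (Subgroup.inv_mem _ hcxF)) (Subgroup.inv_mem _ hτO)
    · -- pointwise computation
      have hconj : ∀ s : T, ((τ (cx (τ⁻¹ s)) : T) : Ω) =
          (((ψh ^ j) X : ↥(P ⊔ T)) : Ω) * s * (((ψh ^ j) X : ↥(P ⊔ T)) : Ω)⁻¹ := by
        intro s
        rw [hτapp]
        have h1 : Subgroup.inclusion (le_sup_right : T ≤ P ⊔ T) (cx (τ⁻¹ s)) =
            X * Subgroup.inclusion le_sup_right (τ⁻¹ s) * X⁻¹ := Subtype.ext rfl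
        rw [h1, map_mul, map_mul, map_inv]
        have h2 : (((ψh ^ j) (Subgroup.inclusion le_sup_right (τ⁻¹ s)) : ↥(P ⊔ T)) : Ω) = s := by
          rw [← hτapp, MulAut.apply_inv_self]
        rw [Subgroup.coe_mul, Subgroup.coe_mul, Subgroup.coe_inv, h2]
      have hcxinv : ∀ s : T, ((cx⁻¹ s : T) : Ω) = (x : Ω)⁻¹ * s * x := by
        intro s
        have h1 : ((cx (cx⁻¹ s) : T) : Ω) = (x : Ω) * ((cx⁻¹ s : T) : Ω) * (x : Ω)⁻¹ := rfl
        rw [MulAut.apply_inv_self] at h1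
        rw [h1]
        group
      rw [inv_inv]
      simp only [MulAut.mul_apply]
      rw [hcxinv, hconj]
      show (x : Ω)⁻¹ * ((((ψh ^ j) X : ↥(P ⊔ T)) : Ω) *
        (((((ψh ^ j) X : ↥(P ⊔ T)) : Ω)⁻¹ * ((α x : P) : Ω)) * t *
          ((((ψh ^ j) X : ↥(P ⊔ T)) : Ω)⁻¹ * ((α x : P) : Ω))⁻¹) *
        (((ψh ^ j) X : ↥(P ⊔ T)) : Ω)⁻¹) * x = _
      group

end FusionSystem
end Cfsg
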