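import Cfsg.Agent.Fus.Quot
import Cfsg.Agent.Lib.Helper27.FusTransport
import Cfsg.Agent.Fus.HypAut

/-!
Two constructions of fusion systems: the lift to `S` of a system over a strongly closed subgroup `T`, and the
system `Aut_F(T) · E` over `T` attached to an `Aut_F(T)`-invariant subsystem `E`.
-/

set_option autoImplicit false

namespace Cfsg
namespace FusionSystem

open Cfsg.Agent.Fus Cfsg.Agent.Lib.Helper27.Fus

variable {Ω : Type*} [Group Ω] {S T : Subgroup Ω}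

/-- The maps of `F` whose restriction to the trace on `T` lies in `D`. -/
def liftSys (F : FusionSystem S) (hT : F.StronglyClosed T) (D : FusionSystem T)
    (hconj : ∀ (P : Subgroup Ω) (g : Ω), P ≤ T → g ∈ S → conjHom P g ∈ D.Hom P) : FusionSystem S where
  Hom P := {φ | φ ∈ F.Hom P ∧ φ.comp (Subgroup.inclusion (inf_le_left : P ⊓ T ≤ P)) ∈ D.Hom (P ⊓ T)}
  le_of_mem h := F.le_of_mem h.1
  injective_of_mem h := F.injective_of_mem h.1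
  conj_mem := fun hP hg => ⟨F.conj_mem hP hg, hconj _ _ inf_le_right hg⟩
  comp_mem := by
    rintro P Q φ ψ ⟨h1, h2⟩ ⟨h3, h4⟩ h
    refine ⟨F.comp_mem h1 h3 h, ?_⟩
    have h5 : ∀ x : ↥(P ⊓ T), (φ.comp (Subgroup.inclusion (inf_le_left : P ⊓ T ≤ P))) x ∈ Q ⊓ T :=
      fun x => ⟨h _, hT.map_mem h1 x.2.2⟩
    exact D.comp_mem h2 h4 h5
  inv_mem := by
    rintro P φ ⟨h1, h2⟩
    obtain ⟨ψ, hψ, hψx⟩ := F.inv_mem h1
    refine ⟨ψ, ⟨hψ, ?_⟩, hψx⟩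
    obtain ⟨χ, hχ, hχx⟩ := D.inv_mem h2
    have heq : (φ.comp (Subgroup.inclusion (inf_le_left : P ⊓ T ≤ P))).range = φ.range ⊓ T := by
      ext y
      constructor
      · rintro ⟨x, rfl⟩
        exact ⟨⟨_, rfl⟩, hT.map_mem h1 x.2.2⟩
      · rintro ⟨⟨x, rfl⟩, hy⟩
        exact ⟨⟨x, x.2, (hT.map_mem_iff h1).1 hy⟩, rfl⟩
    refine D.hom_congr heq hχ _ ?_
    rintro _ ⟨x, rfl⟩ hy'
    rw [hχx]
    exact hψx _

theorem mem_liftSys_hom {F : FusionSystem S} {hT : F.StronglyClosed T} {D : FusionSystem T}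
    {hconj : ∀ (P : Subgroup Ω) (g : Ω), P ≤ T → g ∈ S → conjHom P g ∈ D.Hom P} {P : Subgroup Ω}
    {φ : P →* Ω} : φ ∈ (F.liftSys hT D hconj).Hom P ↔
      φ ∈ F.Hom P ∧ φ.comp (Subgroup.inclusion (inf_le_left : P ⊓ T ≤ P)) ∈ D.Hom (P ⊓ T) := Iff.rfl

/-- The invariance clause of `IsInvariantIn`. -/
def AutInvariantIn (E : FusionSystem T) (F : FusionSystem S) : Prop :=
  ∀ (P : Subgroup Ω) (hPT : P ≤ T) (φ : P →* Ω), φ ∈ E.Hom P → ∀ α ∈ F.autGroup T,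
    ∃ χ ∈ E.Hom ((P.subgroupOf T).map (T.subtype.comp α.toMonoidHom)),
      ∀ (x : P) (hφx : φ x ∈ T)
        (hαx : ((α ⟨x, hPT x.2⟩ : T) : Ω) ∈ (P.subgroupOf T).map (T.subtype.comp α.toMonoidHom)),
        χ ⟨(α ⟨x, hPT x.2⟩ : T), hαx⟩ = ((α ⟨φ x, hφx⟩ : T) : Ω)

/-- The system `Aut_F(T) · E`. -/
def autMulSys (F : FusionSystem S) (hTS : T ≤ S) (E : FusionSystem T)
    (hinv : E.AutInvariantIn F) : FusionSystem T where
  Hom P := {φ | φ ∈ F.Hom P ∧ ∃ α ∈ F.autGroup T, ∃ φ₀ ∈ E.Hom P,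
    ∀ (x : P) (hx : φ₀ x ∈ T), φ x = ((α ⟨φ₀ x, hx⟩ : T) : Ω)}
  le_of_mem := by
    rintro P φ ⟨-, α, -, φ₀, hφ₀, h⟩
    refine ⟨(E.le_of_mem hφ₀).1, fun x => ?_⟩
    rw [h x ((E.le_of_mem hφ₀).2 x)]
    exact (α _).2
  injective_of_mem h := F.injective_of_mem h.1
  conj_mem := by
    intro P g hP hg
    exact ⟨F.conj_mem (hP.trans hTS) (hTS hg), 1, Subgroup.one_mem _, _, E.conj_mem hP hg, fun x hx => rfl⟩
  comp_mem := by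
    rintro P Q φ ψ ⟨h1, α, hα, φ₀, hφ₀, hφ⟩ ⟨h2, β, hβ, ψ₀, hψ₀, hψ⟩ h
    refine ⟨F.comp_mem h1 h2 h, β * α, Subgroup.mul_mem _ hβ hα, ?_⟩
    have hQT : Q ≤ T := (E.le_of_mem hψ₀).1
    obtain ⟨χ, hχ, hχx⟩ := hinv Q hQT ψ₀ hψ₀ α⁻¹ (Subgroup.inv_mem _ hα)
    have hφ₀T := (E.le_of_mem hφ₀).2
    have hψ₀T := (E.le_of_mem hψ₀).2
    have hkey : ∀ x : P, φ₀ x = ((α⁻¹ ⟨φ x, hQT (h x)⟩ : T) : Ω) := by
      intro x
      have h3 : (⟨φ x, hQT (h x)⟩ : T) = α ⟨φ₀ x, hφ₀T x⟩ := Subtype.ext (hφ x _)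
      rw [h3, MulAut.inv_apply_self]
    have h4 : ∀ x : P, φ₀ x ∈ (Q.subgroupOf T).map (T.subtype.comp (α⁻¹ : MulAut T).toMonoidHom) := by
      intro x
      rw [hkey x]
      exact apply_mem_imgAut α⁻¹ (x := ⟨φ x, hQT (h x)⟩) (h x)
    refine ⟨_, E.comp_mem hφ₀ hχ h4, fun x hx => ?_⟩
    show ψ ⟨φ x, h x⟩ = ((β (α ⟨χ ⟨φ₀ x, h4 x⟩, hx⟩) : T) : Ω)
    rw [hψ ⟨φ x, h x⟩ (hψ₀T _)]
    have h5 := hχx ⟨φ x, h x⟩ (hψ₀T _) (by rw [← hkey x]; exact h4 x)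
    have h6 : (⟨φ₀ x, h4 x⟩ : ↥((Q.subgroupOf T).map (T.subtype.comp (α⁻¹ : MulAut T).toMonoidHom))) =
        ⟨((α⁻¹ ⟨φ x, hQT (h x)⟩ : T) : Ω), by rw [← hkey x]; exact h4 x⟩ := Subtype.ext (hkey x)
    have h7 : (⟨χ ⟨φ₀ x, h4 x⟩, hx⟩ : T) = α⁻¹ ⟨ψ₀ ⟨φ x, h x⟩, hψ₀T _⟩ := by
      apply Subtype.ext
      show χ ⟨φ₀ x, h4 x⟩ = _
      rw [h6]; exact h5
    rw [h7, MulAut.apply_inv_self]
  inv_mem := by
    rintro P φ ⟨h1, α, hα, φ₀, hφ₀, hφ⟩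
    obtain ⟨ψ, hψ, hψx⟩ := F.inv_mem h1
    refine ⟨ψ, ⟨hψ, α⁻¹, Subgroup.inv_mem _ hα, ?_⟩, hψx⟩
    obtain ⟨ψ₀, hψ₀, hψ₀x⟩ := E.inv_mem hφ₀
    have hPT : P ≤ T := (E.le_of_mem hφ₀).1
    have hφ₀T := (E.le_of_mem hφ₀).2
    have hrT : φ₀.range ≤ T := (E.le_of_mem hψ₀).1
    obtain ⟨χ, hχ, hχx⟩ := hinv φ₀.range hrT ψ₀ hψ₀ α hα
    have heq : (φ₀.range.subgroupOf T).map (T.subtype.comp α.toMonoidHom) = φ.range := by
      ext y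
      constructor
      · rintro ⟨t, ht, rfl⟩
        obtain ⟨x, hx⟩ := Subgroup.mem_subgroupOf.1 ht
        refine ⟨x, ?_⟩
        rw [hφ x (hφ₀T x)]
        show ((α _ : T) : Ω) = ((α t : T) : Ω)
        congr 2
        exact Subtype.ext hx
      · rintro ⟨x, rfl⟩
        rw [hφ x (hφ₀T x)]
        exact apply_mem_imgAut α (x := ⟨φ₀ x, hφ₀T x⟩) ⟨x, rfl⟩
    refine ⟨χ.comp (Subgroup.inclusion heq.ge), E.hom_congr heq hχ _ (fun _ _ _ => rfl), ?_⟩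
    rintro ⟨_, x, rfl⟩ hx
    rw [hψx]
    have h3 := hχx ⟨φ₀ x, ⟨x, rfl⟩⟩ (by rw [hψ₀x]; exact hPT x.2)
      (apply_mem_imgAut α (x := ⟨φ₀ x, hφ₀T x⟩) ⟨x, rfl⟩)
    have h4 : (⟨(χ.comp (Subgroup.inclusion heq.ge)) ⟨φ x, ⟨x, rfl⟩⟩, hx⟩ : T) = α ⟨x, hPT x.2⟩ := by
      apply Subtype.ext
      show χ _ = _
      have h5 : (Subgroup.inclusion heq.ge ⟨φ x, ⟨x, rfl⟩⟩ :
          ↥((φ₀.range.subgroupOf T).map (T.subtype.comp α.toMonoidHom))) =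
          ⟨((α ⟨φ₀ x, hφ₀T x⟩ : T) : Ω), apply_mem_imgAut α (x := ⟨φ₀ x, hφ₀T x⟩) ⟨x, rfl⟩⟩ :=
        Subtype.ext (hφ x _)
      rw [h5, h3]
      congr 2
      exact Subtype.ext (hψ₀x x)
    rw [h4, MulAut.inv_apply_self]

theorem restrict_mem_autGroup (F : FusionSystem S) {R P : Subgroup Ω} (hRP : R ≤ P) (hP : P ≤ S)
    {β : MulAut P} (hβ : β ∈ F.autGroup P) (ρ : MulAut R)
    (hρ : ∀ t : R, ((ρ t : R) : Ω) = ((β (Subgroup.inclusion hRP t) : P) : Ω)) : ρ ∈ F.autGroup R := by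
  rw [F.mem_autGroup_iff (hRP.trans hP)]
  have h1 := F.restrict_mem ((F.mem_autGroup_iff hP β).1 hβ) hRP
  have h2 : R.subtype.comp ρ.toMonoidHom =
      (P.subtype.comp β.toMonoidHom).comp (Subgroup.inclusion hRP) := by
    ext t; exact hρ t
  show R.subtype.comp ρ.toMonoidHom ∈ F.Hom R
  rw [h2]; exact h1

theorem autMulSys_conj (F : FusionSystem S) (hT : F.StronglyClosed T) (E : FusionSystem T)
    (hinv : E.AutInvariantIn F) (P : Subgroup Ω) (g : Ω) (hP : P ≤ T) (hg : g ∈ S) :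
    conjHom P g ∈ (F.autMulSys hT.1 E hinv).Hom P := by
  have hgN : g ∈ Subgroup.normalizer (T : Set Ω) := hT.le_normalizer hg
  exact ⟨F.conj_mem (hP.trans hT.1) hg, conjAut g hgN, F.autInducedBy_le_autGroup hT.1 (conjAut_mem hgN hg),
    P.subtype, E.subtype_mem hP, fun x hx => rfl⟩

/-- The maps of `F` satisfying the Frattini condition on their trace on `T`. -/
def frattiniSys (F : FusionSystem S) (hT : F.StronglyClosed T) (E : FusionSystem T)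
    (hinv : E.AutInvariantIn F) : FusionSystem S :=
  F.liftSys hT (F.autMulSys hT.1 E hinv) (F.autMulSys_conj hT E hinv)

theorem frattini_of_le {F : FusionSystem S} {hT : F.StronglyClosed T} {E : FusionSystem T}
    {hinv : E.AutInvariantIn F} (h : F ≤ F.frattiniSys hT E hinv) (P : Subgroup Ω) (hP : P ≤ T)
    (φ : P →* Ω) (hφ : φ ∈ F.Hom P) :
    ∃ α ∈ F.autGroup T, ∃ φ₀ ∈ E.Hom P, ∀ (x : P) (hx : φ₀ x ∈ T), φ x = ((α ⟨φ₀ x, hx⟩ : T) : Ω) := by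
  obtain ⟨-, -, α, hα, φ₀, hφ₀, h1⟩ := h P hφ
  have heq : P ⊓ T = P := inf_eq_left.2 hP
  refine ⟨α, hα, φ₀.comp (Subgroup.inclusion heq.ge), E.hom_congr heq hφ₀ _ (fun _ _ _ => rfl), ?_⟩
  intro x hx
  exact h1 (Subgroup.inclusion heq.ge x) hx

theorem mem_frattiniSys_of_mem {F : FusionSystem S} {hT : F.StronglyClosed T} {E : FusionSystem T}
    {hinv : E.AutInvariantIn F} {P : Subgroup Ω} {φ : P →* Ω} (hφ : φ ∈ F.Hom P)
    (h : φ.comp (Subgroup.inclusion (inf_le_left : P ⊓ T ≤ P)) ∈ E.Hom (P ⊓ T)) :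
    φ ∈ (F.frattiniSys hT E hinv).Hom P :=
  ⟨hφ, F.restrict_mem hφ inf_le_left, 1, Subgroup.one_mem _, _, h, fun _ _ => rfl⟩

theorem autGroup_le_frattiniSys_of_le (F : FusionSystem S) (hT : F.StronglyClosed T) (E : FusionSystem T)
    (hinv : E.AutInvariantIn F) {P : Subgroup Ω} (hP : P ≤ S) (hTP : T ≤ P) :
    F.autGroup P ≤ (F.frattiniSys hT E hinv).autGroup P := by
  intro β hβ
  rw [mem_autGroup_iff _ hP]
  have hβm := (F.mem_autGroup_iff hP β).1 hβ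
  obtain ⟨Φ, hΦ⟩ := exists_restrict_aut_hom hTP (F.autGroup P) (fun γ hγ x hx => hT.aut_mem hP hγ hx)
  refine ⟨hβm, F.restrict_mem hβm inf_le_left, Φ ⟨β, hβ⟩,
    F.restrict_mem_autGroup hTP hP hβ _ (hΦ ⟨β, hβ⟩), _, E.subtype_mem inf_le_right, fun x hx => ?_⟩
  rw [hΦ]
  rfl

end FusionSystem
end Cfsg
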