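import Cfsg.Agent.Fus.CenterIdxOdd
import Cfsg.Agent.Fus.Lift

/-!
Saturated fusion systems over `2`-groups whose centre has index `4`: essential subgroups.
-/

set_option autoImplicit false

namespace Cfsg
namespace FusionSystem

open Cfsg.Agent.Fus

variable {Ω : Type*} [Group Ω] {S : Subgroup Ω} [Finite S]

theorem zpow_eq_one_or_self {X : Type*} [Group X] {a : X} (ha : a ^ 2 = 1) (i : ℤ) : a ^ i = 1 ∨ a ^ i = a := by
  rcases Int.even_or_odd' i with ⟨k, rfl | rfl⟩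
  · left
    rw [zpow_mul, zpow_ofNat, ha, one_zpow]
  · right
    rw [zpow_add, zpow_mul, zpow_ofNat, ha, one_zpow, one_mul, zpow_one]

/-- The data attached to an essential subgroup. -/
structure TwoData (F : FusionSystem S) (z : Ω) (E : Subgroup Ω) (y : Ω) (D : Subgroup Ω) : Prop where
  hES : E ≤ S
  hZE : centralizerIn S S ≤ E
  hEab : ∀ a ∈ E, ∀ b ∈ E, a * b = b * a
  hcS : Nat.card S = 2 * Nat.card E
  hyE : y ∈ E
  hy2 : y ^ 2 = 1
  hyZ : y ∉ centralizerIn S S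
  hdE : ∀ e ∈ E, ∃ i : ℤ, ∃ c ∈ centralizerIn S S, e = y ^ i * c
  hDZ : D ≤ centralizerIn S S
  hb2 : ∀ c ∈ centralizerIn S S, ∃ i : ℤ, c * z ^ i ∈ D
  hb3 : ∀ i : ℤ, z ^ i ∈ D → z ^ i = 1
  hb4 : ∀ g ∈ F.autGroup E, ∀ x : E, (x : Ω) ∈ D → ((g x : E) : Ω) ∈ D
  hb5 : ∀ g ∈ F.autGroup E, ∀ x : E, (x : Ω) ∈ Subgroup.closure ({z, y} : Set Ω) →
    ((g x : E) : Ω) ∈ Subgroup.closure ({z, y} : Set Ω)
  hb6 : ∀ g ∈ F.autGroup E, ∃ α ∈ F.autGroup S,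
    (∀ x : E, (x : Ω) ∈ D → ((g x : E) : Ω) = (α ⟨x, hES x.2⟩ : S)) ∧
    ∀ x : E, ((α ⟨x, hES x.2⟩ : S) : Ω)⁻¹ * (g x : E) ∈ Subgroup.closure ({z, y} : Set Ω)

section Two

variable (hS : IsPGroup 2 S) (F : FusionSystem S) (hF : F.IsSaturated 2) {z : Ω}
  (hzZ : z ∈ centralizerIn S S) (hz1 : z ≠ 1) (hz2 : z ^ 2 = 1)
  (hcomm : ∀ a ∈ S, ∀ b ∈ S, a * b * a⁻¹ * b⁻¹ ∈ Subgroup.zpowers z)
  (hcardS : Nat.card S = 2 ^ 2 * Nat.card (centralizerIn S S))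

include hS hF hzZ hz1 hz2 hcomm hcardS in
theorem exists_twoData {E : Subgroup Ω} (hE : F.IsEssential 2 E) : ∃ y D, TwoData F z E y D := by
  obtain ⟨hES, hZE, hEab, hc2, hc1, hne⟩ := hE.good hS hF hcardS hzZ hcomm
  obtain ⟨y, D, hyE, hy2, ⟨g, hg, hgy⟩, hDZ, hb2, hb3, hb4, hb5, hb6, -⟩ :=
    good_struct hS F hF hzZ hz1 hz2 hcomm hES hZE hEab hc2 hne
  have hyZ : y ∉ centralizerIn S S := by
    intro h
    rw [(mem_centralizerIn.1 h).2 g hg, mul_inv_cancel_right] at hgy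
    apply hz1
    have : y * 1 = y * z := by rw [mul_one]; exact hgy
    exact (mul_left_cancel this).symm
  have hfE : Finite E := finite_of_le hES
  obtain ⟨hd, -⟩ := exists_zpow_mul_of_card hZE (fun k hk h hh => by
    rw [(mem_centralizerIn.1 hh).2 k (hES hk), mul_inv_cancel_right]; exact hh) hc1 hyE hyZ
  exact ⟨y, D, ⟨hES, hZE, hEab, hc2, hyE, hy2, hyZ, hd, hDZ, hb2, hb3, hb4, hb5, hb6⟩⟩

variable {F}

include hzZ hcomm in
theorem TwoData.decomp {E : Subgroup Ω} {y : Ω} {D : Subgroup Ω} (h : TwoData F z E y D) {t : Ω}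
    (htS : t ∈ S) (htE : t ∉ E) : ∀ g ∈ S, ∃ i : ℤ, ∃ e ∈ E, g = t ^ i * e :=
  (exists_zpow_mul_of_card h.hES (fun _ hk _ hh => good_conj_mem hzZ hcomm h.hES h.hZE hk hh) h.hcS htS htE).1

include hzZ hcomm in
theorem TwoData.not_comm {E : Subgroup Ω} {y : Ω} {D : Subgroup Ω} (h : TwoData F z E y D) {t : Ω}
    (htS : t ∈ S) (htE : t ∉ E) : t * y ≠ y * t := by
  intro hty
  apply h.hyZ
  refine mem_centralizerIn.2 ⟨h.hES h.hyE, fun g hg => ?_⟩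
  obtain ⟨i, e, he, rfl⟩ := h.decomp hzZ hcomm htS htE g hg
  have e1 : Commute (t ^ i) y := Commute.zpow_left hty i
  have e2 : Commute e y := h.hEab e he y h.hyE
  exact (e1.mul_left e2).eq

include hzZ hz2 hcomm in
theorem sq_eq_of_involutions {a b c : Ω} (ha : a ∈ S) (hb : b ∈ S) (ha2 : a ^ 2 = 1) (hb2 : b ^ 2 = 1)
    (hab : a * b ≠ b * a) (hc : c ∈ centralizerIn S S) (h : (a * b * c) ^ 2 = 1) : c ^ 2 = z := by
  obtain ⟨k, hk⟩ := Subgroup.mem_zpowers_iff.1 (hcomm a ha b hb)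
  have hai : a⁻¹ = a := by
    rw [inv_eq_iff_mul_eq_one, ← pow_two]; exact ha2
  have hbi : b⁻¹ = b := by
    rw [inv_eq_iff_mul_eq_one, ← pow_two]; exact hb2
  have hzi : z⁻¹ = z := by
    rw [inv_eq_iff_mul_eq_one, ← pow_two]; exact hz2
  have h1 : a * b * a * b = z := by
    rcases zpow_eq_one_or_self hz2 k with h2 | h2
    · exfalso
      apply hab
      rw [h2] at hk
      calc a * b = (a * b * a⁻¹ * b⁻¹) * (b * a) := by group
        _ = b * a := by rw [← hk, one_mul]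
    · rw [h2, hai, hbi] at hk
      exact hk.symm
  have hcc := (mem_centralizerIn.1 hc).2
  have h3 : (a * b * c) ^ 2 = (a * b * a * b) * c ^ 2 := by
    rw [pow_two, pow_two]
    calc a * b * c * (a * b * c) = a * b * (c * (a * b)) * c := by group
      _ = a * b * ((a * b) * c) * c := by rw [hcc (a * b) (S.mul_mem ha hb)]
      _ = a * b * a * b * (c * c) := by group
  rw [h3, h1] at h
  calc c ^ 2 = z⁻¹ * (z * c ^ 2) := by group
    _ = z := by rw [h, mul_one, hzi]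

include hzZ hz1 hz2 in
theorem TwoData.sq_ne {E : Subgroup Ω} {y : Ω} {D : Subgroup Ω} (h : TwoData F z E y D) {c : Ω}
    (hc : c ∈ centralizerIn S S) : c ^ 2 ≠ z := by
  intro hcz
  obtain ⟨i, hi⟩ := h.hb2 c hc
  have h1 : (c * z ^ i) ^ 2 = c ^ 2 := by
    have e1 : Commute c (z ^ i) := ((mem_centralizerIn.1 hc).2 _
      (S.zpow_mem (mem_centralizerIn.1 hzZ).1 i)).symm
    have e2 : (z ^ i) ^ 2 = 1 := by
      rw [← zpow_natCast, ← zpow_mul, mul_comm, zpow_mul, zpow_natCast, hz2, one_zpow]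
    rw [e1.mul_pow, e2, mul_one]
  have h2 : z ^ (1 : ℤ) ∈ D := by
    rw [zpow_one, ← hcz, ← h1]
    exact D.pow_mem hi 2
  have h3 := h.hb3 1 h2
  rw [zpow_one] at h3
  exact hz1 h3

theorem TwoData.eq_of_mem {E : Subgroup Ω} {y : Ω} {D : Subgroup Ω} (h : TwoData F z E y D)
    {E' : Subgroup Ω} (hE'S : E' ≤ S) (hZE' : centralizerIn S S ≤ E') (hc : Nat.card S = 2 * Nat.card E')
    (hy : y ∈ E') : E = E' := by
  have hfE : Finite E' := finite_of_le hE'S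
  apply Subgroup.eq_of_le_of_card_ge
  · intro e he
    obtain ⟨i, c, hc', rfl⟩ := h.hdE e he
    exact E'.mul_mem (E'.zpow_mem hy i) (hZE' hc')
  · have := h.hcS
    omega

theorem TwoData.pr_of_y {E : Subgroup Ω} {y : Ω} {D : Subgroup Ω} (h : TwoData F z E y D) (β : MulAut S)
    (hβ : ((β ⟨y, h.hES h.hyE⟩ : S) : Ω) ∈ E) (x : S) (hx : (x : Ω) ∈ E) : ((β x : S) : Ω) ∈ E := by
  obtain ⟨i, c, hc, hxe⟩ := h.hdE x hx
  have h1 : x = (⟨y, h.hES h.hyE⟩ : S) ^ i * ⟨c, (mem_centralizerIn.1 hc).1⟩ := Subtype.ext (by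
    rw [Subgroup.coe_mul, Subgroup.coe_zpow]
    exact hxe)
  rw [h1, map_mul, map_zpow, Subgroup.coe_mul, Subgroup.coe_zpow]
  exact E.mul_mem (E.zpow_mem hβ i) (h.hZE (aut_mem_center β hc))

include hzZ hz1 hz2 hcomm in
theorem TwoData.pr_or_pr_sq {E : Subgroup Ω} {y : Ω} {D : Subgroup Ω} (h : TwoData F z E y D)
    (α : MulAut S) :
    ((α ⟨y, h.hES h.hyE⟩ : S) : Ω) ∈ E ∨ ((α (α ⟨y, h.hES h.hyE⟩) : S) : Ω) ∈ E := by
  by_cases h1 : ((α ⟨y, h.hES h.hyE⟩ : S) : Ω) ∈ E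
  · exact Or.inl h1
  right
  set yS : S := ⟨y, h.hES h.hyE⟩ with hyS
  set y' : S := α yS with hy'
  have hyS2 : yS ^ 2 = 1 := Subtype.ext h.hy2
  have hy'2 : y' ^ 2 = 1 := by rw [hy', ← map_pow, hyS2, map_one]
  have hy'2' : (y' : Ω) ^ 2 = 1 := congrArg Subtype.val hy'2
  have hy''2 : ((α y' : S) : Ω) ^ 2 = 1 := by
    have : (α y') ^ 2 = 1 := by rw [← map_pow, hy'2, map_one]
    exact congrArg Subtype.val this
  obtain ⟨i, e, he, hie⟩ := h.decomp hzZ hcomm y'.2 h1 _ (α y').2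
  rcases zpow_eq_one_or_self hy'2' i with hi | hi
  · rw [hie, hi, one_mul]
    exact he
  exfalso
  rw [hi] at hie
  obtain ⟨j, c, hc, rfl⟩ := h.hdE e he
  rcases zpow_eq_one_or_self h.hy2 j with hj | hj
  · rw [hj, one_mul] at hie
    apply h1
    have hcS : c ∈ S := (mem_centralizerIn.1 hc).1
    have e1 : α y' = α (yS * α⁻¹ ⟨c, hcS⟩) := by
      rw [map_mul, MulAut.apply_inv_self]
      exact Subtype.ext hie
    have e2 : y' = yS * α⁻¹ ⟨c, hcS⟩ := α.injective e1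
    rw [e2, Subgroup.coe_mul]
    exact E.mul_mem h.hyE (h.hZE (aut_mem_center α⁻¹ hc))
  · rw [hj, ← mul_assoc] at hie
    rw [hie] at hy''2
    exact h.sq_ne hzZ hz1 hz2 hc
      (sq_eq_of_involutions hzZ hz2 hcomm y'.2 (h.hES h.hyE) hy'2' h.hy2 (h.not_comm hzZ hcomm y'.2 h1) hc hy''2)

include hS hF hzZ hz1 hz2 hcomm in
theorem TwoData.aut_mem {E : Subgroup Ω} {y : Ω} {D : Subgroup Ω} (h : TwoData F z E y D)
    {α : MulAut S} (hα : α ∈ F.autGroup S) (x : S) (hx : (x : Ω) ∈ E) : ((α x : S) : Ω) ∈ E := by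
  rcases h.pr_or_pr_sq hzZ hz1 hz2 hcomm α with h1 | h1
  · exact h.pr_of_y α h1 x hx
  have hsq : ∀ x : S, (x : Ω) ∈ E → (((α ^ 2) x : S) : Ω) ∈ E := h.pr_of_y (α ^ 2) (by
    rw [pow_two]; exact h1)
  obtain ⟨m, hm, hmem⟩ := F.exists_pow_mem_autInducedBy_self hS hF hα
  obtain ⟨g, hg, hg'⟩ := (mem_autInducedBy_iff _).1 hmem
  have hinn : ∀ x : S, (x : Ω) ∈ E → (((α ^ m) x : S) : Ω) ∈ E := by
    intro x hx
    rw [hg']
    exact good_conj_mem hzZ hcomm h.hES h.hZE hg hx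
  have hpow : ∀ (β : MulAut S), (∀ x : S, (x : Ω) ∈ E → ((β x : S) : Ω) ∈ E) → ∀ n : ℕ,
      ∀ x : S, (x : Ω) ∈ E → (((β ^ n) x : S) : Ω) ∈ E := by
    intro β hβ n
    induction n with
    | zero => intro x hx; simpa using hx
    | succ n ih =>
      intro x hx
      rw [pow_succ, MulAut.mul_apply]
      exact ih _ (hβ x hx)
  obtain ⟨r, hr⟩ : ∃ r, m = 2 * r + 1 := by
    have : m % 2 = 1 := by omega
    exact ⟨m / 2, by omega⟩
  obtain ⟨o, ho⟩ : ∃ o, orderOf α = o + 1 := ⟨orderOf α - 1, by have := orderOf_pos α; omega⟩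
  have key : α = α ^ m * (α ^ 2) ^ (r * o) := by
    rw [← pow_mul, ← pow_add, hr]
    have e1 : 2 * r + 1 + 2 * (r * o) = 1 + (o + 1) * (2 * r) := by ring
    rw [e1, pow_add, pow_mul, ← ho, pow_orderOf_eq_one, one_pow, mul_one, pow_one]
  rw [key, MulAut.mul_apply]
  exact hinn _ (hpow _ hsq _ x hx)

include hS hF hzZ hz1 hz2 hcomm in
theorem TwoData.exists_restrict {E : Subgroup Ω} {y : Ω} {D : Subgroup Ω} (h : TwoData F z E y D)
    {α : MulAut S} (hα : α ∈ F.autGroup S) :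
    ∃ ρ ∈ F.autGroup E, ∀ x : E, ((ρ x : E) : Ω) = (α ⟨x, h.hES x.2⟩ : S) := by
  have h1 := fun x hx => h.aut_mem hS hF hzZ hz1 hz2 hcomm hα x hx
  have h2 := fun x hx => h.aut_mem hS hF hzZ hz1 hz2 hcomm (Subgroup.inv_mem _ hα) x hx
  let ρ : MulAut E :=
    { toFun := fun x => ⟨(α ⟨x, h.hES x.2⟩ : S), h1 _ x.2⟩
      invFun := fun x => ⟨(α⁻¹ ⟨x, h.hES x.2⟩ : S), h2 _ x.2⟩
      left_inv := fun x => Subtype.ext (by simp)
      right_inv := fun x => Subtype.ext (by simp)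
      map_mul' := fun a b => Subtype.ext (by
        show ((α (⟨a, h.hES a.2⟩ * ⟨b, h.hES b.2⟩) : S) : Ω) = _
        rw [map_mul]
        rfl) }
  exact ⟨ρ, F.restrict_mem_autGroup h.hES le_rfl hα ρ (fun t => rfl), fun x => rfl⟩

include hS hF hzZ hz1 hz2 hcomm in
theorem TwoData.aut_D {E : Subgroup Ω} {y : Ω} {D : Subgroup Ω} (h : TwoData F z E y D)
    {α : MulAut S} (hα : α ∈ F.autGroup S) (x : S) (hx : (x : Ω) ∈ D) : ((α x : S) : Ω) ∈ D := by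
  obtain ⟨ρ, hρ, hρx⟩ := h.exists_restrict hS hF hzZ hz1 hz2 hcomm hα
  have := h.hb4 ρ hρ ⟨x, h.hZE (h.hDZ hx)⟩ hx
  rw [hρx] at this
  exact this

include hS hF hzZ hz1 hz2 hcomm in
theorem TwoData.aut_W {E : Subgroup Ω} {y : Ω} {D : Subgroup Ω} (h : TwoData F z E y D)
    {α : MulAut S} (hα : α ∈ F.autGroup S) (x : S) (hx : (x : Ω) ∈ Subgroup.closure ({z, y} : Set Ω)) :
    ((α x : S) : Ω) ∈ Subgroup.closure ({z, y} : Set Ω) := by
  obtain ⟨ρ, hρ, hρx⟩ := h.exists_restrict hS hF hzZ hz1 hz2 hcomm hα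
  have hWE : Subgroup.closure ({z, y} : Set Ω) ≤ E := by
    rw [Subgroup.closure_le]
    rintro w (rfl | rfl)
    · exact h.hZE hzZ
    · exact h.hyE
  have := h.hb5 ρ hρ ⟨x, hWE hx⟩ hx
  rw [hρx] at this
  exact this

include hzZ hz1 hz2 hcomm in
theorem TwoData.enum {E₁ E₂ E : Subgroup Ω} {y₁ y₂ y : Ω} {D₁ D₂ D : Subgroup Ω}
    (h₁ : TwoData F z E₁ y₁ D₁) (h₂ : TwoData F z E₂ y₂ D₂) (h : TwoData F z E y D) (hne : E₁ ≠ E₂) :
    E = E₁ ∨ E = E₂ := by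
  have hy2E1 : y₂ ∉ E₁ := fun hy => hne (h₂.eq_of_mem h₁.hES h₁.hZE h₁.hcS hy).symm
  have hy2S : y₂ ∈ S := h₂.hES h₂.hyE
  obtain ⟨i, e, he, hie⟩ := h₁.decomp hzZ hcomm hy2S hy2E1 y (h.hES h.hyE)
  obtain ⟨j, c, hc, rfl⟩ := h₁.hdE e he
  rcases zpow_eq_one_or_self h₂.hy2 i with hi | hi <;> rcases zpow_eq_one_or_self h₁.hy2 j with hj | hj
  · exfalso
    rw [hi, hj, one_mul, one_mul] at hie
    exact h.hyZ (hie ▸ hc)
  · left
    rw [hi, one_mul] at hie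
    exact h.eq_of_mem h₁.hES h₁.hZE h₁.hcS (hie ▸ he)
  · right
    rw [hi, hj, one_mul] at hie
    exact h.eq_of_mem h₂.hES h₂.hZE h₂.hcS (hie ▸ E₂.mul_mem h₂.hyE (h₂.hZE hc))
  · exfalso
    rw [hi, hj, ← mul_assoc] at hie
    have h3 := h.hy2
    rw [hie] at h3
    exact h.sq_ne hzZ hz1 hz2 hc
      (sq_eq_of_involutions hzZ hz2 hcomm hy2S (h₁.hES h₁.hyE) h₂.hy2 h₁.hy2
        (h₁.not_comm hzZ hcomm hy2S hy2E1) hc h3)

end Two

end FusionSystem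
end Cfsg
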