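import Cfsg.Agent.Fus.CenterIdxTwo

/-!
Saturated fusion systems over `2`-groups whose centre has index `4`: the main argument.
-/

set_option autoImplicit false

namespace Cfsg
namespace FusionSystem

open Cfsg.Agent.Fus

variable {Ω : Type*} [Group Ω] {S : Subgroup Ω} [Finite S]

theorem TwoData.le_of_bot {F : FusionSystem S} {z : Ω} {E : Subgroup Ω} {y : Ω} {D : Subgroup Ω}
    (h : TwoData F z E y D) (hD : D = ⊥) : centralizerIn S S ≤ Subgroup.zpowers z := by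
  intro c hc
  obtain ⟨i, hi⟩ := h.hb2 c hc
  rw [hD, Subgroup.mem_bot] at hi
  have : c = z ^ (-i) := by
    rw [zpow_neg]
    exact eq_inv_of_mul_eq_one_left hi
  rw [this]
  exact Subgroup.zpow_mem _ (Subgroup.mem_zpowers z) _

theorem isNormal_of_twoData (hS : IsPGroup 2 S) (F : FusionSystem S) (hF : F.IsSaturated 2) {z : Ω}
    {Y : Subgroup Ω} (hYZ : Y ≤ centralizerIn S S)
    (hΓ : ∀ α ∈ F.autGroup S, ∀ x : S, (x : Ω) ∈ Y → ((α x : S) : Ω) ∈ Y)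
    (hE : ∀ E, F.IsEssential 2 E → ∃ y D, TwoData F z E y D ∧ Y ≤ D) : F.IsNormal Y := by
  apply F.isNormal_of_invariant' hS hF
  rintro P (hPeq | hP)
  · have hPeq' := hPeq.symm
    subst hPeq'
    exact ⟨hYZ.trans centralizerIn_le, hΓ⟩
  · obtain ⟨y, D, h, hYD⟩ := hE P hP
    refine ⟨hYZ.trans h.hZE, fun g hg x hx => ?_⟩
    obtain ⟨α, hα, h1, -⟩ := h.hb6 g hg
    rw [h1 x (hYD hx)]
    exact hΓ α hα _ hx

/-- The subgroup `⟨y₁, y₂, z⟩`. -/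
def triSub (S : Subgroup Ω) (z y₁ y₂ : Ω) (hzZ : z ∈ centralizerIn S S)
    (hcomm : ∀ a ∈ S, ∀ b ∈ S, a * b * a⁻¹ * b⁻¹ ∈ Subgroup.zpowers z) (h1 : y₁ ∈ S) (h2 : y₂ ∈ S) :
    Subgroup Ω where
  carrier := {g | ∃ a b k : ℤ, g = y₁ ^ a * y₂ ^ b * z ^ k}
  one_mem' := ⟨0, 0, 0, by simp⟩
  mul_mem' := by
    rintro _ _ ⟨a, b, k, rfl⟩ ⟨a', b', k', rfl⟩
    have hzc : ∀ g ∈ S, ∀ n : ℤ, g * z ^ n = z ^ n * g := fun g hg n =>
      (Commute.zpow_right (show Commute g z from (mem_centralizerIn.1 hzZ).2 g hg) n).eq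
    obtain ⟨j, hj⟩ := Subgroup.mem_zpowers_iff.1 (hcomm _ (S.zpow_mem h2 b) _ (S.zpow_mem h1 a'))
    refine ⟨a + a', b + b', j + k + k', ?_⟩
    have e1 : y₂ ^ b * y₁ ^ a' = z ^ j * (y₁ ^ a' * y₂ ^ b) := by rw [hj]; group
    have e2 := hzc _ (S.mul_mem (S.zpow_mem h1 a') (S.zpow_mem h2 b')) k
    have e3 := hzc _ (S.zpow_mem h1 a) j
    have e4 := hzc _ (S.mul_mem (S.mul_mem (S.zpow_mem h1 a) (S.zpow_mem h1 a'))
      (S.mul_mem (S.zpow_mem h2 b) (S.zpow_mem h2 b'))) j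
    calc y₁ ^ a * y₂ ^ b * z ^ k * (y₁ ^ a' * y₂ ^ b' * z ^ k')
        = y₁ ^ a * y₂ ^ b * (z ^ k * (y₁ ^ a' * y₂ ^ b')) * z ^ k' := by group
      _ = y₁ ^ a * y₂ ^ b * ((y₁ ^ a' * y₂ ^ b') * z ^ k) * z ^ k' := by rw [e2]
      _ = y₁ ^ a * (y₂ ^ b * y₁ ^ a') * y₂ ^ b' * z ^ k * z ^ k' := by group
      _ = y₁ ^ a * (z ^ j * (y₁ ^ a' * y₂ ^ b)) * y₂ ^ b' * z ^ k * z ^ k' := by rw [e1]
      _ = (y₁ ^ a * z ^ j) * y₁ ^ a' * y₂ ^ b * y₂ ^ b' * z ^ k * z ^ k' := by group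
      _ = (z ^ j * y₁ ^ a) * y₁ ^ a' * y₂ ^ b * y₂ ^ b' * z ^ k * z ^ k' := by rw [e3]
      _ = z ^ j * (y₁ ^ a * y₁ ^ a' * (y₂ ^ b * y₂ ^ b')) * z ^ k * z ^ k' := by group
      _ = (y₁ ^ a * y₁ ^ a' * (y₂ ^ b * y₂ ^ b')) * z ^ j * z ^ k * z ^ k' := by rw [e4]
      _ = y₁ ^ (a + a') * y₂ ^ (b + b') * z ^ (j + k + k') := by
        rw [zpow_add, zpow_add, zpow_add, zpow_add]; group
  inv_mem' := by
    rintro _ ⟨a, b, k, rfl⟩
    have hzc : ∀ g ∈ S, ∀ n : ℤ, g * z ^ n = z ^ n * g := fun g hg n =>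
      (Commute.zpow_right (show Commute g z from (mem_centralizerIn.1 hzZ).2 g hg) n).eq
    obtain ⟨j, hj⟩ := Subgroup.mem_zpowers_iff.1 (hcomm _ (S.zpow_mem h2 (-b)) _ (S.zpow_mem h1 (-a)))
    refine ⟨-a, -b, j + -k, ?_⟩
    have e1 : y₂ ^ (-b) * y₁ ^ (-a) = z ^ j * (y₁ ^ (-a) * y₂ ^ (-b)) := by rw [hj]; group
    have e2 := hzc _ (S.mul_mem (S.zpow_mem h2 (-b)) (S.zpow_mem h1 (-a))) (-k)
    have e3 := hzc _ (S.mul_mem (S.zpow_mem h1 (-a)) (S.zpow_mem h2 (-b))) j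
    calc (y₁ ^ a * y₂ ^ b * z ^ k)⁻¹ = z ^ (-k) * (y₂ ^ (-b) * y₁ ^ (-a)) := by group
      _ = (y₂ ^ (-b) * y₁ ^ (-a)) * z ^ (-k) := by rw [e2]
      _ = z ^ j * (y₁ ^ (-a) * y₂ ^ (-b)) * z ^ (-k) := by rw [e1]
      _ = (y₁ ^ (-a) * y₂ ^ (-b)) * z ^ j * z ^ (-k) := by rw [e3]
      _ = y₁ ^ (-a) * y₂ ^ (-b) * z ^ (j + -k) := by rw [zpow_add]; group

theorem center_le_zpowers_of_two (hS : IsPGroup 2 S) (F : FusionSystem S) (hF : F.IsSaturated 2)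
    (hcore : F.core = ⊥) (hhyp : F.hyperfocalSubgroup 2 = S) {z : Ω}
    (hzZ : z ∈ centralizerIn S S) (hz1 : z ≠ 1) (hz2 : z ^ 2 = 1)
    (hcomm : ∀ a ∈ S, ∀ b ∈ S, a * b * a⁻¹ * b⁻¹ ∈ Subgroup.zpowers z)
    (hzab : ∃ a ∈ S, ∃ b ∈ S, z = a * b * a⁻¹ * b⁻¹)
    (hcardS : Nat.card S = 2 ^ 2 * Nat.card (centralizerIn S S)) :
    centralizerIn S S ≤ Subgroup.zpowers z := by
  have hzS : z ∈ S := (mem_centralizerIn.1 hzZ).1
  have hS1 : S ≠ ⊥ := fun h => hz1 ((Subgroup.mem_bot).1 (h ▸ hzS))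
  have hbot : ∀ Q, F.IsNormal Q → Q = ⊥ := fun Q hQ => le_bot_iff.1 (hcore ▸ le_sSup hQ)
  obtain ⟨E₁, hE₁⟩ := exists_essential_of_core hS F hF hcore hS1
  obtain ⟨y₁, D₁, h₁⟩ := exists_twoData hS F hF hzZ hz1 hz2 hcomm hcardS hE₁
  by_cases hall : ∀ E, F.IsEssential 2 E → E = E₁
  · apply h₁.le_of_bot
    apply hbot
    refine isNormal_of_twoData hS F hF (z := z) h₁.hDZ
      (fun α hα x hx => h₁.aut_D hS hF hzZ hz1 hz2 hcomm hα x hx) (fun E hE => ?_)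
    have := hall E hE
    subst this
    exact ⟨y₁, D₁, h₁, le_rfl⟩
  push Not at hall
  obtain ⟨E₂, hE₂, hne⟩ := hall
  obtain ⟨y₂, D₂, h₂⟩ := exists_twoData hS F hF hzZ hz1 hz2 hcomm hcardS hE₂
  have henum : ∀ E, F.IsEssential 2 E → E = E₁ ∨ E = E₂ := by
    intro E hE
    obtain ⟨y, D, h⟩ := exists_twoData hS F hF hzZ hz1 hz2 hcomm hcardS hE
    exact h₁.enum hzZ hz1 hz2 hcomm h₂ h (Ne.symm hne)
  have hY : D₁ ⊓ D₂ = ⊥ := by
    apply hbot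
    refine isNormal_of_twoData hS F hF (z := z) (inf_le_left.trans h₁.hDZ)
      (fun α hα x hx => ⟨h₁.aut_D hS hF hzZ hz1 hz2 hcomm hα x hx.1,
        h₂.aut_D hS hF hzZ hz1 hz2 hcomm hα x hx.2⟩) (fun E hE => ?_)
    rcases henum E hE with h | h
    · subst h
      exact ⟨y₁, D₁, h₁, inf_le_left⟩
    · subst h
      exact ⟨y₂, D₂, h₂, inf_le_right⟩
  set zS : S := ⟨z, hzS⟩ with hzS'
  have hzS2 : zS ^ 2 = 1 := Subtype.ext hz2
  have hαz : ∀ α : MulAut S, α zS = zS := by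
    intro α
    obtain ⟨k, hk⟩ := aut_comm_gen hzS hcomm hzab α
    rcases zpow_eq_one_or_self hzS2 k with h | h
    · exfalso
      rw [h] at hk
      have : zS = 1 := α.injective (by rw [hk, map_one])
      exact hz1 (congrArg Subtype.val this)
    · rw [hk, h]
  have hshift : ∀ {E : Subgroup Ω} {y : Ω} {D : Subgroup Ω}, TwoData F z E y D → ∀ α ∈ F.autGroup S,
      ∀ c : S, (c : Ω) ∈ centralizerIn S S → ((c⁻¹ * α c : S) : Ω) ∈ D := by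
    intro E y D h α hα c hc
    obtain ⟨i, hi⟩ := h.hb2 c hc
    have hi' : ((c * zS ^ i : S) : Ω) ∈ D := by
      rw [Subgroup.coe_mul, Subgroup.coe_zpow]
      exact hi
    have e1 := h.aut_D hS hF hzZ hz1 hz2 hcomm hα _ hi'
    have e2 := D.mul_mem (D.inv_mem hi') e1
    have e3 : ((c * zS ^ i : S) : Ω)⁻¹ * ((α (c * zS ^ i) : S) : Ω) = ((c⁻¹ * α c : S) : Ω) := by
      have e4 : (c * zS ^ i)⁻¹ * α (c * zS ^ i) = c⁻¹ * α c := by
        rw [map_mul, map_zpow, hαz]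
        have e5 : α c * zS ^ i = zS ^ i * α c := Subtype.ext (by
          rw [Subgroup.coe_mul, Subgroup.coe_mul, Subgroup.coe_zpow]
          exact (Commute.zpow_right (show Commute ((α c : S) : Ω) z from
            (mem_centralizerIn.1 hzZ).2 _ (α c).2) i).eq)
        have e6 : c * zS ^ i = zS ^ i * c := Subtype.ext (by
          rw [Subgroup.coe_mul, Subgroup.coe_mul, Subgroup.coe_zpow]
          exact (Commute.zpow_right (show Commute (c : Ω) z from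
            (mem_centralizerIn.1 hzZ).2 _ c.2) i).eq)
        rw [e5, e6]
        group
      exact congrArg Subtype.val e4
    rw [e3] at e2
    exact e2
  have hΓZ : ∀ α ∈ F.autGroup S, ∀ c : S, (c : Ω) ∈ centralizerIn S S → α c = c := by
    intro α hα c hc
    have e1 : ((c⁻¹ * α c : S) : Ω) ∈ D₁ ⊓ D₂ := ⟨hshift h₁ α hα c hc, hshift h₂ α hα c hc⟩
    rw [hY, Subgroup.mem_bot] at e1
    have e2 : c⁻¹ * α c = 1 := Subtype.ext e1
    exact (eq_of_inv_mul_eq_one e2).symm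
  have hy1S : y₁ ∈ S := h₁.hES h₁.hyE
  have hy2S : y₂ ∈ S := h₂.hES h₂.hyE
  set R := triSub S z y₁ y₂ hzZ hcomm hy1S hy2S with hR
  have hzR : z ∈ R := ⟨0, 0, 1, by simp⟩
  have hy1R : y₁ ∈ R := ⟨1, 0, 0, by simp⟩
  have hy2R : y₂ ∈ R := ⟨0, 1, 0, by simp⟩
  have hW1 : Subgroup.closure ({z, y₁} : Set Ω) ≤ R := by
    rw [Subgroup.closure_le]
    rintro w (rfl | rfl)
    · exact hzR
    · exact hy1R
  have hW2 : Subgroup.closure ({z, y₂} : Set Ω) ≤ R := by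
    rw [Subgroup.closure_le]
    rintro w (rfl | rfl)
    · exact hzR
    · exact hy2R
  have hRinv : ∀ α ∈ F.autGroup S, ∀ x : S, (x : Ω) ∈ R → ((α x : S) : Ω) ∈ R := by
    rintro α hα x ⟨a, b, k, hx⟩
    have e1 : x = (⟨y₁, hy1S⟩ : S) ^ a * (⟨y₂, hy2S⟩ : S) ^ b * zS ^ k := Subtype.ext (by
      simp only [Subgroup.coe_mul, Subgroup.coe_zpow]
      exact hx)
    rw [e1, map_mul, map_mul, map_zpow, map_zpow, map_zpow]
    simp only [Subgroup.coe_mul, Subgroup.coe_zpow]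
    refine R.mul_mem (R.mul_mem (R.zpow_mem (hW1 ?_) a) (R.zpow_mem (hW2 ?_) b)) (R.zpow_mem ?_ k)
    · exact h₁.aut_W hS hF hzZ hz1 hz2 hcomm hα _ (Subgroup.subset_closure (by simp))
    · exact h₂.aut_W hS hF hzZ hz1 hz2 hcomm hα _ (Subgroup.subset_closure (by simp))
    · rw [hαz]
      exact hzR
  have hy2E1 : y₂ ∉ E₁ := fun hy => hne (h₂.eq_of_mem h₁.hES h₁.hZE h₁.hcS hy)
  have hSRZ : ∀ g ∈ S, ∃ τ ∈ R, ∃ c ∈ centralizerIn S S, g = τ * c := by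
    intro g hg
    obtain ⟨i, e, he, rfl⟩ := h₁.decomp hzZ hcomm hy2S hy2E1 g hg
    obtain ⟨j, c, hc, rfl⟩ := h₁.hdE e he
    exact ⟨y₂ ^ i * y₁ ^ j, R.mul_mem (R.zpow_mem hy2R i) (R.zpow_mem hy1R j), c, hc, by group⟩
  have hRS : R ≤ S := by
    rintro _ ⟨a, b, k, rfl⟩
    exact S.mul_mem (S.mul_mem (S.zpow_mem hy1S a) (S.zpow_mem hy2S b)) (S.zpow_mem hzS k)
  have hT : ⁅S, S⁆ ≤ R := by
    rw [Subgroup.commutator_le]
    intro g₁ hg₁ g₂ hg₂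
    rw [commutatorElement_def]
    exact Subgroup.zpowers_le.2 hzR (hcomm g₁ hg₁ g₂ hg₂)
  have hΓR : ∀ α ∈ F.autGroup S, ∀ x : S, (x : Ω)⁻¹ * ((α x : S) : Ω) ∈ R := by
    intro α hα x
    obtain ⟨τ, hτ, c, hc, hx⟩ := hSRZ x x.2
    have hcS := (mem_centralizerIn.1 hc).1
    have e1 : x = (⟨τ, hRS hτ⟩ : S) * ⟨c, hcS⟩ := Subtype.ext hx
    have e2 : α x = α ⟨τ, hRS hτ⟩ * ⟨c, hcS⟩ := by rw [e1, map_mul, hΓZ α hα ⟨c, hcS⟩ hc]
    have e3 := hRinv α hα ⟨τ, hRS hτ⟩ hτ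
    have e4 : (x : Ω)⁻¹ * ((α x : S) : Ω) = τ⁻¹ * ((α ⟨τ, hRS hτ⟩ : S) : Ω) := by
      rw [e2, hx, Subgroup.coe_mul]
      show (τ * c)⁻¹ * (((α ⟨τ, hRS hτ⟩ : S) : Ω) * c) = _
      rw [(mem_centralizerIn.1 hc).2 _ (α ⟨τ, hRS hτ⟩).2, (mem_centralizerIn.1 hc).2 τ (hRS hτ)]
      group
    rw [e4]
    exact R.mul_mem (R.inv_mem hτ) e3
  have hle : F ≤ F.focalSub R hT := by
    apply F.alperin _ hS hF
    rintro P hP α hα
    apply Subgroup.subset_closure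
    rcases hP with hPeq | hP
    · have hPeq' := hPeq.symm
      subst hPeq'
      exact ⟨(F.mem_autGroup_iff le_rfl α).1 hα, fun x => hΓR α hα x⟩
    · have key : ∀ {E : Subgroup Ω} {y : Ω} {D : Subgroup Ω}, TwoData F z E y D →
          Subgroup.closure ({z, y} : Set Ω) ≤ R → ∀ g ∈ F.autGroup E, ∀ x : E,
          (x : Ω)⁻¹ * ((g x : E) : Ω) ∈ R := by
        intro E y D h hW g hg x
        obtain ⟨β, hβ, -, h2⟩ := h.hb6 g hg
        have e1 := R.mul_mem (hΓR β hβ ⟨x, h.hES x.2⟩) (hW (h2 x))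
        have e2 : (x : Ω)⁻¹ * ((β ⟨x, h.hES x.2⟩ : S) : Ω) * (((β ⟨x, h.hES x.2⟩ : S) : Ω)⁻¹ * ((g x : E) : Ω)) =
            (x : Ω)⁻¹ * ((g x : E) : Ω) := by group
        rw [← e2]
        exact e1
      rcases henum P hP with h | h
      · subst h
        exact ⟨(F.mem_autGroup_iff h₁.hES α).1 hα, fun x => key h₁ hW1 α hα x⟩
      · subst h
        exact ⟨(F.mem_autGroup_iff h₂.hES α).1 hα, fun x => key h₂ hW2 α hα x⟩
  have hfoc : F.focalSubgroup ≤ R := by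
    unfold focalSubgroup
    rw [Subgroup.closure_le]
    rintro _ ⟨P, φ, x, hφ, rfl⟩
    exact (hle P hφ).2 x
  have hSR : S ≤ R := by
    refine le_trans ?_ hfoc
    rw [F.focal_eq hS hF, hhyp]
    exact le_sup_left
  intro c hc
  obtain ⟨a, b, k, hcab⟩ := hSR (mem_centralizerIn.1 hc).1
  have hzk : z ^ k ∈ centralizerIn S S := Subgroup.zpow_mem _ hzZ k
  rcases zpow_eq_one_or_self h₁.hy2 a with ha | ha <;> rcases zpow_eq_one_or_self h₂.hy2 b with hb | hb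
  · rw [ha, hb, one_mul, one_mul] at hcab
    rw [hcab]
    exact Subgroup.zpow_mem _ (Subgroup.mem_zpowers z) k
  · exfalso
    rw [ha, hb, one_mul] at hcab
    apply h₂.hyZ
    have : y₂ = c * (z ^ k)⁻¹ := by rw [hcab]; group
    rw [this]
    exact Subgroup.mul_mem _ hc (Subgroup.inv_mem _ hzk)
  · exfalso
    rw [ha, hb, mul_one] at hcab
    apply h₁.hyZ
    have : y₁ = c * (z ^ k)⁻¹ := by rw [hcab]; group
    rw [this]
    exact Subgroup.mul_mem _ hc (Subgroup.inv_mem _ hzk)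
  · exfalso
    rw [ha, hb] at hcab
    have e1 : y₁ * y₂ ∈ centralizerIn S S := by
      have : y₁ * y₂ = c * (z ^ k)⁻¹ := by rw [hcab]; group
      rw [this]
      exact Subgroup.mul_mem _ hc (Subgroup.inv_mem _ hzk)
    have e2 := (mem_centralizerIn.1 e1).2 y₁ hy1S
    apply h₁.not_comm hzZ hcomm hy2S hy2E1
    have e3 : y₁ * (y₁ * y₂) = y₁ * (y₂ * y₁) := by rw [e2]; group
    exact (mul_left_cancel e3).symm

end FusionSystem
end Cfsg
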