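import Cfsg.Agent.Fus.Normal2

/-!
Central subgroups of a saturated fusion system (S5084).
-/

set_option autoImplicit false

namespace Cfsg
namespace FusionSystem

open Cfsg.Agent.Fus

variable {Ω : Type*} [Group Ω] {S : Subgroup Ω}

/-- S5084. -/
theorem isCentral_iff (F : FusionSystem S) [Finite S] {p : ℕ} [Fact p.Prime]
    (hS : IsPGroup p S) (hF : F.IsSaturated p) (Q : Subgroup Ω) :
    F.IsCentral Q ↔ (Q ≤ S ∧ ∀ x ∈ Q, ∀ y : Ω, F.IsConjElt x y → y = x) := by
  constructor
  · rintro ⟨hQS, h⟩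
    refine ⟨hQS, fun x hx y hy => ?_⟩
    obtain ⟨φ, hφ, rfl⟩ := hy
    obtain ⟨ψ, -, h1, h2⟩ := h _ φ hφ
    rw [← h1]
    exact h2 ⟨x, hx⟩
  · rintro ⟨hQS, h⟩
    have hfix : ∀ {P : Subgroup Ω} {φ : P →* Ω}, φ ∈ F.Hom P → ∀ x : P, (x : Ω) ∈ Q → φ x = x := by
      intro P φ hφ x hx
      have hle : Subgroup.zpowers (x : Ω) ≤ P := by
        rw [Subgroup.zpowers_le]; exact x.2
      exact h x hx _ ⟨_, F.restrict_mem hφ hle, rfl⟩
    have hZ : ∀ g ∈ S, ∀ x ∈ Q, x * g = g * x := by
      intro g hg x hx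
      have h1 := hfix (F.conj_mem hQS hg) ⟨x, hx⟩ hx
      have h2 : g * x * g⁻¹ = x := h1
      calc x * g = g * x * g⁻¹ * g := by rw [h2]
        _ = g * x := by group
    have hC : centralizerIn S Q = S :=
      le_antisymm centralizerIn_le (fun g hg => mem_centralizerIn.2 ⟨hg, hZ g hg⟩)
    have hE : ∀ P, (castSys hC (F.centralizerSystem Q hQS)).Hom P = F.centralizerHom Q P := by
      intro P
      rw [castSys_hom]
      exact F.isCentralizerSystem_centralizerSystem Q hQS P
    have hle : F ≤ castSys hC (F.centralizerSystem Q hQS) := by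
      apply F.alperin _ hS hF
      intro P hP α hα
      have hc : F.IsCentric P := by
        rcases hP with rfl | hP
        · exact F.isCentric_self
        · exact hP.1
      have hPle : P ≤ S := hc.1
      have hQP : Q ≤ P := by
        intro x hx
        apply hc.2 P (IsConj.refl F hPle)
        exact mem_centralizerIn.2 ⟨hQS hx, fun y hy => (hZ y (hPle hy) x hx).symm⟩
      apply Subgroup.subset_closure
      show _ ∈ (castSys hC (F.centralizerSystem Q hQS)).Hom P
      rw [hE]
      have hαm := (F.mem_autGroup_iff hPle α).1 hα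
      have heq : P = P ⊔ Q := (sup_eq_left.2 hQP).symm
      refine ⟨hαm, by rw [hC]; exact hPle, fun x => by rw [hC]; exact hPle (α x).2,
        (P.subtype.comp α.toMonoidHom).comp (Subgroup.inclusion heq.ge),
        F.hom_congr heq hαm _ (fun x hx hx' => rfl), fun x => rfl, ?_⟩
      intro x
      exact hfix hαm ⟨x, hQP x.2⟩ x.2
    refine ⟨hQS, fun P φ hφ => ?_⟩
    have h1 := hle P hφ
    rw [hE] at h1
    exact h1.2.2.2

end FusionSystem
end Cfsg
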