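import Cfsg.Agent.Fus.ConstrNormal
import Cfsg.Agent.Fus.Grp2
import Cfsg.Agent.Fus.Frattini
import Cfsg.Agent.Fus.Quot2
import Cfsg.Agent.Lib.Helper27.FusGrpNormal

/-!
Constrained fusion systems of finite groups: subnormal subgroups and central quotients.
-/

set_option autoImplicit false

namespace Cfsg
namespace FusionSystem

open Cfsg.Agent.Fus Cfsg.Agent.Lib.Helper27.Fus

variable {Ω : Type*} [Group Ω]

/-- Group theoretic form of "`Q` is normal and centric in `F_T(H)`". -/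
def GrpConstr (H T Q : Subgroup Ω) : Prop :=
  Q ≤ T ∧ (∀ P : Subgroup Ω, P ≤ T → ∀ g ∈ H, (∀ x ∈ P, g * x * g⁻¹ ∈ T) →
     ∃ g' ∈ H, (∀ x ∈ P, g' * x * g'⁻¹ = g * x * g⁻¹) ∧ g' ∈ Subgroup.normalizer (Q : Set Ω)) ∧
  ∀ x ∈ T, (∀ q ∈ Q, q * x = x * q) → x ∈ Q

theorem grpConstr_of_normal_centric {H T Q : Subgroup Ω} (hTH : T ≤ H)
    (hn : (fusionSystemOfSubgroup H T hTH).IsNormal Q) (hc : (fusionSystemOfSubgroup H T hTH).IsCentric Q) :
    GrpConstr H T Q := by
  refine ⟨hn.1, fun P hP g hg hgT => ?_, fun x hx hxq => ?_⟩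
  · obtain ⟨ψ, ⟨-, -, g', hg', hψ⟩, h3, κ, hκ⟩ := ((fusionSystemOfSubgroup H T hTH).isNormal_iff.1 hn).2 P
      (conjHom P g) ⟨hP, fun x => hgT x x.2, g, hg, fun x => rfl⟩
    refine ⟨g', hg', fun x hx => ?_, mem_normalizer_of_induces κ (fun x => ?_)⟩
    · have h4 := h3 ⟨x, hx⟩
      rw [hψ] at h4
      exact h4
    · rw [← hκ, hψ]; rfl
  · exact IsCentric.centralizerIn_le hc (mem_centralizerIn.2 ⟨hx, hxq⟩)

theorem GrpConstr.normal_centric {H T Q : Subgroup Ω} [Finite T] (hTH : T ≤ H) (h : GrpConstr H T Q) :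
    (fusionSystemOfSubgroup H T hTH).IsNormal Q ∧ (fusionSystemOfSubgroup H T hTH).IsCentric Q := by
  obtain ⟨hQT, hext, hcen⟩ := h
  have hn : (fusionSystemOfSubgroup H T hTH).IsNormal Q := by
    rw [isNormal_iff]
    refine ⟨hQT, ?_⟩
    rintro P φ ⟨hP, hφT, g, hg, hφ⟩
    obtain ⟨g', hg', h1, h2⟩ := hext P hP g hg (fun x hx => by rw [← hφ ⟨x, hx⟩]; exact hφT _)
    have hmem : P ⊔ Q ≤ T.comap (MulAut.conj g').toMonoidHom := by
      refine sup_le ?_ ?_
      · intro y hy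
        show g' * y * g'⁻¹ ∈ T
        rw [h1 y hy, ← hφ ⟨y, hy⟩]; exact hφT _
      · intro y hy
        exact hQT (conj_mem_of_normalizer h2 hy)
    refine ⟨conjHom _ g', ⟨sup_le hP hQT, fun x => hmem x.2, g', hg', fun x => rfl⟩, fun x => ?_,
      conjAut g' h2, fun x => rfl⟩
    rw [hφ]; exact h1 x x.2
  refine ⟨hn, hQT, fun R hR => ?_⟩
  rw [hn.stronglyClosed.eq_of_isConj hR]
  intro x hx
  obtain ⟨h1, h2⟩ := mem_centralizerIn.1 hx
  exact hcen x h1 h2

theorem GrpConstr.subgroupOf {H T Q : Subgroup Ω} (hTH : T ≤ H) (h : GrpConstr H T Q) :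
    GrpConstr (⊤ : Subgroup H) (T.subgroupOf H) (Q.subgroupOf H) := by
  obtain ⟨hQT, hext, hcen⟩ := h
  refine ⟨fun x hx => Subgroup.mem_subgroupOf.2 (hQT (Subgroup.mem_subgroupOf.1 hx)), ?_, ?_⟩
  · intro P hP g _ hgT
    obtain ⟨g', hg', h1, h2⟩ := hext (P.map H.subtype) (by
      rintro _ ⟨x, hx, rfl⟩; exact Subgroup.mem_subgroupOf.1 (hP hx)) g g.2 (by
      rintro _ ⟨x, hx, rfl⟩; exact Subgroup.mem_subgroupOf.1 (hgT x hx))
    refine ⟨⟨g', hg'⟩, Subgroup.mem_top _, fun x hx => Subtype.ext (h1 x ⟨x, hx, rfl⟩), ?_⟩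
    rw [Subgroup.mem_normalizer_iff]
    intro z
    exact (Subgroup.mem_normalizer_iff.1 h2) z
  · intro x hx hxq
    exact Subgroup.mem_subgroupOf.2 (hcen x (Subgroup.mem_subgroupOf.1 hx) (fun q hq => by
      have hqH : q ∈ H := hTH (hQT hq)
      exact congrArg Subtype.val (hxq ⟨q, hqH⟩ (Subgroup.mem_subgroupOf.2 hq))))

theorem constrained_of_subnormal_aux [Finite Ω] {p : ℕ} [Fact p.Prime] (S : Sylow p Ω)
    (hF : (groupFusionSystem (S : Subgroup Ω)).IsConstrained p) {H : Subgroup Ω} (hH : H.IsSubnormal) :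
    ∀ (T : Subgroup Ω) (hTH : T ≤ H), T = (S : Subgroup Ω) ⊓ H →
      IsSylowIn p T H ∧ (fusionSystemOfSubgroup H T hTH).IsConstrained p := by
  induction hH with
  | top =>
    intro T hTH hT
    have hT' : T = (S : Subgroup Ω) := by rw [hT, inf_top_eq]
    subst hT'
    refine ⟨isSylowIn_top S, ?_⟩
    rw [groupFusionSystem_eq] at hF
    exact hF
  | step H K h_le hSubn hN ih =>
    intro T hTH hT
    obtain ⟨hsyl, hcon⟩ := ih ((S : Subgroup Ω) ⊓ K) inf_le_right rfl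
    have hT' : T = ((S : Subgroup Ω) ⊓ K) ⊓ H := by
      rw [hT, inf_assoc, inf_eq_right.2 h_le]
    subst hT'
    have hn : ∀ k ∈ H, ∀ a ∈ K, a * k * a⁻¹ ∈ H := fun k hk a ha =>
      hN.conj_mem ⟨k, h_le hk⟩ (Subgroup.mem_subgroupOf.2 hk) ⟨a, ha⟩
    have hsylH : IsSylowIn p (((S : Subgroup Ω) ⊓ K) ⊓ H) H := hsyl.inf_normal inf_le_right h_le hn
    refine ⟨hsylH, ?_⟩
    refine hcon.of_subsystem (hsyl.isPGroup inf_le_right) (isSaturated_ofSubgroup hTH hsylH) ?_ ?_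
    · rintro P φ ⟨hP, hφT, g, hg, hφ⟩
      exact ⟨hP.trans inf_le_left, fun x => (hφT x).1, g, h_le hg, hφ⟩
    · refine ⟨inf_le_left, ?_⟩
      rintro R hR φ ⟨-, hφS, g, hg, hφ⟩ x
      exact ⟨hφS x, by rw [hφ]; exact hn _ (hR x.2).2 g hg⟩

/-- S5115, for any prime. -/
theorem constrained_of_subnormal [Finite Ω] {p : ℕ} [Fact p.Prime] (S : Sylow p Ω)
    (hF : (groupFusionSystem (S : Subgroup Ω)).IsConstrained p) {H : Subgroup Ω} (hH : H.IsSubnormal) :
    (∃ R : Sylow p H, (R : Subgroup H) = (S : Subgroup Ω).subgroupOf H) ∧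
    (groupFusionSystem ((S : Subgroup Ω).subgroupOf H)).IsConstrained p := by
  obtain ⟨⟨R, hR⟩, -, Q, hQn, hQc⟩ := constrained_of_subnormal_aux S hF hH _ inf_le_right rfl
  rw [Subgroup.inf_subgroupOf_right] at hR
  refine ⟨⟨R, hR⟩, ?_, ?_⟩
  · rw [← hR]; exact isSaturated_groupFusionSystem R
  · have h1 := (grpConstr_of_normal_centric _ hQn hQc).subgroupOf inf_le_right
    rw [Subgroup.inf_subgroupOf_right] at h1
    rw [groupFusionSystem_eq]
    exact ⟨_, h1.normal_centric le_top⟩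

/-- A central element of `p`-power order lies in every Sylow `p`-subgroup. -/
theorem mem_sylow_of_central [Finite Ω] {p : ℕ} [Fact p.Prime] (S : Sylow p Ω) {z : Ω}
    (hz : z ∈ Subgroup.center Ω) {n : ℕ} (hn : z ^ p ^ n = 1) : z ∈ (S : Subgroup Ω) := by
  have hp : p.Prime := Fact.out
  have hnorm : (Subgroup.zpowers z).Normal := by
    constructor
    intro y hy g
    have hyc : y ∈ Subgroup.center Ω := (Subgroup.zpowers_le.2 hz) hy
    have : g * y * g⁻¹ = y := by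
      rw [(Subgroup.mem_center_iff.1 hyc g)]; group
    rw [this]; exact hy
  have hpg : IsPGroup p (Subgroup.zpowers z) := by
    obtain ⟨k, -, hk⟩ := (Nat.dvd_prime_pow hp).1 (orderOf_dvd_of_pow_eq_one hn)
    exact IsPGroup.of_card (n := k) (by rw [Nat.card_zpowers, hk])
  exact normal_pSubgroup_le_sylow hnorm hpg S (Subgroup.mem_zpowers z)

/-- Central quotients of groups with constrained fusion systems. -/
theorem constrained_quotient_central [Finite Ω] {p : ℕ} [Fact p.Prime] (S : Sylow p Ω)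
    (hF : (groupFusionSystem (S : Subgroup Ω)).IsConstrained p) (Z : Subgroup Ω) [Z.Normal]
    (hZ : Z ≤ Subgroup.center Ω) :
    (groupFusionSystem ((S : Subgroup Ω).map (QuotientGroup.mk' Z))).IsConstrained p := by
  have hSp : IsPGroup p (S : Subgroup Ω) := S.isPGroup'
  set F := groupFusionSystem (S : Subgroup Ω) with hFdef
  set Q := F.core with hQdef
  have hQ : F.IsNormal Q := F.isNormal_core
  have hQc : F.IsCentric Q := hF.isCentric_core
  have hQsc := hQ.stronglyClosed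
  have hfQ : Finite Q := finite_of_le hQ.1
  have hG : GrpConstr ⊤ (S : Subgroup Ω) Q := by
    have h1 := hQ
    have h2 := hQc
    rw [hFdef, groupFusionSystem_eq] at h1 h2
    exact grpConstr_of_normal_centric _ h1 h2
  obtain ⟨hQS, hext, -⟩ := hG
  refine ⟨?_, ?_⟩
  · have h1 := isSaturated_groupFusionSystem (S.mapSurjective (QuotientGroup.mk'_surjective Z))
    rw [Sylow.coe_mapSurjective] at h1
    exact h1
  rw [groupFusionSystem_eq]
  refine ⟨Q.map (QuotientGroup.mk' Z), GrpConstr.normal_centric le_top ⟨Subgroup.map_mono hQS, ?_, ?_⟩⟩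
  · intro P hP gb _ hgT
    obtain ⟨g, rfl⟩ := QuotientGroup.mk'_surjective Z gb
    obtain ⟨g', -, h1, h2⟩ := hext (P.comap (QuotientGroup.mk' Z) ⊓ S) inf_le_right g (Subgroup.mem_top g) (by
      rintro x ⟨hxP, hxS⟩
      obtain ⟨t, ht, hte⟩ := hgT _ hxP
      have hz : t⁻¹ * (g * x * g⁻¹) ∈ Z := by
        apply QuotientGroup.eq.1
        simpa using hte
      have hzc := hZ hz
      obtain ⟨k, hk⟩ := hSp ⟨x, hxS⟩
      obtain ⟨k', hk'⟩ := hSp ⟨t, ht⟩
      have hk1 : x ^ p ^ k = 1 := congrArg Subtype.val hk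
      have hk2 : t ^ p ^ k' = 1 := congrArg Subtype.val hk'
      have hy : (g * x * g⁻¹) ^ p ^ (k + k') = 1 := by
        rw [conj_pow, pow_add, pow_mul, hk1, one_pow]; group
      have ht' : t ^ p ^ (k + k') = 1 := by
        rw [pow_add, mul_comm, pow_mul, hk2, one_pow]
      have hcomm : Commute t (t⁻¹ * (g * x * g⁻¹)) := (Subgroup.mem_center_iff.1 hzc t)
      have h3 : (t * (t⁻¹ * (g * x * g⁻¹))) ^ p ^ (k + k') = 1 := by
        rw [mul_inv_cancel_left]; exact hy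
      rw [hcomm.mul_pow, ht', one_mul] at h3
      have h4 := mem_sylow_of_central S hzc h3
      have h5 := (S : Subgroup Ω).mul_mem ht h4
      rwa [mul_inv_cancel_left] at h5)
    refine ⟨QuotientGroup.mk' Z g', Subgroup.mem_top _, ?_, ?_⟩
    · intro xb hxb
      obtain ⟨x, hx, rfl⟩ := hP hxb
      have h3 := h1 x ⟨hxb, hx⟩
      rw [← map_mul, ← map_inv, ← map_mul, h3]
      simp
    · apply mem_normalizer_of_finite
      rintro _ ⟨q, hq, rfl⟩
      exact ⟨g' * q * g'⁻¹, conj_mem_of_normalizer h2 hq, by simp⟩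
  · rintro _ ⟨x, hx, rfl⟩ hxq
    refine ⟨x, ?_, rfl⟩
    have hxN : x ∈ Subgroup.normalizer (Q : Set Ω) := hQsc.le_normalizer hx
    refine hF.mem_core hSp hx hxN ?_
    refine mem_pCore_of_stabilizes (isPGroup_of_le hSp hQ.1) (F.autGroup Q)
      (fun j => if j = 0 then (Z ⊓ Q).subgroupOf Q else ⊤) 1 (by simp) ?_ ?_
      (F.autInducedBy_le_autGroup hQ.1 (conjAut_mem hxN hx)) ?_
    · intro α hα j y hy
      obtain ⟨g, hg⟩ := (mem_autGroup_group_iff _ hQ.1 α).1 hα
      rcases j with _ | j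
      · have hy' : (y : Ω) ∈ Z ⊓ Q := by simpa [Subgroup.mem_subgroupOf] using hy
        have h1 : α y = y := by
          apply Subtype.ext
          rw [hg, (Subgroup.mem_center_iff.1 (hZ hy'.1) g)]; group
        rw [h1]; exact hy
      · simp
    · intro α hα
      obtain ⟨g, hg⟩ := (mem_autGroup_group_iff _ hQ.1 α).1 hα
      refine ⟨0, fun y hy => ?_⟩
      have hy' : (y : Ω) ∈ Z ⊓ Q := by simpa [Subgroup.mem_subgroupOf] using hy
      rw [pow_zero, pow_one]
      apply Subtype.ext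
      rw [hg, (Subgroup.mem_center_iff.1 (hZ hy'.1) g)]; group
    · intro j y _
      rcases j with _ | j
      · show y⁻¹ * conjAut x hxN y ∈ (if (0 : ℕ) = 0 then (Z ⊓ Q).subgroupOf Q else ⊤)
        simp only [if_true]
        apply Subgroup.mem_subgroupOf.2
        refine ⟨?_, (y⁻¹ * conjAut x hxN y).2⟩
        show (y : Ω)⁻¹ * (x * y * x⁻¹) ∈ Z
        have h1 := hxq _ ⟨y, y.2, rfl⟩
        apply QuotientGroup.eq.1
        have h2 : (QuotientGroup.mk' Z) (y : Ω) = (QuotientGroup.mk' Z) x * (QuotientGroup.mk' Z) (y : Ω) *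
            ((QuotientGroup.mk' Z) x)⁻¹ := by
          rw [← h1]; group
        simpa using h2
      · simp

end FusionSystem
end Cfsg
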