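import Cfsg.Agent.Fus.Focal

/-!
S5223: a terminating focal chain forces the inner system.
-/

set_option autoImplicit false

namespace Cfsg
namespace Agent
namespace Fus

variable {P : Type*} [Group P]

theorem isPGroup_of_stabilizes [Finite P] {p : ℕ} [Fact p.Prime] (hP : IsPGroup p P)
    (A : Subgroup (MulAut P)) (D : ℕ → Subgroup P) (N : ℕ) (hN : D N = ⊤) (h0 : D 0 = ⊥)
    (hstab : ∀ α ∈ A, ∀ j, ∀ x ∈ D (j + 1), x⁻¹ * α x ∈ D j) : IsPGroup p A := by
  obtain ⟨a, ha⟩ := IsPGroup.iff_card.1 hP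
  have key : ∀ α ∈ A, ∀ j : ℕ, ∃ m : ℕ, ∀ x ∈ D j, (α ^ p ^ m) x = x := by
    intro α hα j
    induction j with
    | zero =>
      refine ⟨0, fun x hx => ?_⟩
      rw [h0, Subgroup.mem_bot] at hx
      rw [hx, map_one]
    | succ j ih =>
      obtain ⟨m, hm⟩ := ih
      refine ⟨m + a, fun x hx => ?_⟩
      have hβ : α ^ p ^ m ∈ A := Subgroup.pow_mem _ hα _
      have h1 := hstab _ hβ j x hx
      have h2 := hm _ h1
      have h3 : (α ^ p ^ m) x = x * (x⁻¹ * (α ^ p ^ m) x) := by group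
      have h4 := pow_apply_of_fixed (α ^ p ^ m) x _ h3 h2 (p ^ a)
      rw [pow_add, pow_mul, h4, ← ha, pow_card_eq_one', mul_one]
  rintro ⟨α, hα⟩
  obtain ⟨m, hm⟩ := key α hα N
  refine ⟨m, Subtype.ext ?_⟩
  show α ^ p ^ m = 1
  ext x
  exact hm x (by rw [hN]; trivial)

end Fus
end Agent

namespace FusionSystem

open Cfsg.Agent.Fus

variable {Ω : Type*} [Group Ω] {S : Subgroup Ω}

/-- S5223. -/
theorem eq_inner_of_focal_chain (F : FusionSystem S) [Finite S] {p : ℕ} [Fact p.Prime]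
    (hS : IsPGroup p S) (hF : F.IsSaturated p) (n : ℕ) (Q : Fin (n + 1) → Subgroup Ω) (hQ0 : Q 0 = S)
    (hQn : Q (Fin.last n) = ⊥)
    (hstep : ∀ i : Fin n, Subgroup.closure {y : Ω | ∃ x ∈ Q i.castSucc, ∃ φ ∈ F.Hom (Subgroup.zpowers x),
      y = x⁻¹ * φ ⟨x, Subgroup.mem_zpowers x⟩} ≤ Q i.succ) : F = innerFusionSystem S := by
  apply F.eq_inner_of_isPGroup hS hF
  intro P hP
  have : Finite P := finite_of_le hP
  refine isPGroup_of_stabilizes (isPGroup_of_le hS hP) (F.autGroup P)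
    (fun j => (if hj : j ≤ n then Q ⟨n - j, by omega⟩ else S).subgroupOf P) n ?_ ?_ ?_
  · simp only [le_refl, dif_pos, Nat.sub_self]
    have : Q ⟨0, by omega⟩ = S := hQ0
    rw [this, Subgroup.subgroupOf_eq_top]; exact hP
  · simp only [Nat.zero_le, dif_pos, Nat.sub_zero]
    have : Q ⟨n, by omega⟩ = ⊥ := hQn
    rw [this, Subgroup.bot_subgroupOf]
  · intro α hα j x hx
    apply Subgroup.mem_subgroupOf.2
    have hx' := Subgroup.mem_subgroupOf.1 hx
    by_cases hj1 : j + 1 ≤ n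
    · have hj : j ≤ n := by omega
      simp only [hj1, dif_pos] at hx'
      simp only [hj, dif_pos]
      have h1 := hstep ⟨n - (j + 1), by omega⟩
      have h2 : (Fin.succ ⟨n - (j + 1), by omega⟩ : Fin (n + 1)) = ⟨n - j, by omega⟩ := by
        apply Fin.ext
        simp only [Fin.succ_mk]
        omega
      rw [h2] at h1
      apply h1
      apply Subgroup.subset_closure
      have hle : Subgroup.zpowers (x : Ω) ≤ P := by
        rw [Subgroup.zpowers_le]; exact x.2
      exact ⟨x, hx', _, F.restrict_mem ((F.mem_autGroup_iff hP α).1 hα) hle, rfl⟩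
    · by_cases hj : j ≤ n
      · have hjn : j = n := by omega
        subst hjn
        simp only [le_refl, dif_pos, Nat.sub_self]
        have : Q ⟨0, by omega⟩ = S := hQ0
        rw [this]
        exact S.mul_mem (S.inv_mem (hP x.2)) (hP (α x).2)
      · simp only [hj, dif_neg, not_false_iff]
        exact S.mul_mem (S.inv_mem (hP x.2)) (hP (α x).2)

end FusionSystem
end Cfsg
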