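import Cfsg.Agent.Fus.Solv
import Cfsg.Agent.Fus.Lift
import Cfsg.Agent.Fus.OmegaChain

/-!
Solvability of a fusion system, a normal subsystem and the factor system (S5159).
-/

set_option autoImplicit false

namespace Cfsg
namespace FusionSystem

open Agent.Fus Cfsg.Agent.Lib.Helper27.Fus
open scoped commutatorElement

variable {Ω : Type*} [Group Ω] {S T : Subgroup Ω} {Ω' : Type*} [Group Ω']

theorem isSolvableSystem_of_succ (F : FusionSystem S) [Finite S] {p : ℕ} [Fact p.Prime]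
    (hS : IsPGroup p S) (hF : F.IsSaturated p)
    (h : ∀ R, F.StronglyClosed R → R ≠ S → ∃ X, F.StronglyClosed X ∧ ¬ X ≤ R ∧ ⁅X, X⁆ ≤ R) :
    F.IsSolvableSystem := by
  intro R hR hne hnorm E hE
  have hq := hE.isQuotMap
  have hEsat := hE.isSaturated hR hS hF
  have hp' : IsPGroup p (⊤ : Subgroup (S ⧸ R.subgroupOf S)) :=
    (hS.to_quotient (R.subgroupOf S)).to_subgroup _
  rw [core_ne_bot_iff _ hp' hEsat]
  obtain ⟨X₀, hX₀, hi2, hab⟩ := h R hR hne
  have hX := hX₀.sup hS hF hR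
  refine ⟨imageAlong _ (X₀ ⊔ R), ?_, ?_, hE.stronglyClosed_image hX le_sup_right⟩
  · intro hbot
    apply hi2
    intro t ht
    have htS := hX₀.1 ht
    have h1 : QuotientGroup.mk' (R.subgroupOf S) ⟨t, htS⟩ ∈
        imageAlong (QuotientGroup.mk' (R.subgroupOf S)) (X₀ ⊔ R) :=
      mem_imageAlong.2 ⟨t, htS, Subgroup.mem_sup_left ht, rfl⟩
    rw [hbot, Subgroup.mem_bot] at h1
    exact (hq.ker _).1 h1
  · have hrep : ∀ y ∈ imageAlong (QuotientGroup.mk' (R.subgroupOf S)) (X₀ ⊔ R),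
        ∃ (t : Ω) (ht : t ∈ S), t ∈ X₀ ∧ QuotientGroup.mk' (R.subgroupOf S) ⟨t, ht⟩ = y := by
      intro y hy
      obtain ⟨x, hxS, hx, rfl⟩ := mem_imageAlong.1 hy
      have hle : X₀ ⊔ R ≤ preimageAlong (QuotientGroup.mk' (R.subgroupOf S))
          (imageAlong (QuotientGroup.mk' (R.subgroupOf S)) X₀) := by
        rw [hq.preimage_image hR.1 hX₀.1]
      obtain ⟨hxS', h2⟩ := mem_preimageAlong.1 (hle hx)
      obtain ⟨t, htS, ht, hty⟩ := mem_imageAlong.1 h2
      exact ⟨t, htS, ht, hty⟩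
    refine ⟨⟨fun a b => ?_⟩⟩
    apply Subtype.ext
    obtain ⟨s, hsS, hs, hsa⟩ := hrep a a.2
    obtain ⟨t, htS, ht, htb⟩ := hrep b b.2
    show (a : S ⧸ R.subgroupOf S) * b = b * a
    rw [← hsa, ← htb, ← map_mul, ← map_mul, hq.eq_iff]
    have h3 := hab (Subgroup.commutator_mem_commutator (Subgroup.inv_mem _ ht) (Subgroup.inv_mem _ hs))
    have h4 : ⁅t⁻¹, s⁻¹⁆ = (s * t)⁻¹ * (t * s) := by
      rw [commutatorElement_def]; group
    rw [h4] at h3
    exact h3

theorem commutator_self_le' (U : Subgroup Ω) : ⁅U, U⁆ ≤ U := by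
  rw [Subgroup.commutator_le]
  intro a ha b hb
  rw [commutatorElement_def]
  exact U.mul_mem (U.mul_mem (U.mul_mem ha hb) (U.inv_mem ha)) (U.inv_mem hb)

theorem IsSolvableSystem.exists_pred {F : FusionSystem S} [Finite S] {p : ℕ} [Fact p.Prime]
    (hS : IsPGroup p S) (hF : F.IsSaturated p) (h : F.IsSolvableSystem) {X : Subgroup Ω}
    (hX : F.StronglyClosed X) (hne : X ≠ ⊥) :
    ∃ U : Subgroup Ω, F.StronglyClosed U ∧ U < X ∧ ⁅X, X⁆ ≤ U := by
  obtain ⟨R, ⟨hR, hXR⟩, hmax⟩ := exists_max_nat (fun R : Subgroup Ω => F.StronglyClosed R ∧ ¬ X ≤ R)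
    (fun R => Nat.card R) (Nat.card S) (fun R hR => Subgroup.card_le_of_le hR.1.1)
    ⟨⊥, F.stronglyClosed_bot, fun hle => hne (le_bot_iff.1 hle)⟩
  have hRS : R ≠ S := fun heq => hXR (heq ▸ hX.1)
  obtain ⟨R', hR', hlt, hcomm⟩ := h.exists_succ hS hF hR hRS
  have hXR' : X ≤ R' := by
    by_contra hcon
    exact absurd (hmax R' ⟨hR', hcon⟩) (not_le.2 (card_lt_of_lt hR'.1 hlt))
  refine ⟨X ⊓ R, hX.inf hR, lt_of_le_of_ne inf_le_left (fun heq => hXR (inf_eq_left.1 heq)),
    le_inf (commutator_self_le' X) ((Subgroup.commutator_mono hXR' hXR').trans hcomm)⟩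

theorem StronglyClosed.of_subsystem {E : FusionSystem T} {F : FusionSystem S} (hEF : E.IsSubsystemOf F)
    {W : Subgroup Ω} (hW : F.StronglyClosed W) (hWT : W ≤ T) : E.StronglyClosed W :=
  ⟨hWT, fun P hP φ hφ x => hW.2 P hP φ (hEF P hφ) x⟩

theorem stronglyClosed_imgAut {E : FusionSystem T} {F : FusionSystem S} (hinv : E.AutInvariantIn F)
    {β : MulAut T} (hβ : β ∈ F.autGroup T) {U : Subgroup Ω} (hU : E.StronglyClosed U) :
    E.StronglyClosed (imgAut β U) := by
  refine ⟨imgAut_le β U, fun P hP φ hφ x => ?_⟩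
  have hPT : P ≤ T := hP.trans (imgAut_le β U)
  have hφT := (E.le_of_mem hφ).2
  obtain ⟨χ, hχ, hχx⟩ := hinv P hPT φ hφ β⁻¹ (Subgroup.inv_mem _ hβ)
  have hle : imgAut β⁻¹ P ≤ U := by
    intro y hy
    obtain ⟨z, hz, rfl⟩ := mem_imgAut.1 hy
    obtain ⟨u, hu, huz⟩ := mem_imgAut.1 (hP hz)
    have : β u = z := Subtype.ext huz
    rw [← this, MulAut.inv_apply_self]
    exact hu
  have h1 := hU.2 _ hle χ hχ ⟨_, apply_mem_imgAut β⁻¹ (x := ⟨x, hPT x.2⟩) x.2⟩
  rw [hχx x (hφT x)] at h1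
  have h2 := apply_mem_imgAut β h1
  rwa [MulAut.apply_inv_self] at h2

/-- The smallest strongly closed subgroup containing the commutator subgroup of `X`. -/
def sclDer (E : FusionSystem T) (X : Subgroup Ω) : Subgroup Ω :=
  sInf {U | E.StronglyClosed U ∧ ⁅X, X⁆ ≤ U}

theorem sclDer_stronglyClosed {E : FusionSystem T} {F : FusionSystem S} (hE : E.IsInvariantIn F)
    {X : Subgroup Ω} (hX : F.StronglyClosed X) (hXT : X ≤ T) : F.StronglyClosed (E.sclDer X) := by
  obtain ⟨hEF, hT, hinv, hfr⟩ := hE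
  have hXE : E.StronglyClosed X := hX.of_subsystem hEF hXT
  have hKX : E.sclDer X ≤ X := sInf_le ⟨hXE, commutator_self_le' X⟩
  have hKT : E.sclDer X ≤ T := hKX.trans hXT
  refine ⟨hKT.trans hT.1, fun P hP φ hφ x => ?_⟩
  obtain ⟨α, hα, φ₀, hφ₀, hφα⟩ := hfr P (hP.trans hKT) φ hφ
  have hφ₀T := (E.le_of_mem hφ₀).2
  rw [hφα x (hφ₀T x)]
  unfold sclDer
  rw [Subgroup.mem_sInf]
  rintro U ⟨hU, hXU⟩
  have hU₁ : imgAut α⁻¹ U ∈ {U | E.StronglyClosed U ∧ ⁅X, X⁆ ≤ U} := by
    refine ⟨stronglyClosed_imgAut hinv (Subgroup.inv_mem _ hα) hU, ?_⟩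
    have hle : ⁅X, X⁆ ≤ ((⁅X, X⁆.subgroupOf T).comap α.toMonoidHom).map T.subtype := by
      rw [Subgroup.commutator_le]
      intro a ha b hb
      refine ⟨⁅(⟨a, hXT ha⟩ : T), ⟨b, hXT hb⟩⁆, ?_, rfl⟩
      show α ⁅(⟨a, hXT ha⟩ : T), ⟨b, hXT hb⟩⁆ ∈ ⁅X, X⁆.subgroupOf T
      rw [map_commutatorElement]
      apply Subgroup.mem_subgroupOf.2
      exact Subgroup.commutator_mem_commutator (hX.aut_mem hT.1 hα ha) (hX.aut_mem hT.1 hα hb)
    intro c hc
    obtain ⟨c', hc', rfl⟩ := hle hc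
    have h1 : ((α c' : T) : Ω) ∈ U := hXU (Subgroup.mem_subgroupOf.1 hc')
    have h2 := apply_mem_imgAut α⁻¹ h1
    rwa [MulAut.inv_apply_self] at h2
  have h3 : φ₀ x ∈ imgAut α⁻¹ U :=
    hU₁.1.2 P (hP.trans (sInf_le hU₁)) φ₀ hφ₀ x
  obtain ⟨u, hu, hux⟩ := mem_imgAut.1 h3
  have h4 : (⟨φ₀ x, hφ₀T x⟩ : T) = α⁻¹ u := Subtype.ext hux.symm
  rw [h4, MulAut.apply_inv_self]
  exact hu

/-- S5159. -/
theorem isSolvableSystem_iff_of_normal (F : FusionSystem S) [Finite S] {p : ℕ} [Fact p.Prime]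
    (hS : IsPGroup p S) (hF : F.IsSaturated p) (E : FusionSystem T) (hEs : E.IsSaturated p)
    (hE : E.IsInvariantIn F) {S' : Subgroup Ω'} (θ : S →* Ω') (D : FusionSystem S')
    (hD : F.IsFactorSystem T θ D) : F.IsSolvableSystem ↔ (E.IsSolvableSystem ∧ D.IsSolvableSystem) := by
  have hEF := hE.1
  have hT := hE.2.1
  have hTS := hT.1
  have hfT : Finite T := finite_of_le hTS
  have hTp : IsPGroup p T := hS.to_le hTS
  have hq := hD.isQuotMap
  have hDs := hD.isSaturated hT hS hF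
  have hfS' : Finite S' := by
    rw [← hq.range]
    exact Finite.of_surjective θ.rangeRestrict θ.rangeRestrict_surjective
  have hS'p : IsPGroup p S' := by
    rw [← hq.range]
    exact hS.of_surjective θ.rangeRestrict θ.rangeRestrict_surjective
  constructor
  · intro h
    constructor
    · apply E.isSolvableSystem_of_succ hTp hEs
      intro R hR hne
      obtain ⟨Z, ⟨hZ, hZR⟩, hmax⟩ := exists_max_nat (fun Z : Subgroup Ω => F.StronglyClosed Z ∧ Z ⊓ T ≤ R)
        (fun Z => Nat.card Z) (Nat.card S) (fun Z hZ => Subgroup.card_le_of_le hZ.1.1)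
        ⟨⊥, F.stronglyClosed_bot, by simp⟩
      have hZS : Z ≠ S := by
        rintro rfl
        apply hne
        apply le_antisymm hR.1
        rwa [inf_eq_right.2 hTS] at hZR
      obtain ⟨Z', hZ', hlt, hcomm⟩ := h.exists_succ hS hF hZ hZS
      have hZ'R : ¬ Z' ⊓ T ≤ R := by
        intro hcon
        exact absurd (hmax Z' ⟨hZ', hcon⟩) (not_le.2 (card_lt_of_lt hZ'.1 hlt))
      refine ⟨Z' ⊓ T, (hZ'.inf hT).of_subsystem hEF inf_le_right, hZ'R, ?_⟩
      refine le_trans (le_inf ?_ ?_) hZR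
      · exact (Subgroup.commutator_mono inf_le_left inf_le_left).trans hcomm
      · exact (Subgroup.commutator_mono inf_le_right inf_le_right).trans (commutator_self_le' T)
    · apply D.isSolvableSystem_of_succ hS'p hDs
      intro R' hR' hne
      have hR := hD.stronglyClosed_preimage hS hF hT hR'
      have hRS : preimageAlong θ R' ≠ S := by
        intro heq
        apply hne
        apply le_antisymm hR'.1
        intro y hy
        rw [← hq.range] at hy
        obtain ⟨s, rfl⟩ := hy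
        have h1 : (s : Ω) ∈ preimageAlong θ R' := by rw [heq]; exact s.2
        exact (mem_preimageAlong.1 h1).2
      obtain ⟨R₁, hR₁, hlt, hcomm⟩ := h.exists_succ hS hF hR hRS
      have hTR₁ : T ≤ R₁ := (hq.le_preimageAlong hTS R').trans hlt.le
      refine ⟨imageAlong θ R₁, hD.stronglyClosed_image hR₁ hTR₁, ?_, ?_⟩
      · intro hcon
        apply not_le_of_gt hlt
        intro r hr
        exact mem_preimageAlong.2 ⟨hR₁.1 hr, hcon (mem_imageAlong.2 ⟨r, hR₁.1 hr, hr, rfl⟩)⟩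
      · rw [Subgroup.commutator_le]
        intro a ha b hb
        obtain ⟨a', ha'S, ha', rfl⟩ := mem_imageAlong.1 ha
        obtain ⟨b', hb'S, hb', rfl⟩ := mem_imageAlong.1 hb
        rw [← map_commutatorElement]
        have h1 := hcomm (Subgroup.commutator_mem_commutator ha' hb')
        exact (mem_preimageAlong.1 h1).2
  · rintro ⟨hEsol, hDsol⟩
    apply F.isSolvableSystem_of_succ hS hF
    intro R hR hne
    by_cases hTR : T ≤ R
    · have hR' := hD.stronglyClosed_image hR hTR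
      have hpre : preimageAlong θ (imageAlong θ R) = R := by
        rw [hq.preimage_image hTS hR.1, sup_eq_left.2 hTR]
      have hR'ne : imageAlong θ R ≠ S' := by
        intro heq
        apply hne
        apply le_antisymm hR.1
        intro s hs
        rw [← hpre]
        refine mem_preimageAlong.2 ⟨hs, ?_⟩
        rw [heq]
        exact hq.mem _
      obtain ⟨R'', hR'', hlt, hcomm⟩ := hDsol.exists_succ hS'p hDs hR' hR'ne
      refine ⟨preimageAlong θ R'', hD.stronglyClosed_preimage hS hF hT hR'', ?_, ?_⟩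
      · intro hcon
        apply not_le_of_gt hlt
        rw [← hq.image_preimage hR''.1]
        intro y hy
        obtain ⟨x, hxS, hx, rfl⟩ := mem_imageAlong.1 hy
        exact mem_imageAlong.2 ⟨x, hxS, hcon hx, rfl⟩
      · rw [Subgroup.commutator_le]
        intro a ha b hb
        obtain ⟨haS, ha'⟩ := mem_preimageAlong.1 ha
        obtain ⟨hbS, hb'⟩ := mem_preimageAlong.1 hb
        rw [← hpre]
        have h1 := hcomm (Subgroup.commutator_mem_commutator ha' hb')
        rw [← map_commutatorElement] at h1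
        exact mem_preimageAlong.2 ⟨_, h1⟩
    · obtain ⟨X, ⟨hX, hXT, hXR⟩, hmin⟩ := exists_max_nat
        (fun X : Subgroup Ω => F.StronglyClosed X ∧ X ≤ T ∧ ¬ X ≤ R)
        (fun X => Nat.card S - Nat.card X) (Nat.card S) (fun X _ => Nat.sub_le _ _) ⟨T, hT, le_rfl, hTR⟩
      have hXne : X ≠ ⊥ := by
        rintro rfl
        exact hXR bot_le
      obtain ⟨U, hU, hUX, hXU⟩ := hEsol.exists_pred hTp hEs (hX.of_subsystem hEF hXT) hXne
      have hK := sclDer_stronglyClosed hE hX hXT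
      have hKU : E.sclDer X ≤ U := sInf_le ⟨hU, hXU⟩
      have hKlt : E.sclDer X < X := lt_of_le_of_lt hKU hUX
      have hXK : ⁅X, X⁆ ≤ E.sclDer X := le_sInf (fun _ h => h.2)
      refine ⟨X, hX, hXR, hXK.trans ?_⟩
      by_contra hcon
      have h1 := hmin _ ⟨hK, hKlt.le.trans hXT, hcon⟩
      have h2 := card_lt_of_lt hX.1 hKlt
      have h3 : Nat.card X ≤ Nat.card S := Subgroup.card_le_of_le hX.1
      omega

end FusionSystem
end Cfsg
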