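import Cfsg.Agent.Fus.Normal3
import Cfsg.Agent.Fus.HypAut
import Cfsg.Agent.Fus.FocalChain
import Cfsg.Agent.Fus.Model
import Cfsg.Agent.Fus.OmegaChain
import Cfsg.Agent.Fus.Solv3
import Cfsg.Agent.Lib.Helper27.FusCentric

/-!
Constrained fusion systems: `O_p(Aut_F(O_p(F))) = Inn(O_p(F))`, and saturated subsystems over strongly closed
subgroups of constrained systems are constrained.
-/

set_option autoImplicit false

namespace Cfsg
namespace FusionSystem

open Cfsg.Agent.Fus Cfsg.Agent.Lib.Helper27.Fus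
open scoped commutatorElement

variable {Ω : Type*} [Group Ω] {S : Subgroup Ω}

/-- The elements of `S` inducing on `Q` an element of `O_p(Aut_F(Q))`. -/
def radPre (F : FusionSystem S) (p : ℕ) (Q : Subgroup Ω) : Subgroup Ω :=
  S ⊓ actsIn Q ((pCore p (F.autGroup Q)).map (F.autGroup Q).subtype)

theorem isNormal_radPre (F : FusionSystem S) [Finite S] {p : ℕ} [Fact p.Prime]
    (hS : IsPGroup p S) (hF : F.IsSaturated p) {Q : Subgroup Ω} (hQ : F.IsNormal Q) (hc : F.IsCentric Q) :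
    F.IsNormal (F.radPre p Q) := by
  have hfQ : Finite Q := finite_of_le hQ.1
  set B := (pCore p (F.autGroup Q)).map (F.autGroup Q).subtype with hB
  have hBn : ∀ β ∈ B, ∀ γ ∈ F.autGroup Q, γ * β * γ⁻¹ ∈ B := by
    rintro _ ⟨b, hb, rfl⟩ γ hγ
    refine ⟨(⟨γ, hγ⟩ : F.autGroup Q) * b * (⟨γ, hγ⟩ : F.autGroup Q)⁻¹,
      (pCore_normal' p _).conj_mem b hb _, ?_⟩
    simp only [map_mul, map_inv, Subgroup.coe_subtype]
  have hBp : IsPGroup p B := pCore_isPGroup.map _
  have hQsc := hQ.stronglyClosed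
  have hsc : F.StronglyClosed (F.radPre p Q) := by
    refine ⟨inf_le_left, fun R hR φ hφ x => ?_⟩
    obtain ⟨ψ, hψ, h3, κ, hκ⟩ := (F.isNormal_iff.1 hQ).2 R φ hφ
    obtain ⟨β, hβ, hβx⟩ := (hR x.2).2
    have hκF : κ ∈ F.autGroup Q := by
      rw [F.mem_autGroup_iff hQ.1]
      have h1 := F.restrict_mem hψ (le_sup_right : Q ≤ R ⊔ Q)
      have h2 : Q.subtype.comp κ.toMonoidHom = ψ.comp (Subgroup.inclusion le_sup_right) := by
        ext y; exact (hκ y).symm
      show Q.subtype.comp κ.toMonoidHom ∈ F.Hom Q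
      rw [h2]; exact h1
    refine ⟨(F.le_of_mem hφ).2 x, κ * β * κ⁻¹, hBn β hβ κ hκF, fun t => ?_⟩
    have ht : t = κ (κ⁻¹ t) := (MulAut.apply_inv_self _ κ t).symm
    show ((κ (β (κ⁻¹ t)) : Q) : Ω) = _
    conv_rhs => rw [ht]
    rw [← hκ, ← h3, ← hκ (κ⁻¹ t), ← map_mul, ← map_inv, ← map_mul]
    congr 1
    apply Subtype.ext
    exact hβx _
  apply F.isNormal_of_stronglyClosed_of_pCore hS hF hsc
  intro P hPc hPr g hg hgN
  have hPle := hPc.1
  have hfP : Finite P := finite_of_le hPle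
  have hQP : Q ≤ P := hQ.le_of_centric_radical hS hPc hPr
  obtain ⟨Φ, hΦ⟩ := exists_restrict_aut_hom hQP (F.autGroup P)
    (fun β hβ x hx => hQsc.aut_mem hPle hβ hx)
  have hΦF : ∀ β : F.autGroup P, Φ β ∈ F.autGroup Q := by
    intro β
    rw [F.mem_autGroup_iff hQ.1]
    have h1 := F.restrict_mem ((F.mem_autGroup_iff hPle _).1 β.2) hQP
    have h2 : Q.subtype.comp (Φ β).toMonoidHom =
        (P.subtype.comp (β : MulAut P).toMonoidHom).comp (Subgroup.inclusion hQP) := by
      ext y; exact hΦ β y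
    show Q.subtype.comp (Φ β).toMonoidHom ∈ F.Hom Q
    rw [h2]; exact h1
  have hker : IsPGroup p Φ.ker := by
    have h1 : IsPGroup p (Φ.ker.map (F.autGroup P).subtype) := by
      refine isPGroup_of_stabilizes (isPGroup_of_le hS hPle) _
        (fun j => if j = 0 then ⊥ else if j = 1 then Q.subgroupOf P else ⊤) 2 (by simp) (by simp) ?_
      rintro _ ⟨β, hβ, rfl⟩ j x hx
      have hβ1 : ∀ t : Q, (((β : MulAut P) (Subgroup.inclusion hQP t) : P) : Ω) = t := by
        intro t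
        rw [← hΦ, MonoidHom.mem_ker.1 hβ]; rfl
      rcases j with _ | _ | j
      · have hx' : (x : Ω) ∈ Q := by simpa [Subgroup.mem_subgroupOf] using hx
        have h2 := hβ1 ⟨x, hx'⟩
        have h3 : (β : MulAut P) x = x := Subtype.ext h2
        show x⁻¹ * (β : MulAut P) x ∈ _
        rw [h3]; simp
      · show x⁻¹ * (β : MulAut P) x ∈ (if (1 : ℕ) = 0 then ⊥ else if (1 : ℕ) = 1 then Q.subgroupOf P else ⊤)
        simp only [one_ne_zero, if_false, if_true]
        apply Subgroup.mem_subgroupOf.2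
        apply hc.2 Q (IsConj.refl F hQ.1)
        refine mem_centralizerIn.2 ⟨hPle (x⁻¹ * (β : MulAut P) x).2, fun q hq => ?_⟩
        have hxq : (x : Ω) * q * (x : Ω)⁻¹ ∈ Q := hQsc.conj_mem (hPle x.2) hq
        have h2 := hβ1 ⟨_, hxq⟩
        have h3 : Subgroup.inclusion hQP ⟨(x : Ω) * q * (x : Ω)⁻¹, hxq⟩ =
            x * Subgroup.inclusion hQP ⟨q, hq⟩ * x⁻¹ := Subtype.ext rfl
        rw [h3, map_mul, map_mul, map_inv] at h2
        have h4 : (((β : MulAut P) x : P) : Ω) * q * (((β : MulAut P) x : P) : Ω)⁻¹ = x * q * (x : Ω)⁻¹ := by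
          have h5 := hβ1 ⟨q, hq⟩
          simp only [Subgroup.coe_mul, Subgroup.coe_inv, h5] at h2
          exact h2
        show q * ((x : Ω)⁻¹ * (((β : MulAut P) x : P) : Ω)) = (x : Ω)⁻¹ * (((β : MulAut P) x : P) : Ω) * q
        have h6 : (((β : MulAut P) x : P) : Ω) * q = x * q * (x : Ω)⁻¹ * (((β : MulAut P) x : P) : Ω) := by
          rw [← h4]; group
        rw [mul_assoc _ _ q, h6]; group
      · simp
    exact h1.of_injective (Φ.ker.equivMapOfInjective _ (Subgroup.subtype_injective _)).toMonoidHom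
      (MulEquiv.injective _)
  have hKp : IsPGroup p (B.comap Φ) := hBp.comap_of_ker_isPGroup Φ hker
  refine le_pCore_map (B := (B.comap Φ).map (F.autGroup P).subtype) ?_ ?_ (hKp.map _) ?_
  · rintro _ ⟨β, -, rfl⟩; exact β.2
  · rintro _ ⟨β, hβ, rfl⟩ γ hγ
    refine ⟨⟨γ, hγ⟩ * β * ⟨γ, hγ⟩⁻¹, ?_, rfl⟩
    show Φ _ ∈ B
    rw [map_mul, map_mul, map_inv]
    exact hBn _ hβ _ (hΦF _)
  · refine ⟨⟨conjAut g hgN, F.autInducedBy_le_autGroup hPle (conjAut_mem hgN hg.1)⟩, ?_, rfl⟩
    show Φ _ ∈ B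
    obtain ⟨β, hβ, hβx⟩ := hg.2
    have : Φ ⟨conjAut g hgN, F.autInducedBy_le_autGroup hPle (conjAut_mem hgN hg.1)⟩ = β := by
      ext t
      rw [hΦ, hβx]; rfl
    rw [this]; exact hβ

theorem le_core {F : FusionSystem S} {Q : Subgroup Ω} (hQ : F.IsNormal Q) : Q ≤ F.core :=
  le_sSup hQ

theorem IsConstrained.isCentric_core {F : FusionSystem S} [Finite S] {p : ℕ} (hF : F.IsConstrained p) :
    F.IsCentric F.core := by
  obtain ⟨-, Q, hQ, hc⟩ := hF
  exact IsCentric.of_le hc (le_core hQ) F.isNormal_core.1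

/-- In a constrained system `O_p(Aut_F(O_p(F)))` is induced by `O_p(F)`. -/
theorem IsConstrained.mem_core {F : FusionSystem S} [Finite S] {p : ℕ} [Fact p.Prime]
    (hS : IsPGroup p S) (hF : F.IsConstrained p) {x : Ω} (hx : x ∈ S)
    (hxN : x ∈ Subgroup.normalizer (F.core : Set Ω))
    (h : conjAut x hxN ∈ (pCore p (F.autGroup F.core)).map (F.autGroup F.core).subtype) : x ∈ F.core :=
  le_core (F.isNormal_radPre hS hF.1 F.isNormal_core hF.isCentric_core) ⟨hx, _, h, fun _ => rfl⟩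

variable {T : Subgroup Ω}

/-- A saturated subsystem of a constrained system over a strongly closed subgroup is constrained. -/
theorem IsConstrained.of_subsystem {F : FusionSystem S} [Finite S] {p : ℕ} [Fact p.Prime]
    (hS : IsPGroup p S) (hF : F.IsConstrained p) {E : FusionSystem T} (hE : E.IsSaturated p)
    (hEF : E.IsSubsystemOf F) (hT : F.StronglyClosed T) : E.IsConstrained p := by
  have hTS := hT.1
  have hfT : Finite T := finite_of_le hTS
  have hTp : IsPGroup p T := isPGroup_of_le hS hTS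
  set Q := F.core with hQdef
  have hQ : F.IsNormal Q := F.isNormal_core
  have hQsc := hQ.stronglyClosed
  have hfQ : Finite Q := finite_of_le hQ.1
  have hRsc : F.StronglyClosed (Q ⊓ T) := hQsc.inf hT
  have hRE : E.StronglyClosed (Q ⊓ T) := hRsc.of_subsystem hEF inf_le_right
  refine ⟨hE, Q ⊓ T, ?_, ?_⟩
  · obtain ⟨n, Qs, h0, hn, hmono, hstep⟩ := (F.isNormal_iff_series hS hF.1 Q).1 hQ
    refine (E.isNormal_iff_series hTp hE (Q ⊓ T)).2 ⟨n, fun i => Qs i ⊓ T, ?_, ?_, ?_, ?_⟩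
    · show Qs 0 ⊓ T = ⊥
      rw [h0, bot_inf_eq]
    · show Qs (Fin.last n) ⊓ T = Q ⊓ T
      rw [hn]
    · intro i j hij
      exact inf_le_inf_right _ (hmono hij)
    · intro i
      refine ⟨((hstep i).1.inf hT).of_subsystem hEF inf_le_right, ?_⟩
      refine le_inf ((Subgroup.commutator_mono inf_le_left inf_le_left).trans (hstep i).2) ?_
      exact (Subgroup.commutator_mono inf_le_right inf_le_right).trans (commutator_self_le' T)
  · refine ⟨inf_le_right, fun R hR => ?_⟩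
    rw [hRE.eq_of_isConj hR]
    intro x hx
    obtain ⟨hxT, hxc⟩ := mem_centralizerIn.1 hx
    have hxS := hTS hxT
    have hxN : x ∈ Subgroup.normalizer (Q : Set Ω) := hQsc.le_normalizer hxS
    refine ⟨hF.mem_core hS hxS hxN ?_, hxT⟩
    refine mem_pCore_of_stabilizes (isPGroup_of_le hS hQ.1) (F.autGroup Q)
      (fun j => if j = 0 then ⊥ else if j = 1 then (Q ⊓ T).subgroupOf Q else ⊤) 2 (by simp) ?_ ?_
      (F.autInducedBy_le_autGroup hQ.1 (conjAut_mem hxN hxS)) ?_
    · intro α hα j y hy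
      rcases j with _ | _ | j
      · have : y = 1 := by simpa using hy
        rw [this, map_one]; exact Subgroup.one_mem _
      · have hy' : (y : Ω) ∈ Q ⊓ T := by simpa [Subgroup.mem_subgroupOf] using hy
        show α y ∈ (if (1 : ℕ) = 0 then ⊥ else if (1 : ℕ) = 1 then (Q ⊓ T).subgroupOf Q else ⊤)
        simp only [one_ne_zero, if_false, if_true]
        exact Subgroup.mem_subgroupOf.2 (hRsc.aut_mem hQ.1 hα hy')
      · simp
    · intro α _
      refine ⟨0, fun y hy => ?_⟩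
      have : y = 1 := by simpa using hy
      rw [this, map_one]
    · intro j y hy
      rcases j with _ | _ | j
      · have hy' : (y : Ω) ∈ Q ⊓ T := by simpa [Subgroup.mem_subgroupOf] using hy
        have h1 : conjAut x hxN y = y := by
          apply Subtype.ext
          show x * y * x⁻¹ = y
          rw [← hxc y hy']; group
        rw [h1]; simp
      · show y⁻¹ * conjAut x hxN y ∈
          (if (1 : ℕ) = 0 then ⊥ else if (1 : ℕ) = 1 then (Q ⊓ T).subgroupOf Q else ⊤)
        simp only [one_ne_zero, if_false, if_true]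
        apply Subgroup.mem_subgroupOf.2
        refine ⟨(y⁻¹ * conjAut x hxN y).2, ?_⟩
        show (y : Ω)⁻¹ * (x * y * x⁻¹) ∈ T
        have h1 : (y : Ω)⁻¹ * x * ((y : Ω)⁻¹)⁻¹ ∈ T := hT.conj_mem (S.inv_mem (hQ.1 y.2)) hxT
        have h2 := T.mul_mem h1 (T.inv_mem hxT)
        have h3 : (y : Ω)⁻¹ * x * ((y : Ω)⁻¹)⁻¹ * x⁻¹ = (y : Ω)⁻¹ * (x * y * x⁻¹) := by group
        rwa [h3] at h2
      · simp

end FusionSystem
end Cfsg
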