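import Cfsg.Agent.Fus.KSat

/-!
Saturation of the `K`-normalizer systems `N_F^K(Q)`: the main theorem.
-/

set_option autoImplicit false

namespace Cfsg
namespace FusionSystem

open Cfsg.Agent.Fus

variable {Ω : Type*} [Group Ω] {S : Subgroup Ω}

theorem exists_conj_HK (F : FusionSystem S) [Finite S] {p : ℕ} [Fact p.Prime] (hS : IsPGroup p S)
    (hF : F.IsSaturated p) {Q : Subgroup Ω} (hQ : Q ≤ S) (K : Subgroup (MulAut Q)) (hQK : F.HK p Q K)
    {P : Subgroup Ω} (hP : P ≤ kNormalizerIn S Q K) :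
    ∃ P', (F.kNormalizerSystem Q hQ K).IsConj P P' ∧ F.HK p (P' ⊔ Q) (kExt P' Q K) := by
  have hPQ : P ⊔ Q ≤ S := sup_le (hP.trans kNormalizerIn_le) hQ
  obtain ⟨R', e₁, he₁, hHK⟩ := F.exists_HK hS hF hPQ (kExt P Q K)
  have hR'S : R' ≤ S := hHK.1.1
  have hφQ : (R'.subtype.comp e₁.toMonoidHom).comp (Subgroup.inclusion le_sup_right) ∈ F.Hom Q :=
    F.restrict_mem he₁ le_sup_right
  set φQ := (R'.subtype.comp e₁.toMonoidHom).comp (Subgroup.inclusion (le_sup_right : Q ≤ P ⊔ Q)) with hφQdef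
  set θ₀ := F.rangeEquiv hφQ with hθ₀def
  have hθ₀ := F.isMor_rangeEquiv hφQ
  have hθ : F.IsMor θ₀.symm.toMonoidHom := hθ₀.symm F
  have hθ₀c : ∀ q : Q, ((θ₀ q : φQ.range) : Ω) = ((e₁ (Subgroup.inclusion le_sup_right q) : R') : Ω) :=
    fun q => rfl
  obtain ⟨χ, hχ, ψ, hψ, hψe⟩ := hQK.exists_extension hS θ₀.symm hθ
  have hR'D : R' ≤ φQ.range ⊔ kNormalizerIn S φQ.range (K.map (MulAut.congr θ₀.symm.symm).toMonoidHom) := by
    intro r hr
    have key := forall_mem_sup ((φQ.range ⊔ kNormalizerIn S φQ.range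
      (K.map (MulAut.congr θ₀.symm.symm).toMonoidHom)).comap (R'.subtype.comp e₁.toMonoidHom)) ?_ ?_
      (e₁.symm ⟨r, hr⟩)
    · have h1 : ((e₁ (e₁.symm ⟨r, hr⟩) : R') : Ω) ∈ φQ.range ⊔ kNormalizerIn S φQ.range
          (K.map (MulAut.congr θ₀.symm.symm).toMonoidHom) := key
      rwa [MulEquiv.apply_symm_apply] at h1
    · intro x
      obtain ⟨-, κx, hκx, hκxx⟩ := hP x.2
      refine (le_sup_right : _ ≤ φQ.range ⊔ _) ⟨hR'S (e₁ _).2, _, ⟨κx, hκx, rfl⟩, fun y => ?_⟩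
      show ((θ₀ (κx (θ₀.symm y)) : φQ.range) : Ω) = _
      rw [hθ₀c]
      have h1 : Subgroup.inclusion (le_sup_right : Q ≤ P ⊔ Q) (κx (θ₀.symm y)) =
          Subgroup.inclusion le_sup_left x * Subgroup.inclusion le_sup_right (θ₀.symm y) *
            (Subgroup.inclusion le_sup_left x)⁻¹ := Subtype.ext (hκxx _)
      rw [h1, map_mul, map_mul, map_inv]
      have h2 := hθ₀c (θ₀.symm y)
      rw [MulEquiv.apply_symm_apply] at h2
      simp only [Subgroup.coe_mul, Subgroup.coe_inv, ← h2]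
      rfl
    · intro x
      exact (le_sup_left : φQ.range ≤ φQ.range ⊔ _) ⟨x, rfl⟩
  have hND : kNormalizerIn S R' ((kExt P Q K).map (MulAut.congr e₁).toMonoidHom) ≤
      φQ.range ⊔ kNormalizerIn S φQ.range (K.map (MulAut.congr θ₀.symm.symm).toMonoidHom) := by
    rintro g ⟨hgS, _, ⟨α, hα, rfl⟩, hgl⟩
    obtain ⟨-, κα, hκα, hκαx⟩ := hα
    refine (le_sup_right : _ ≤ φQ.range ⊔ _) ⟨hgS, _, ⟨κα, hκα, rfl⟩, fun y => ?_⟩
    show ((θ₀ (κα (θ₀.symm y)) : φQ.range) : Ω) = _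
    have h1 := hgl (e₁ (Subgroup.inclusion le_sup_right (θ₀.symm y)))
    have h2 := hθ₀c (θ₀.symm y)
    rw [MulEquiv.apply_symm_apply] at h2
    rw [← h2] at h1
    rw [← h1, hθ₀c]
    show _ = ((e₁ (α (e₁.symm (e₁ _))) : R') : Ω)
    rw [MulEquiv.symm_apply_apply]
    have h3 : α (Subgroup.inclusion le_sup_right (θ₀.symm y)) =
        Subgroup.inclusion le_sup_right (κα (θ₀.symm y)) := Subtype.ext (hκαx _)
    rw [h3]
  have hSg : F.IsMor ((ψ.comp (Subgroup.inclusion hR'D)).comp e₁.toMonoidHom) :=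
    (hψ.restrict F hR'D).comp F he₁
  set Sg := (ψ.comp (Subgroup.inclusion hR'D)).comp e₁.toMonoidHom with hSgdef
  have hφP : (S.subtype.comp Sg).comp (Subgroup.inclusion le_sup_left) ∈ F.Hom P :=
    F.restrict_mem hSg le_sup_left
  have honQ : ∀ x : Q, ((Sg (Subgroup.inclusion le_sup_right x) : S) : Ω) = χ x := by
    intro x
    have h1 := hψe (θ₀ x) (Subgroup.inclusion hR'D (e₁ (Subgroup.inclusion le_sup_right x))) rfl
    rw [MulEquiv.symm_apply_apply] at h1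
    exact h1
  obtain ⟨σ, hσ, hσz⟩ := F.exists_equiv_sup hSg (F.rangeEquiv hφP) (fun x => rfl) χ honQ
  have h2 := hHK.transfer hS hF (e₁.symm.trans σ) hND hR'D ψ hψ (fun x y hy => by
    show _ = ((σ (e₁.symm x) : _) : Ω)
    rw [hσz]
    show _ = ((ψ (Subgroup.inclusion hR'D (e₁ (e₁.symm x))) : S) : Ω)
    rw [MulEquiv.apply_symm_apply]
    have : y = Subgroup.inclusion hR'D x := Subtype.ext hy
    rw [this])
  have hmap : ((kExt P Q K).map (MulAut.congr e₁).toMonoidHom).map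
      (MulAut.congr (e₁.symm.trans σ)).toMonoidHom = kExt _ Q K := by
    rw [← kExt_map_congr σ (F.rangeEquiv hφP) (fun x => hσz _) χ hχ.2 (fun x => (hσz _).trans (honQ x)),
      Subgroup.map_map]
    congr 1
    ext α x
    simp [MulAut.congr_apply]
  rw [hmap] at h2
  refine ⟨_, ⟨_, ⟨hP, fun x => ?_, S.subtype.comp Sg, hSg, fun x => rfl, χ, hχ.2, honQ⟩, rfl⟩, h2⟩
  exact map_mem_kNormalizerIn le_sup_right Sg χ hχ.2 honQ (g := Subgroup.inclusion le_sup_left x) (hP x.2)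

/-- AKO Theorem I.5.5. -/
theorem kNormalizerSystem_isSaturated (F : FusionSystem S) [Finite S] {p : ℕ} [Fact p.Prime]
    (hS : IsPGroup p S) (hF : F.IsSaturated p) {Q : Subgroup Ω} (hQ : Q ≤ S) (K : Subgroup (MulAut Q))
    (hQK : F.HK p Q K) : (F.kNormalizerSystem Q hQ K).IsSaturated p := by
  intro P hP
  obtain ⟨P', hconj, hHK⟩ := F.exists_conj_HK hS hF hQ K hQK hP
  have hP' := hconj.le_right _
  exact ⟨P', hconj, F.kNormalizerSystem_isFullyAutomized hQ K hP' hHK,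
    F.kNormalizerSystem_isReceptive hS hQ K hP' hHK⟩

theorem castSys_isSaturated {T T' : Subgroup Ω} (h : T = T') (E : FusionSystem T) {p : ℕ}
    (hE : E.IsSaturated p) : (castSys h E).IsSaturated p := by
  subst h
  exact hE

/-- S5098. -/
theorem IsNormalizerSystem.isSaturated {F : FusionSystem S} [Finite S] {p : ℕ} [Fact p.Prime]
    (hS : IsPGroup p S) (hF : F.IsSaturated p) {Q : Subgroup Ω} (hQ : F.IsFullyNormalized Q)
    {E : FusionSystem (normalizerIn S Q)} (hE : F.IsNormalizerSystem Q E) : E.IsSaturated p := by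
  obtain ⟨-, hfa, hrec⟩ := hF.fullyNormalized F hS hQ
  have h1 : E = F.normalizerSystem Q hQ.1 := by
    apply ext_hom
    intro P
    rw [hE P, F.isNormalizerSystem_normalizerSystem Q hQ.1 P]
  rw [h1]
  apply castSys_isSaturated
  apply F.kNormalizerSystem_isSaturated hS hF
  refine ⟨hrec, ?_⟩
  rw [inf_top_eq, inf_top_eq]
  exact hfa.isSylowIn

/-- S5099. -/
theorem IsCentralizerSystem.isSaturated {F : FusionSystem S} [Finite S] {p : ℕ} [Fact p.Prime]
    (hS : IsPGroup p S) (hF : F.IsSaturated p) {Q : Subgroup Ω} (hQ : F.IsFullyCentralized Q)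
    {E : FusionSystem (centralizerIn S Q)} (hE : F.IsCentralizerSystem Q E) : E.IsSaturated p := by
  have hrec := hF.receptive_of_fullyCentralized F hS hQ
  have h1 : E = F.centralizerSystem Q hQ.1 := by
    apply ext_hom
    intro P
    rw [hE P, F.isCentralizerSystem_centralizerSystem Q hQ.1 P]
  rw [h1]
  apply castSys_isSaturated
  apply F.kNormalizerSystem_isSaturated hS hF
  refine ⟨hrec, ?_⟩
  rw [inf_bot_eq, inf_bot_eq]
  apply isSylowIn_of_card le_rfl
  simp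

end FusionSystem
end Cfsg
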