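import Cfsg.Agent.Fus.StrongInv
import Cfsg.Agent.Fus.KSat2
import Cfsg.Agent.Fus.Model
import Cfsg.Agent.Fus.Solv3

/-!
Fusion systems over a direct product of two strongly closed subgroups.
-/

set_option autoImplicit false

namespace Cfsg
namespace FusionSystem

open Cfsg.Agent.Fus

variable {Ω : Type*} [Group Ω] {S : Subgroup Ω}

/-- Conjugating a map of the system by another one. -/
theorem exists_conj_map (F : FusionSystem S) {P Q : Subgroup Ω} (hPQ : P ≤ Q) {φ : P →* Ω} (hφ : φ ∈ F.Hom P)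
    (hφQ : ∀ x : P, φ x ∈ Q) {ψ : Q →* Ω} (hψ : ψ ∈ F.Hom Q) :
    ∃ χ ∈ F.Hom ((P.subgroupOf Q).map ψ),
      ∀ (x : P) (hx : ψ (Subgroup.inclusion hPQ x) ∈ (P.subgroupOf Q).map ψ),
        χ ⟨ψ (Subgroup.inclusion hPQ x), hx⟩ = ψ ⟨φ x, hφQ x⟩ := by
  have hres := F.restrict_mem hψ hPQ
  obtain ⟨i₀, hi₀, hi₀x⟩ := F.inv_mem hres
  have h1 : ∀ y, i₀ y ∈ P := by
    rintro ⟨_, x, rfl⟩
    rw [hi₀x]; exact x.2
  have h2 := F.comp_mem hi₀ hφ h1
  have h3 := F.comp_mem h2 hψ (fun y => hφQ _)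
  have heq : (ψ.comp (Subgroup.inclusion hPQ)).range = (P.subgroupOf Q).map ψ := by
    ext y
    constructor
    · rintro ⟨x, rfl⟩
      exact ⟨Subgroup.inclusion hPQ x, Subgroup.mem_subgroupOf.2 x.2, rfl⟩
    · rintro ⟨z, hz, rfl⟩
      exact ⟨⟨z, Subgroup.mem_subgroupOf.1 hz⟩, rfl⟩
  refine ⟨_, F.hom_congr heq h3 ((ψ.comp ((φ.comp (i₀.codRestrict P h1)).codRestrict Q
    (fun y => hφQ _))).comp (Subgroup.inclusion heq.ge)) (fun _ _ _ => rfl), ?_⟩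
  intro x hx
  show ψ ⟨φ ⟨i₀ _, _⟩, _⟩ = ψ ⟨φ x, hφQ x⟩
  congr 2
  congr 1
  apply Subtype.ext
  exact hi₀x x

theorem StronglyClosed.exists_preimage {F : FusionSystem S} [Finite S] {C : Subgroup Ω}
    (hC : F.StronglyClosed C) {D : Subgroup Ω} (hCD : C ≤ D) {ψ : D →* Ω} (hψ : ψ ∈ F.Hom D) {c : Ω}
    (hc : c ∈ C) : ∃ c' : D, (c' : Ω) ∈ C ∧ ψ c' = c := by
  have hfC : Finite C := finite_of_le hC.1
  let f : C → C := fun x => ⟨ψ (Subgroup.inclusion hCD x), hC.map_mem hψ x.2⟩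
  have hinj : Function.Injective f := by
    intro a b hab
    have h1 : ψ (Subgroup.inclusion hCD a) = ψ (Subgroup.inclusion hCD b) := congrArg Subtype.val hab
    exact Subgroup.inclusion_injective hCD (F.injective_of_mem hψ h1)
  obtain ⟨c', hc'⟩ := Finite.surjective_of_injective hinj ⟨c, hc⟩
  exact ⟨Subgroup.inclusion hCD c', c'.2, congrArg Subtype.val hc'⟩

/-- Maps extend over a strongly closed subgroup centralizing source and image. -/
theorem exists_extension_sup (F : FusionSystem S) [Finite S] {p : ℕ} [Fact p.Prime]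
    (hS : IsPGroup p S) (hF : F.IsSaturated p) {Q C : Subgroup Ω} {ψ : Q →* Ω} (hψ : ψ ∈ F.Hom Q)
    (hC : F.StronglyClosed C) (h1 : ∀ c ∈ C, ∀ x ∈ Q, x * c = c * x)
    (h2 : ∀ c ∈ C, ∀ x : Q, ψ x * c = c * ψ x) :
    ∃ ψ' ∈ F.Hom (Q ⊔ C), ∀ x : Q, ψ' (Subgroup.inclusion le_sup_left x) = ψ x := by
  have hQS : Q ≤ S := (F.le_of_mem hψ).1
  have hQ₁ : ψ.range ≤ S := by
    rintro _ ⟨x, rfl⟩; exact (F.le_of_mem hψ).2 x
  obtain ⟨Qs, e, ρ, hQs, he, hρ, hρe⟩ := hF.exists_fullyNormalized_map F hS hQ₁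
  have hrec : F.IsReceptive Qs := (hF.fullyNormalized F hS hQs).2.2
  have he₂ : F.IsMor ((F.rangeEquiv hψ).trans e).toMonoidHom :=
    (he.comp F (F.isMor_rangeEquiv hψ)).congr F (fun _ => rfl)
  have hCc : C ≤ centralizerIn S Q := fun c hc => mem_centralizerIn.2 ⟨hC.1 hc, h1 c hc⟩
  have hR : Q ⊔ C ≤ extender S Q (Qs.subtype.comp ((F.rangeEquiv hψ).trans e).toMonoidHom) :=
    sup_le (le_extender _ hQS hQs.1) (hCc.trans (centralizerIn_le_extender _))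
  obtain ⟨l, hl, hle⟩ := hrec.exists_extension F _ he₂ hR
  have hCc₁ : C ≤ centralizerIn S ψ.range := by
    intro c hc
    refine mem_centralizerIn.2 ⟨hC.1 hc, ?_⟩
    rintro _ ⟨x, rfl⟩
    exact h2 c hc x
  have hN : ψ.range ⊔ C ≤ normalizerIn S ψ.range :=
    sup_le (le_normalizerIn hQ₁) (hCc₁.trans centralizerIn_le_normalizerIn)
  have hρ' := F.restrict_mem hρ hN
  set r := ((normalizerIn S Qs).subtype.comp ρ).comp (Subgroup.inclusion hN) with hr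
  obtain ⟨j, hj, hjx⟩ := F.inv_mem hρ'
  have hlQ : ∀ x : Q, ((l (Subgroup.inclusion le_sup_left x) : S) : Ω) =
      r (Subgroup.inclusion le_sup_left (F.rangeEquiv hψ x)) := by
    intro x
    rw [hle x _ rfl]
    exact (hρe (F.rangeEquiv hψ x) _ rfl).symm
  have hmem : ∀ z : ↥(Q ⊔ C), (S.subtype.comp l) z ∈ r.range := by
    refine forall_mem_sup (r.range.comap (S.subtype.comp l)) (fun x => ?_) (fun c => ?_)
    · show ((l _ : S) : Ω) ∈ r.range
      rw [hlQ x]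
      exact ⟨_, rfl⟩
    · show ((l _ : S) : Ω) ∈ r.range
      have h3 : ((l (Subgroup.inclusion le_sup_right c) : S) : Ω) ∈ C := hC.map_mem hl c.2
      obtain ⟨c', -, hc'⟩ := hC.exists_preimage le_sup_right hρ' h3
      exact ⟨c', hc'⟩
  refine ⟨_, F.comp_mem hl hj hmem, fun x => ?_⟩
  show j ⟨((l (Subgroup.inclusion le_sup_left x) : S) : Ω), _⟩ = ψ x
  have h4 : (⟨((l (Subgroup.inclusion le_sup_left x) : S) : Ω), hmem _⟩ : r.range) =
      ⟨r (Subgroup.inclusion le_sup_left (F.rangeEquiv hψ x)), ⟨_, rfl⟩⟩ := Subtype.ext (hlQ x)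
  rw [h4, hjx]
  rfl

variable {S₁ : Subgroup Ω}

theorem extender_mono {T : Subgroup Ω} (hTS : T ≤ S) {P : Subgroup Ω} (φ : P →* Ω) :
    extender T P φ ≤ extender S P φ := by
  intro g hg
  rw [mem_extender_iff] at hg ⊢
  obtain ⟨h1, h2, h, hh, h3⟩ := hg
  exact ⟨hTS h1, h2, h, hTS hh, h3⟩

/-- The full subsystem on a strongly closed subgroup on which `S` acts by inner automorphisms is saturated. -/
theorem isSaturated_full (F : FusionSystem S) {p : ℕ} (hF : F.IsSaturated p)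
    (h₁ : F.StronglyClosed S₁) (hact : ∀ s ∈ S, ∃ a ∈ S₁, ∀ x ∈ S₁, s * x * s⁻¹ = a * x * a⁻¹)
    (R : FusionSystem S₁) (hR : ∀ P : Subgroup Ω, P ≤ S₁ → R.Hom P = F.Hom P) : R.IsSaturated p := by
  intro P hP
  obtain ⟨Q, ⟨φ, hφ, hφr⟩, hfa, hrec⟩ := hF P (hP.trans h₁.1)
  have hQ : Q ≤ S₁ := by
    rw [← hφr]
    rintro _ ⟨x, rfl⟩
    exact h₁.2 P hP φ hφ x
  refine ⟨Q, ⟨φ, by rw [hR P hP]; exact hφ, hφr⟩, ⟨hQ, ?_⟩, hQ, ?_⟩
  · have h1 : R.autGroup Q = F.autGroup Q := by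
      ext α
      rw [R.mem_autGroup_iff hQ, F.mem_autGroup_iff (hQ.trans h₁.1)]
      show _ ∈ R.Hom Q ↔ _ ∈ F.Hom Q
      rw [hR Q hQ]
    have h2 : autInducedBy S₁ Q = autInducedBy S Q := by
      apply le_antisymm (autInducedBy_mono h₁.1)
      intro α hα
      obtain ⟨g, hg, hx⟩ := (mem_autInducedBy_iff α).1 hα
      obtain ⟨a, ha, hax⟩ := hact g hg
      exact (mem_autInducedBy_iff α).2 ⟨a, ha, fun x => by rw [hx, hax x (hQ x.2)]⟩
    have h3 := hfa.isSylowIn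
    rw [← h1, ← h2] at h3
    exact h3
  · intro P' φ' hφ' hr
    have hP' : P' ≤ S₁ := (R.le_of_mem hφ').1
    rw [hR P' hP'] at hφ'
    obtain ⟨ψ, hψ, hψx⟩ := hrec.2 P' φ' hφ' hr
    have hle : extender S₁ P' φ' ≤ S₁ := (extender_le_normalizerIn φ').trans normalizerIn_le
    refine ⟨ψ.comp (Subgroup.inclusion (extender_mono h₁.1 φ')), ?_, fun x hxP hxN => ?_⟩
    · rw [hR _ hle]
      exact F.restrict_mem hψ _
    · exact hψx x hxP _

end FusionSystem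
end Cfsg
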