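import Cfsg.Agent.Fus.Alperin
import Cfsg.Agent.Lib.Helper16.SPE

/-!
The subgroup generated by the extendable automorphisms (S5081).
-/

set_option autoImplicit false

namespace Cfsg
namespace Agent
namespace Fus

open Cfsg.Agent.Lib.Helper16

theorem SPE_mem_of_conj {X : Type*} [Group X] [Finite X] {p : ℕ} [Fact p.Prime] {M : Subgroup X}
    (h : SPE p M) {x a : X} (hx : x ∈ M) (hx1 : x ≠ 1) (hxp : IsPGroup p (Subgroup.zpowers x))
    (hax : a * x * a⁻¹ ∈ M) : a ∈ M := by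
  apply h.mem_of_inf_cj
  have hle : Subgroup.zpowers (a * x * a⁻¹) ≤ M ⊓ M.map (MulAut.conj a).toMonoidHom := by
    rw [Subgroup.zpowers_le]
    exact ⟨hax, ⟨x, hx, rfl⟩⟩
  have hp : IsPGroup p (Subgroup.zpowers (a * x * a⁻¹)) := by
    have h1 : Subgroup.zpowers (a * x * a⁻¹) = (Subgroup.zpowers x).map (MulAut.conj a).toMonoidHom := by
      rw [MonoidHom.map_zpowers]; rfl
    rw [h1]
    exact hxp.map _
  refine dvd_card_of_pgroup_le hp hle ?_
  intro hb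
  apply hx1
  have h2 : a * x * a⁻¹ = 1 := by
    have := Subgroup.mem_zpowers (a * x * a⁻¹)
    rw [hb] at this
    exact this
  have h3 : x = a⁻¹ * (a * x * a⁻¹) * a := by group
  rw [h3, h2]; group

theorem ne_top_of_stronglyPEmbedded {A : Type*} [Group A] [Finite A] {p : ℕ} [Fact p.Prime]
    (I : Subgroup A) [I.Normal] (U : Sylow p A) (E₀ : Subgroup (A ⧸ I))
    (hE₀ : IsStronglyPEmbedded p E₀) (gens : Set A)
    (hgens : ∀ a ∈ gens, ∃ v ∈ (U : Subgroup A), v ∉ I ∧ a * v * a⁻¹ ∈ (U : Subgroup A)) :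
    Subgroup.closure gens ≠ ⊤ := by
  intro htop
  have hspe := spe_iff.1 hE₀
  obtain ⟨T₀, hT₀⟩ := exists_isSyl p E₀
  obtain ⟨T, hT⟩ := isSyl_top_iff.1 (hspe.isSyl_top hT₀)
  have hTE : (T : Subgroup (A ⧸ I)) ≤ E₀ := hT ▸ hT₀.le
  set Ub := U.mapSurjective (QuotientGroup.mk'_surjective I) with hUb
  have hUc : (Ub : Subgroup (A ⧸ I)) = (U : Subgroup A).map (QuotientGroup.mk' I) :=
    Sylow.coe_mapSurjective _ _
  obtain ⟨g, hg⟩ := MulAction.exists_smul_eq (A ⧸ I) Ub T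
  have hconj : ∀ y ∈ (Ub : Subgroup (A ⧸ I)), g * y * g⁻¹ ∈ E₀ := by
    intro y hy
    apply hTE
    rw [← hg, Sylow.coe_subgroup_smul]
    exact ⟨y, hy, rfl⟩
  have hle : Subgroup.closure gens ≤ (E₀.comap (MulAut.conj g).toMonoidHom).comap (QuotientGroup.mk' I) := by
    rw [Subgroup.closure_le]
    intro a ha
    obtain ⟨v, hvU, hvI, hav⟩ := hgens a ha
    show g * (QuotientGroup.mk' I a) * g⁻¹ ∈ E₀
    have h1 : QuotientGroup.mk' I v ∈ (Ub : Subgroup (A ⧸ I)) := by rw [hUc]; exact ⟨v, hvU, rfl⟩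
    have h2 : QuotientGroup.mk' I (a * v * a⁻¹) ∈ (Ub : Subgroup (A ⧸ I)) := by rw [hUc]; exact ⟨_, hav, rfl⟩
    refine SPE_mem_of_conj hspe (x := g * QuotientGroup.mk' I v * g⁻¹) (hconj _ h1) ?_ ?_ ?_
    · intro h3
      apply hvI
      have h4 : QuotientGroup.mk' I v = g⁻¹ * (g * QuotientGroup.mk' I v * g⁻¹) * g := by group
      rw [h3] at h4
      apply (QuotientGroup.eq_one_iff v).1
      rw [← QuotientGroup.mk'_apply, h4]; group
    · refine T.2.to_le ?_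
      rw [Subgroup.zpowers_le, ← hg, Sylow.coe_subgroup_smul]
      exact ⟨_, h1, rfl⟩
    · have h5 := hconj _ h2
      have h6 : g * QuotientGroup.mk' I a * g⁻¹ * (g * QuotientGroup.mk' I v * g⁻¹) *
          (g * QuotientGroup.mk' I a * g⁻¹)⁻¹ = g * QuotientGroup.mk' I (a * v * a⁻¹) * g⁻¹ := by
        simp only [map_mul, map_inv]; group
      rw [h6]; exact h5
  rw [htop] at hle
  apply hE₀.2.1
  rw [eq_top_iff]
  intro y _
  obtain ⟨a, ha⟩ := QuotientGroup.mk'_surjective I (g⁻¹ * y * g)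
  have h7 : g * (QuotientGroup.mk' I a) * g⁻¹ ∈ E₀ := hle (Subgroup.mem_top a)
  rw [ha] at h7
  have h8 : g * (g⁻¹ * y * g) * g⁻¹ = y := by group
  rwa [h8] at h7

end Fus
end Agent
end Cfsg

namespace Cfsg
namespace FusionSystem

open Cfsg.Agent.Fus

variable {Ω : Type*} [Group Ω] {S : Subgroup Ω}

theorem isStronglyPEmbedded_of_centric (F : FusionSystem S) [Finite S] {p : ℕ} [Fact p.Prime]
    (hS : IsPGroup p S) (hF : F.IsSaturated p) {P : Subgroup Ω} (hPS : P < S) (hP : F.IsFullyNormalized P)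
    (hc : F.IsCentric P) (H : Subgroup (MulAut P))
    (hH : ∀ α ∈ F.autGroup P, (∃ (Q : Subgroup Ω) (ψ : Q →* S), P < Q ∧ F.IsMor ψ ∧
      ∀ (x : P) (y : Q), (y : Ω) = x → ((ψ y : S) : Ω) = α x) → α ∈ H)
    (hle : ¬ F.autGroup P ≤ H) [((Inn P).subgroupOf (F.autGroup P)).Normal] :
    IsStronglyPEmbedded p ((H.subgroupOf (F.autGroup P)).map
      (QuotientGroup.mk' ((Inn P).subgroupOf (F.autGroup P)))) := by
  obtain ⟨hfc, hfa, hrec⟩ := hF.fullyNormalized F hS hP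
  have hPle : P ≤ S := hPS.le
  have hext : ∀ α ∈ F.autGroup P, (∃ g ∈ extender S P (P.subtype.comp α.toMonoidHom), g ∉ P) → α ∈ H := by
    intro α hα hg
    obtain ⟨g, hg, hgP⟩ := hg
    have hαm := (F.mem_autGroup_iff hPle α).1 hα
    obtain ⟨ψ, hψ, hψe⟩ := hrec.exists_extension F α hαm le_rfl
    refine hH α hα ⟨_, ψ, lt_of_le_of_ne (le_extender _ hPle hPle) (fun h => hgP (h ▸ hg)), hψ, hψe⟩
  have : Finite P := finite_of_le hPle
  obtain ⟨U, hU⟩ := hfa.2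
  refine isStronglyPEmbedded_map_mk ((Inn P).subgroupOf (F.autGroup P)) U ?_ ?_
      (H.subgroupOf (F.autGroup P)) ?_ ?_ ?_
  · rw [hU]
    intro x hx
    exact Subgroup.mem_subgroupOf.2 (inn_le_autInducedBy hPle (Subgroup.mem_subgroupOf.1 hx))
  · intro heq
    obtain ⟨g, hgS, hgN, hg⟩ := exists_normalizer_not_mem hS hPS
    apply hg
    have h1 : (⟨conjAut g hgN, F.autInducedBy_le_autGroup hPle (conjAut_mem hgN hgS)⟩ : F.autGroup P) ∈
        (U : Subgroup (F.autGroup P)) := by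
      rw [hU]; exact Subgroup.mem_subgroupOf.2 (conjAut_mem hgN hgS)
    rw [← heq] at h1
    exact mem_of_conjAut_mem_inn hc hgS hgN (Subgroup.mem_subgroupOf.1 h1)
  · rintro ⟨α, hα⟩ hαI
    have hαI' : α ∈ Inn P := Subgroup.mem_subgroupOf.1 hαI
    obtain ⟨x, rfl⟩ := hαI'
    apply Subgroup.mem_subgroupOf.2
    refine hH _ hα ⟨normalizerIn S P, conjMap (x : Ω) (fun y hy => S.mul_mem (S.mul_mem (hPle x.2)
      (normalizerIn_le hy)) (S.inv_mem (hPle x.2))), lt_normalizerIn hS hPS,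
      F.isMor_conjMap normalizerIn_le (hPle x.2) _, ?_⟩
    intro y z hz
    rw [conjMap_coe, hz]
    rfl
  · rintro ⟨α, hα⟩ ⟨V, hIV, hVU, hV⟩
    apply Subgroup.mem_subgroupOf.2
    obtain ⟨⟨v, hvA⟩, hvV, hvI⟩ := SetLike.exists_of_lt hIV
    have hvU := hVU hvV
    rw [hU] at hvU
    obtain ⟨g, hgN, hgS, rfl⟩ := (mem_autInducedBy_iff' v).1 (Subgroup.mem_subgroupOf.1 hvU)
    refine hext α hα ⟨g, ?_, fun hgP => hvI (Subgroup.mem_subgroupOf.2 ⟨⟨g, hgP⟩, ?_⟩)⟩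
    · rw [mem_extender_iff']
      refine ⟨hgS, hgN, ?_⟩
      have h1 := hV _ hvV
      rw [hU] at h1
      obtain ⟨h, hh, hh'⟩ := (mem_autInducedBy_iff _).1 (Subgroup.mem_subgroupOf.1 h1)
      refine ⟨h, hh, fun x y hy => ?_⟩
      have h2 := hh' (α x)
      have h3 : y = conjAut g hgN x := Subtype.ext hy
      show ((α y : P) : Ω) = h * ((α x : P) : Ω) * h⁻¹
      rw [← h2, h3]
      simp [MulAut.mul_apply]
    · ext y
      rfl
  · intro htop
    apply hle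
    intro α hα
    have : (⟨α, hα⟩ : F.autGroup P) ∈ H.subgroupOf (F.autGroup P) := by rw [htop]; trivial
    exact Subgroup.mem_subgroupOf.1 this

/-- S5081. -/
theorem extendable_aut_dichotomy (F : FusionSystem S) [Finite S] {p : ℕ} [Fact p.Prime]
    (hS : IsPGroup p S) (hF : F.IsSaturated p) {P : Subgroup Ω} (hPS : P < S) (hPn : F.IsFullyNormalized P)
    (H : Subgroup (MulAut P))
    (hH : H = Subgroup.closure {α : MulAut P | ∃ (Q : Subgroup Ω) (hPQ : P < Q) (φ : Q →* Ω), φ ∈ F.Hom Q ∧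
      ∀ x : P, φ (Subgroup.inclusion hPQ.le x) = α x}) :
    (¬ F.IsEssential p P ∧ H = F.autGroup P) ∨ (F.IsEssential p P ∧
      ∃ _ : ((Inn P).subgroupOf (F.autGroup P)).Normal, IsStronglyPEmbedded p
        ((H.subgroupOf (F.autGroup P)).map (QuotientGroup.mk' ((Inn P).subgroupOf (F.autGroup P))))) := by
  have hPle : P ≤ S := hPS.le
  have hfinP : Finite P := finite_of_le hPle
  have hgenA : ∀ α : MulAut P, (∃ (Q : Subgroup Ω) (hPQ : P < Q) (φ : Q →* Ω), φ ∈ F.Hom Q ∧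
      ∀ x : P, φ (Subgroup.inclusion hPQ.le x) = α x) → α ∈ F.autGroup P := by
    rintro α ⟨Q, hPQ, φ, hφ, hα⟩
    rw [F.mem_autGroup_iff hPle]
    have h1 := F.restrict_mem hφ hPQ.le
    have h2 : φ.comp (Subgroup.inclusion hPQ.le) = P.subtype.comp α.toMonoidHom := by
      ext x; exact hα x
    show P.subtype.comp α.toMonoidHom ∈ F.Hom P
    rw [← h2]; exact h1
  have hHA : H ≤ F.autGroup P := by
    rw [hH, Subgroup.closure_le]
    exact fun α hα => hgenA α hα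
  have hHext : ∀ α ∈ F.autGroup P, (∃ (Q : Subgroup Ω) (ψ : Q →* S), P < Q ∧ F.IsMor ψ ∧
      ∀ (x : P) (y : Q), (y : Ω) = x → ((ψ y : S) : Ω) = α x) → α ∈ H := by
    rintro α - ⟨Q, ψ, hPQ, hψ, hα⟩
    rw [hH]
    exact Subgroup.subset_closure ⟨Q, hPQ, S.subtype.comp ψ, hψ, fun x => hα x _ rfl⟩
  by_cases hess : F.IsEssential p P
  · right
    obtain ⟨hc, -, hn, E₀, hE₀⟩ := hess
    refine ⟨⟨hc, hPn, hn, E₀, hE₀⟩, hn, ?_⟩
    apply F.isStronglyPEmbedded_of_centric hS hF hPS hPn hc H hHext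
    intro hle
    obtain ⟨-, hfa, -⟩ := hF.fullyNormalized F hS hPn
    obtain ⟨U, hU⟩ := hfa.2
    refine ne_top_of_stronglyPEmbedded ((Inn P).subgroupOf (F.autGroup P)) U E₀ hE₀
      {a : F.autGroup P | ∃ (Q : Subgroup Ω) (hPQ : P < Q) (φ : Q →* Ω), φ ∈ F.Hom Q ∧
        ∀ x : P, φ (Subgroup.inclusion hPQ.le x) = (a : MulAut P) x} ?_ ?_
    · rintro ⟨α, hαA⟩ ⟨Q, hPQ, φ, hφ, hα⟩
      have hQS : Q ≤ S := (F.le_of_mem hφ).1
      have hfinQ : Finite Q := finite_of_le hQS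
      obtain ⟨g, hgQ, hgN, hgP⟩ := exists_normalizer_not_mem (hS.to_le hQS) hPQ
      have hgS := hQS hgQ
      refine ⟨⟨conjAut g hgN, F.autInducedBy_le_autGroup hPle (conjAut_mem hgN hgS)⟩, ?_, ?_, ?_⟩
      · rw [hU]; exact Subgroup.mem_subgroupOf.2 (conjAut_mem hgN hgS)
      · intro h
        exact hgP (mem_of_conjAut_mem_inn hc hgS hgN (Subgroup.mem_subgroupOf.1 h))
      · rw [hU]
        apply Subgroup.mem_subgroupOf.2
        rw [mem_autInducedBy_iff]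
        refine ⟨φ ⟨g, hgQ⟩, (F.le_of_mem hφ).2 _, fun x => ?_⟩
        show ((α (conjAut g hgN (α⁻¹ x)) : P) : Ω) = _
        rw [← hα]
        have h1 : (Subgroup.inclusion hPQ.le (conjAut g hgN (α⁻¹ x)) : Q) =
            ⟨g, hgQ⟩ * Subgroup.inclusion hPQ.le (α⁻¹ x) * ⟨g, hgQ⟩⁻¹ := Subtype.ext rfl
        rw [h1, map_mul, map_mul, map_inv, hα, MulAut.apply_inv_self]
    · rw [eq_top_iff]
      rintro ⟨a, haA⟩ -
      have haH := hle haA
      rw [hH] at haH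
      have key : ∀ x (_ : x ∈ Subgroup.closure {α : MulAut P | ∃ (Q : Subgroup Ω) (hPQ : P < Q) (φ : Q →* Ω),
          φ ∈ F.Hom Q ∧ ∀ x : P, φ (Subgroup.inclusion hPQ.le x) = α x}), ∃ h : x ∈ F.autGroup P,
          (⟨x, h⟩ : F.autGroup P) ∈ Subgroup.closure {a : F.autGroup P | ∃ (Q : Subgroup Ω) (hPQ : P < Q)
            (φ : Q →* Ω), φ ∈ F.Hom Q ∧ ∀ x : P, φ (Subgroup.inclusion hPQ.le x) = (a : MulAut P) x} := by
        intro x hx
        induction hx using Subgroup.closure_induction with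
        | mem y hy => exact ⟨hgenA y hy, Subgroup.subset_closure hy⟩
        | one => exact ⟨Subgroup.one_mem _, Subgroup.one_mem _⟩
        | mul y z _ _ ihy ihz =>
          obtain ⟨h1, h2⟩ := ihy
          obtain ⟨h3, h4⟩ := ihz
          exact ⟨Subgroup.mul_mem _ h1 h3, Subgroup.mul_mem _ h2 h4⟩
        | inv y _ ihy =>
          obtain ⟨h1, h2⟩ := ihy
          exact ⟨Subgroup.inv_mem _ h1, Subgroup.inv_mem _ h2⟩
      exact (key a haH).2
  · left
    exact ⟨hess, le_antisymm hHA (F.autGroup_le_of_not_essential hS hF hPS hPn hess H hHext)⟩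

end FusionSystem
end Cfsg
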