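import Cfsg.Agent.Fus.EssRank2
import Cfsg.Agent.H1.Class2
import Cfsg.Agent.Lib.Helper18.Quat

/-!
Nonabelian groups of order `p³` with irreducible action on the Frattini quotient.
-/

set_option autoImplicit false

namespace Cfsg
namespace Agent
namespace Fus

open scoped commutatorElement

universe u

variable {P : Type u} [Group P] [Finite P] {p : ℕ} [Fact p.Prime]

theorem eq_of_card_prime_of_le {X : Type*} [Group X] [Finite X] {p : ℕ} (hp : p.Prime) {A B : Subgroup X}
    (hAB : A ≤ B) (hB : Nat.card B = p) (hA : A ≠ ⊥) : A = B := by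
  have hd : Nat.card A ∣ p := hB ▸ Subgroup.card_dvd_of_le hAB
  rcases (Nat.dvd_prime hp).1 hd with h | h
  · exact absurd (Subgroup.eq_bot_of_card_eq _ h) hA
  · exact Subgroup.eq_of_le_of_card_ge hAB (by rw [h, hB])

theorem extraspecial_of_irred (hP : IsPGroup p P) (hcard : Nat.card P = p ^ 3)
    (hidx : (frattini P).index = p ^ 2)
    (hirr : ∀ M : Subgroup P, (∀ α : MulAut P, ∀ x ∈ M, α x ∈ M) → M ≤ frattini P ∨ M = ⊤)
    (hnab : ¬ ∀ x y : P, x * y = y * x) :
    Nat.card (frattini P) = p ∧ frattini P = Subgroup.center P ∧ commutator P = Subgroup.center P := by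
  have hp : p.Prime := Fact.out
  have hΦ : Nat.card (frattini P) = p := by
    have h1 := Subgroup.card_mul_index (frattini P)
    rw [hidx, hcard] at h1
    have h2 : Nat.card (frattini P) * p ^ 2 = p * p ^ 2 := by rw [h1]; ring
    exact Nat.eq_of_mul_eq_mul_right (pow_pos hp.pos 2) h2
  have hnt : Nontrivial P := by
    by_contra hcon
    rw [not_nontrivial_iff_subsingleton] at hcon
    exact hnab (fun x y => Subsingleton.elim _ _)
  have hZ : Subgroup.center P = frattini P := by
    refine eq_of_card_prime_of_le hp ?_ hΦ ?_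
    · rcases hirr (Subgroup.center P) (by
        intro α z hz
        rw [Subgroup.mem_center_iff] at hz ⊢
        intro g
        have h1 := hz (α.symm g)
        have h2 := congrArg α h1
        rwa [map_mul, map_mul, MulEquiv.apply_symm_apply] at h2) with h | h
      · exact h
      · exfalso
        apply hnab
        intro x y
        have hy : y ∈ Subgroup.center P := h ▸ Subgroup.mem_top y
        exact (Subgroup.mem_center_iff.1 hy) x
    · exact (hP.bot_lt_center).ne'
  have hC : commutator P = frattini P := by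
    refine eq_of_card_prime_of_le hp (Cfsg.H1.frattini_pgroup_ge p hP).1 hΦ ?_
    intro hbot
    apply hnab
    intro x y
    have h1 : ⁅x, y⁆ ∈ commutator P := by
      rw [commutator_def]
      exact Subgroup.commutator_mem_commutator (Subgroup.mem_top _) (Subgroup.mem_top _)
    rw [hbot, Subgroup.mem_bot] at h1
    exact commutatorElement_eq_one_iff_mul_comm.1 h1
  exact ⟨hΦ, hZ.symm, hC.trans hZ.symm⟩

theorem exponent_of_irred_odd (hP : IsPGroup p P) (hcard : Nat.card P = p ^ 3)
    (hirr : ∀ M : Subgroup P, (∀ α : MulAut P, ∀ x ∈ M, α x ∈ M) → M ≤ frattini P ∨ M = ⊤)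
    (hΦ : Nat.card (frattini P) = p) (hZ : frattini P = Subgroup.center P)
    (hC : commutator P = Subgroup.center P) (hodd : p ≠ 2) (x : P) : x ^ p = 1 := by
  have hp : p.Prime := Fact.out
  have hp2 : 2 < p := lt_of_le_of_ne hp.two_le (Ne.symm hodd)
  have hcen : ∀ a b : P, ⁅a, b⁆ ∈ Subgroup.center P := by
    intro a b
    rw [← hC, commutator_def]
    exact Subgroup.commutator_mem_commutator (Subgroup.mem_top _) (Subgroup.mem_top _)
  have hpow : ∀ z ∈ Subgroup.center P, z ^ p = 1 := by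
    intro z hz
    rw [← hZ] at hz
    have h1 : (⟨z, hz⟩ : frattini P) ^ Nat.card (frattini P) = 1 := pow_card_eq_one'
    rw [hΦ] at h1
    exact congrArg Subtype.val h1
  have hmul : ∀ a b : P, (a * b) ^ p = a ^ p * b ^ p := by
    intro a b
    have h1 : ∀ g : P, Commute ⁅b, a⁆ g := fun g => ((Subgroup.mem_center_iff.1 (hcen b a)) g).symm
    rw [Cfsg.H1.mul_pow_of_comm_central (h1 a) (h1 b) p]
    obtain ⟨c, hc⟩ := hp.dvd_choose_self (k := 2) two_ne_zero hp2
    rw [hc, pow_mul, hpow _ (hcen b a), one_pow, mul_one]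
  let π : P →* P :=
    { toFun := fun a => a ^ p
      map_one' := one_pow p
      map_mul' := hmul }
  have hrange : π.range ≤ frattini P := by
    rintro _ ⟨a, rfl⟩
    exact (Cfsg.H1.frattini_pgroup_ge p hP).2 a
  rcases hirr π.ker (by
    intro α a ha
    have ha' : a ^ p = 1 := ha
    show (α a) ^ p = 1
    rw [← map_pow, ha', map_one]) with h | h
  · exfalso
    have h1 := Subgroup.card_mul_index π.ker
    rw [Subgroup.index_ker, hcard] at h1
    have h2 : Nat.card π.ker ≤ p := hΦ ▸ Subgroup.card_le_of_le h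
    have h3 : Nat.card π.range ≤ p := hΦ ▸ Subgroup.card_le_of_le hrange
    have h4 : p ^ 3 ≤ p * p := h1 ▸ Nat.mul_le_mul h2 h3
    have h5 : p ^ 2 < p ^ 3 := Nat.pow_lt_pow_right hp.one_lt (by norm_num)
    rw [← sq] at h4
    omega
  · have : x ∈ π.ker := h ▸ Subgroup.mem_top x
    exact this

theorem quaternion_of_irred_two (hP : IsPGroup 2 P) (hcard : Nat.card P = 2 ^ 3)
    (hirr : ∀ M : Subgroup P, (∀ α : MulAut P, ∀ x ∈ M, α x ∈ M) → M ≤ frattini P ∨ M = ⊤)
    (hΦ : Nat.card (frattini P) = 2) (hZ : frattini P = Subgroup.center P)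
    (hnab : ¬ ∀ x y : P, x * y = y * x) : Nonempty (P ≃* QuaternionGroup 2) := by
  have : Fact (Nat.Prime 2) := ⟨Nat.prime_two⟩
  have huniq : ∀ z₁ ∈ frattini P, ∀ z₂ ∈ frattini P, z₁ ≠ 1 → z₂ ≠ 1 → z₁ = z₂ := by
    intro z₁ h₁ z₂ h₂ hn₁ hn₂
    obtain ⟨y, -, hy⟩ := (Nat.card_eq_two_iff' (1 : frattini P)).1 hΦ
    have e₁ := hy ⟨z₁, h₁⟩ (fun h => hn₁ (congrArg Subtype.val h))
    have e₂ := hy ⟨z₂, h₂⟩ (fun h => hn₂ (congrArg Subtype.val h))
    exact congrArg Subtype.val (e₁.trans e₂.symm)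
  have hsqΦ : ∀ z ∈ frattini P, z ^ 2 = 1 := by
    intro z hz
    have h1 : (⟨z, hz⟩ : frattini P) ^ Nat.card (frattini P) = 1 := pow_card_eq_one'
    rw [hΦ] at h1
    exact congrArg Subtype.val h1
  have hsq : ∀ a : P, a ^ 2 ∈ frattini P := (Cfsg.H1.frattini_pgroup_ge 2 hP).2
  obtain ⟨a, ha⟩ : ∃ a : P, a ^ 2 ≠ 1 := by
    by_contra hcon
    push Not at hcon
    apply hnab
    intro x y
    have hinv : ∀ g : P, g⁻¹ = g := fun g => by
      rw [inv_eq_iff_mul_eq_one, ← sq]; exact hcon g
    calc x * y = (x * y)⁻¹ := (hinv _).symm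
      _ = y⁻¹ * x⁻¹ := mul_inv_rev x y
      _ = y * x := by rw [hinv, hinv]
  have ha4 : a ^ 4 = 1 := by
    have := hsqΦ _ (hsq a)
    rwa [← pow_mul] at this
  have hoa : orderOf a = 2 * 2 := by
    have := orderOf_eq_prime_pow (p := 2) (n := 1) (x := a) (by rw [pow_one]; exact ha) (by norm_num; exact ha4)
    rw [this]; norm_num
  have hbig : ∀ T : Subgroup P, Subgroup.zpowers a ≤ T → ∀ b ∈ T, b ∉ Subgroup.zpowers a → T = ⊤ := by
    intro T hT b hbT hb
    have hd : Nat.card T ∣ 2 ^ 3 := hcard ▸ Subgroup.card_subgroup_dvd_card T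
    obtain ⟨j, hj3, hj⟩ := (Nat.dvd_prime_pow Nat.prime_two).1 hd
    by_contra hne
    have hj2 : j ≤ 2 := by
      rcases Nat.lt_or_ge j 3 with h | h
      · omega
      · exact absurd (Subgroup.eq_top_of_card_eq _ (by rw [hj, hcard, le_antisymm hj3 h])) hne
    have hle : Nat.card T ≤ Nat.card (Subgroup.zpowers a) := by
      rw [Nat.card_zpowers, hoa, hj]
      calc 2 ^ j ≤ 2 ^ 2 := Nat.pow_le_pow_right (by norm_num) hj2
        _ = 2 * 2 := by norm_num
    exact hb ((Subgroup.eq_of_le_of_card_ge hT hle) ▸ hbT)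
  have hM : Subgroup.closure {x : P | x ^ 2 ≠ 1} = ⊤ := by
    rcases hirr (Subgroup.closure {x : P | x ^ 2 ≠ 1}) (by
      intro α x hx
      induction hx using Subgroup.closure_induction with
      | mem y hy =>
        apply Subgroup.subset_closure
        show (α y) ^ 2 ≠ 1
        intro h
        apply hy
        apply α.injective
        rw [map_pow, h, map_one]
      | one => rw [map_one]; exact Subgroup.one_mem _
      | mul y z _ _ hy hz => rw [map_mul]; exact Subgroup.mul_mem _ hy hz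
      | inv y _ hy => rw [map_inv]; exact Subgroup.inv_mem _ hy) with h | h
    · exact absurd (hsqΦ a (h (Subgroup.subset_closure ha))) ha
    · exact h
  obtain ⟨b, hb, hba⟩ : ∃ b : P, b ^ 2 ≠ 1 ∧ b ∉ Subgroup.zpowers a := by
    by_contra hcon
    push Not at hcon
    have h1 : Subgroup.closure {x : P | x ^ 2 ≠ 1} ≤ Subgroup.zpowers a :=
      (Subgroup.closure_le _).2 (fun x hx => hcon x hx)
    rw [hM] at h1
    have h2 : Nat.card (Subgroup.zpowers a) = Nat.card P := by
      rw [eq_top_iff.2 h1, Subgroup.card_top]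
    rw [Nat.card_zpowers, hoa, hcard] at h2
    norm_num at h2
  have hb2 : b ^ 2 = a ^ 2 := huniq _ (hsq b) _ (hsq a) hb ha
  have hcomm : ⁅b, a⁆ ≠ 1 := by
    intro h
    have h1 : b * a = a * b := commutatorElement_eq_one_iff_mul_comm.1 h
    have h2 := hbig (Subgroup.centralizer {a}) (by
      rw [Subgroup.zpowers_le]
      exact Subgroup.mem_centralizer_singleton_iff.2 rfl) b (Subgroup.mem_centralizer_singleton_iff.2 h1) hba
    have h3 : a ∈ Subgroup.center P := by
      rw [Subgroup.mem_center_iff]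
      intro g
      have hg : g ∈ Subgroup.centralizer {a} := h2 ▸ Subgroup.mem_top g
      exact Subgroup.mem_centralizer_singleton_iff.1 hg
    rw [← hZ] at h3
    exact ha (hsqΦ a h3)
  have hcΦ : ⁅b, a⁆ ∈ frattini P := by
    apply (Cfsg.H1.frattini_pgroup_ge 2 hP).1
    rw [commutator_def]
    exact Subgroup.commutator_mem_commutator (Subgroup.mem_top _) (Subgroup.mem_top _)
  have hc : ⁅b, a⁆ = a ^ 2 := huniq _ hcΦ _ (hsq a) hcomm ha
  refine Cfsg.Agent.Lib.Helper18.mulEquiv_quaternion 2 a b hoa hba hb2 ?_ (by rw [hcard]; norm_num)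
  rw [commutatorElement_def] at hc
  have h1 : b * a * b⁻¹ = a ^ 2 * a := by rw [← hc]; group
  rw [h1, eq_inv_iff_mul_eq_one, ← pow_succ, ← pow_succ]
  exact ha4

end Fus
end Agent
end Cfsg
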