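import Cfsg.Agent.Fus.TateAux
import Cfsg.Agent.Fus.Sat2

/-!
More group-theoretic lemmas for S5222: fixed-point-free actions, coprime action with central commutators.
-/

set_option autoImplicit false

namespace Cfsg
namespace Agent
namespace Fus

open FusionSystem
open scoped IsMulCommutative

theorem pow_eq_pow_zmod_val {M : Type*} [Monoid M] {p : ℕ} [NeZero p] {c : M} (hc : c ^ p = 1) (n : ℕ) :
    c ^ n = c ^ ((n : ZMod p).val) := by
  rw [ZMod.val_natCast]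
  exact pow_eq_pow_mod n hc

theorem norm_fixed {Y : Type*} [CommGroup Y] {p : ℕ} [NeZero p] (c : MulAut Y) (hc : c ^ p = 1) (y : Y) :
    c (∏ k : ZMod p, (c ^ k.val) y) = ∏ k : ZMod p, (c ^ k.val) y := by
  rw [map_prod]
  have h1 : ∀ k : ZMod p, c ((c ^ k.val) y) = (c ^ (k + 1).val) y := by
    intro k
    rw [← MulAut.mul_apply, ← pow_succ', pow_eq_pow_zmod_val hc (k.val + 1)]
    congr 3
    push_cast
    rw [ZMod.natCast_zmod_val]
  simp only [h1]
  exact Fintype.prod_equiv (Equiv.addRight (1 : ZMod p)) _ _ (fun k => rfl)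

theorem eq_one_of_fpf {Y : Type*} [CommGroup Y] [Finite Y] {p : ℕ} [hp : Fact p.Prime]
    (hco : (Nat.card Y).Coprime p) (a b : MulAut Y) (hcomm : Commute a b) (ha : a ^ p = 1) (hb : b ^ p = 1)
    (hfa : ∀ y, a y = y → y = 1) (hfab : ∀ j : ℕ, ∀ y, (a ^ j * b) y = y → y = 1) (y : Y) : y = 1 := by
  have : NeZero p := ⟨hp.out.ne_zero⟩
  have hNa : ∀ z : Y, ∏ k : ZMod p, (a ^ k.val) z = 1 := fun z => hfa _ (norm_fixed a ha z)
  have hNab : ∀ j : ZMod p, ∏ i : ZMod p, ((a ^ j.val * b) ^ i.val) y = 1 := by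
    intro j
    apply hfab j.val
    apply norm_fixed
    rw [(hcomm.pow_left _).mul_pow, hb, ← pow_mul, mul_comm, pow_mul, ha, one_pow, one_mul]
  have h1 : ∏ j : ZMod p, ∏ i : ZMod p, ((a ^ j.val * b) ^ i.val) y = 1 := by
    simp only [hNab, Finset.prod_const_one]
  rw [Finset.prod_comm] at h1
  have h2 : ∀ i j : ZMod p, ((a ^ j.val * b) ^ i.val) y = (a ^ (j * i).val) ((b ^ i.val) y) := by
    intro i j
    rw [(hcomm.pow_left _).mul_pow, MulAut.mul_apply, ← pow_mul, pow_eq_pow_zmod_val ha (j.val * i.val)]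
    congr 3
    push_cast
    rw [ZMod.natCast_zmod_val, ZMod.natCast_zmod_val]
  simp only [h2] at h1
  rw [Finset.prod_eq_single (0 : ZMod p)] at h1
  · simp only [mul_zero, ZMod.val_zero, pow_zero, MulAut.one_apply, Finset.prod_const, Finset.card_univ,
      ZMod.card] at h1
    have h3 : orderOf y ∣ p := orderOf_dvd_of_pow_eq_one h1
    have h4 : orderOf y ∣ Nat.card Y := orderOf_dvd_natCard y
    have h5 : orderOf y ∣ 1 := by
      have := Nat.dvd_gcd h4 h3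
      rwa [hco] at this
    exact orderOf_eq_one_iff.1 (Nat.dvd_one.1 h5)
  · intro i _ hi
    rw [← hNa ((b ^ i.val) y)]
    exact Fintype.prod_equiv (Equiv.mulRight₀ i hi) _ _ (fun k => rfl)
  · intro h; exact absurd (Finset.mem_univ _) h

theorem conjAut_pow_apply {X : Type*} [Group X] {Y : Subgroup X} (g : X)
    (hg : g ∈ Subgroup.normalizer (Y : Set X)) (j : ℕ) (y : Y) :
    (((conjAut g hg ^ j) y : Y) : X) = g ^ j * y * (g ^ j)⁻¹ := by
  induction j generalizing y with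
  | zero => simp
  | succ j ih =>
    rw [pow_succ, MulAut.mul_apply, ih]
    show g ^ j * (g * y * g⁻¹) * (g ^ j)⁻¹ = _
    rw [pow_succ]; group

theorem eq_bot_of_fpf {X : Type*} [Group X] (Y : Subgroup X) [Finite Y] {p : ℕ} [Fact p.Prime]
    (hco : (Nat.card Y).Coprime p) (hYc : ∀ a ∈ Y, ∀ b ∈ Y, a * b = b * a) (g h : X)
    (hg : ∀ y ∈ Y, g * y * g⁻¹ ∈ Y) (hh : ∀ y ∈ Y, h * y * h⁻¹ ∈ Y)
    (hgp : ∀ y ∈ Y, g ^ p * y * (g ^ p)⁻¹ = y) (hhp : ∀ y ∈ Y, h ^ p * y * (h ^ p)⁻¹ = y)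
    (hgh : ∀ y ∈ Y, (g * h) * y * (g * h)⁻¹ = (h * g) * y * (h * g)⁻¹)
    (hfg : ∀ y ∈ Y, g * y * g⁻¹ = y → y = 1)
    (hfgh : ∀ j : ℕ, ∀ y ∈ Y, (g ^ j * h) * y * (g ^ j * h)⁻¹ = y → y = 1) : Y = ⊥ := by
  let _ : CommGroup Y := { (inferInstance : Group Y) with
    mul_comm := fun a b => Subtype.ext (hYc a a.2 b b.2) }
  have hgN := mem_normalizer_of_finite hg
  have hhN := mem_normalizer_of_finite hh
  rw [eq_bot_iff]
  intro y hy
  have key := eq_one_of_fpf (p := p) hco (conjAut g hgN) (conjAut h hhN) ?_ ?_ ?_ ?_ ?_ ⟨y, hy⟩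
  · exact congrArg Subtype.val key
  · ext z
    have := hgh z z.2
    show g * (h * z * h⁻¹) * g⁻¹ = h * (g * z * g⁻¹) * h⁻¹
    calc g * (h * z * h⁻¹) * g⁻¹ = (g * h) * z * (g * h)⁻¹ := by group
      _ = (h * g) * z * (h * g)⁻¹ := this
      _ = _ := by group
  · ext z
    rw [conjAut_pow_apply]
    exact hgp z z.2
  · ext z
    rw [conjAut_pow_apply]
    exact hhp z z.2
  · intro z hz
    exact Subtype.ext (hfg z z.2 (congrArg Subtype.val hz))
  · intro j z hz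
    apply Subtype.ext
    apply hfgh j z z.2
    have h1 := congrArg Subtype.val hz
    rw [MulAut.mul_apply, conjAut_pow_apply] at h1
    calc (g ^ j * h) * z * (g ^ j * h)⁻¹ = g ^ j * (h * z * h⁻¹) * (g ^ j)⁻¹ := by group
      _ = z := h1

theorem exists_of_not_isCyclic {B : Type*} [CommGroup B] [Finite B] {p : ℕ} [hp : Fact p.Prime]
    (hB : IsPGroup p B) (hnc : ¬ IsCyclic B) :
    ∃ a b : B, a ≠ 1 ∧ a ^ p = 1 ∧ b ^ p = 1 ∧ ∀ j : ℕ, a ^ j * b ≠ 1 := by
  obtain ⟨x, hx⟩ := Monoid.exists_orderOf_eq_exponent (Monoid.ExponentExists.of_finite (G := B))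
  have hxtop : Subgroup.zpowers x ≠ ⊤ := fun h => hnc ⟨x, fun y => by
    have : y ∈ Subgroup.zpowers x := by rw [h]; trivial
    exact this⟩
  have hnt : Nontrivial (B ⧸ Subgroup.zpowers x) := by
    rw [QuotientGroup.nontrivial_iff]
    exact hxtop
  have hQp : IsPGroup p (B ⧸ Subgroup.zpowers x) :=
    hB.of_surjective (QuotientGroup.mk' _) (QuotientGroup.mk'_surjective _)
  obtain ⟨n, hn0, hn⟩ := hQp.nontrivial_iff_card.1 hnt
  have hdvd : p ∣ Nat.card (B ⧸ Subgroup.zpowers x) := by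
    rw [hn]; exact dvd_pow_self p hn0.ne'
  obtain ⟨zb, hzb⟩ := exists_prime_orderOf_dvd_card' p hdvd
  obtain ⟨z, rfl⟩ := QuotientGroup.mk'_surjective _ zb
  have hz1 : z ∉ Subgroup.zpowers x := by
    intro h
    have : QuotientGroup.mk' (Subgroup.zpowers x) z = 1 := (QuotientGroup.eq_one_iff z).2 h
    rw [this, orderOf_one] at hzb
    exact hp.out.one_lt.ne hzb
  have hz2 : z ^ p ∈ Subgroup.zpowers x := by
    apply (QuotientGroup.eq_one_iff _).1
    have := pow_orderOf_eq_one (QuotientGroup.mk' (Subgroup.zpowers x) z)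
    rw [hzb, ← map_pow] at this
    exact this
  obtain ⟨i, hi'⟩ := hz2
  have hi : x ^ i = z ^ p := hi'
  clear hi'
  obtain ⟨k, hk⟩ := IsPGroup.iff_orderOf.1 hB x
  have hk0 : k ≠ 0 := by
    rintro rfl
    rw [pow_zero, orderOf_eq_one_iff] at hk
    apply hz1
    have h1 : Monoid.exponent B = 1 := by rw [← hx, hk, orderOf_one]
    have h2 := Monoid.pow_exponent_eq_one z
    rw [h1, pow_one] at h2
    rw [h2]; exact Subgroup.one_mem _
  obtain ⟨k', rfl⟩ := Nat.exists_eq_succ_of_ne_zero hk0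
  have he : z ^ (p * p ^ k') = 1 := by
    have h2 := Monoid.pow_exponent_eq_one z
    rwa [← hx, hk, pow_succ'] at h2
  have h3 : x ^ (i * (p ^ k' : ℕ)) = 1 := by
    rw [zpow_mul, hi, zpow_natCast, ← pow_mul]; exact he
  have h4 : ((p ^ (k' + 1) : ℕ) : ℤ) ∣ i * (p ^ k' : ℕ) := by
    rw [← hk]; exact orderOf_dvd_iff_zpow_eq_one.2 h3
  have h5 : (p : ℤ) ∣ i := by
    have h6 : ((p ^ k' : ℕ) : ℤ) ≠ 0 := by
      exact_mod_cast pow_ne_zero _ hp.out.ne_zero
    rw [pow_succ'] at h4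
    push_cast at h4 h6
    exact Int.dvd_of_mul_dvd_mul_right h6 h4
  obtain ⟨j, rfl⟩ := h5
  have hbz : z * (x ^ j)⁻¹ ∉ Subgroup.zpowers x := by
    intro h
    apply hz1
    have := Subgroup.mul_mem _ h (Subgroup.zpow_mem _ (Subgroup.mem_zpowers x) j)
    rwa [inv_mul_cancel_right] at this
  refine ⟨x ^ (p ^ k'), z * (x ^ j)⁻¹, ?_, ?_, ?_, ?_⟩
  · apply pow_ne_one_of_lt_orderOf (pow_ne_zero _ hp.out.ne_zero)
    rw [hk]
    exact Nat.pow_lt_pow_right hp.out.one_lt (Nat.lt_succ_self _)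
  · rw [← pow_mul, ← pow_succ, ← hk, pow_orderOf_eq_one]
  · rw [mul_pow, inv_pow, ← hi, mul_comm (p : ℤ) j, zpow_mul, zpow_natCast, mul_inv_cancel]
  · intro m hm
    apply hbz
    have : z * (x ^ j)⁻¹ = ((x ^ p ^ k') ^ m)⁻¹ := eq_inv_of_mul_eq_one_right hm
    rw [this]
    exact Subgroup.inv_mem _ (Subgroup.pow_mem _ (Subgroup.pow_mem _ (Subgroup.mem_zpowers x) _) _)


/-- Coprime action with central commutators. -/
theorem coprime_central_decomp {R : Type*} [Group R] [Finite R] {p : ℕ} [Fact p.Prime] (hR : IsPGroup p R)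
    (Y : Subgroup (MulAut R)) [Finite Y] (hco : (Nat.card Y).Coprime p)
    (hZ : ∀ y ∈ Y, ∀ r : R, r⁻¹ * y r ∈ Subgroup.center R) :
    (∀ r : R, ∃ f w : R, (∀ y ∈ Y, y f = f) ∧
      w ∈ Subgroup.closure {w : R | ∃ y ∈ Y, ∃ r : R, w = r⁻¹ * y r} ∧ r = f * w) ∧
    (∀ w ∈ Subgroup.closure {w : R | ∃ y ∈ Y, ∃ r : R, w = r⁻¹ * y r}, (∀ y ∈ Y, y w = w) → w = 1) := by
  classical
  have : Fintype Y := Fintype.ofFinite Y
  set W := Subgroup.closure {w : R | ∃ y ∈ Y, ∃ r : R, w = r⁻¹ * y r} with hW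
  set n := Nat.card Y with hn
  have hcard : Fintype.card Y = n := by rw [hn, Nat.card_eq_fintype_card]
  let d : Y → R → Subgroup.center R := fun y r => ⟨r⁻¹ * (y : MulAut R) r, hZ y y.2 r⟩
  have hdW : ∀ y r, ((d y r : Subgroup.center R) : R) ∈ W := fun y r =>
    Subgroup.subset_closure ⟨y, y.2, r, rfl⟩
  have hcen : ∀ (z : Subgroup.center R) (r : R), r * (z : R) = z * r := fun z r =>
    Subgroup.mem_center_iff.1 z.2 r
  -- action on the centre
  let act : Y → Subgroup.center R →* Subgroup.center R := fun y =>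
    (Subgroup.centerCongr (y : MulAut R)).toMonoidHom
  have hact : ∀ (y : Y) (z : Subgroup.center R), ((act y z : Subgroup.center R) : R) = (y : MulAut R) z :=
    fun _ _ => rfl
  have hcoc : ∀ (y' y : Y) (r : R), act y' (d y r) = d (y' * y) r * (d y' r)⁻¹ := by
    intro y' y r
    apply Subtype.ext
    rw [hact]
    show (y' : MulAut R) (r⁻¹ * (y : MulAut R) r) =
      (r⁻¹ * ((y' : MulAut R) * (y : MulAut R)) r) * (r⁻¹ * (y' : MulAut R) r)⁻¹
    rw [map_mul, map_inv, MulAut.mul_apply]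
    have h1 := hcen (d y' r)⁻¹ (r⁻¹ * (y' : MulAut R) ((y : MulAut R) r))
    have h2 : (((d y' r)⁻¹ : Subgroup.center R) : R) = (r⁻¹ * (y' : MulAut R) r)⁻¹ := rfl
    rw [h2] at h1
    rw [h1]
    group
  let E : R → Subgroup.center R := fun r => ∏ y : Y, d y r
  have hEW : ∀ r, ((E r : Subgroup.center R) : R) ∈ W := by
    intro r
    have : E r ∈ W.comap (Subgroup.center R).subtype :=
      Subgroup.prod_mem _ (fun y _ => hdW y r)
    exact this
  have hactE : ∀ (y' : Y) (r : R), act y' (E r) = E r * ((d y' r) ^ n)⁻¹ := by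
    intro y' r
    show act y' (∏ y : Y, d y r) = _
    rw [map_prod]
    simp only [hcoc]
    rw [Finset.prod_mul_distrib, Finset.prod_const, Finset.card_univ, hcard, inv_pow]
    congr 1
    exact Fintype.prod_equiv (Equiv.mulLeft y') _ _ (fun _ => rfl)
  have hpco : ∀ r : R, Nat.Coprime n (orderOf r) := by
    intro r
    obtain ⟨k, hk⟩ := IsPGroup.iff_orderOf.1 hR r
    rw [hk]
    exact Nat.Coprime.pow_right _ hco
  constructor
  · intro r
    have hfix : ∀ y ∈ Y, y (r ^ n * (E r : R)) = r ^ n * (E r : R) := by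
      intro y hy
      have h1 := congrArg (fun z : Subgroup.center R => (z : R)) (hactE ⟨y, hy⟩ r)
      simp only [hact] at h1
      rw [map_mul, map_pow, h1]
      have h2 : y r = r * (d ⟨y, hy⟩ r : R) := by
        show y r = r * (r⁻¹ * y r)
        group
      rw [h2, (show Commute r (d ⟨y, hy⟩ r : R) from hcen _ r).mul_pow]
      simp only [Subgroup.coe_mul, Subgroup.coe_inv, Subgroup.coe_pow]
      have h3 := hcen (E r) (((d ⟨y, hy⟩ r : Subgroup.center R) : R) ^ n)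
      calc r ^ n * ((d ⟨y, hy⟩ r : Subgroup.center R) : R) ^ n *
          ((E r : R) * (((d ⟨y, hy⟩ r : Subgroup.center R) : R) ^ n)⁻¹)
          = r ^ n * ((((d ⟨y, hy⟩ r : Subgroup.center R) : R) ^ n * (E r : R)) *
            (((d ⟨y, hy⟩ r : Subgroup.center R) : R) ^ n)⁻¹) := by group
        _ = r ^ n * (E r : R) := by rw [h3]; group
    obtain ⟨m, hm⟩ := exists_pow_eq_self_of_coprime (hpco r)
    refine ⟨(r ^ n * (E r : R)) ^ m, ((E r : R)⁻¹) ^ m, ?_, ?_, ?_⟩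
    · intro y hy
      rw [map_pow, hfix y hy]
    · exact Subgroup.pow_mem _ (Subgroup.inv_mem _ (hEW r)) _
    · have h4 : Commute (r ^ n * (E r : R)) ((E r : R)⁻¹) := by
        have := hcen (E r)⁻¹ (r ^ n * (E r : R))
        exact this
      rw [← h4.mul_pow, mul_inv_cancel_right, hm]
  · intro w hw hfix
    have hWZ : W ≤ Subgroup.center R := by
      rw [hW, Subgroup.closure_le]
      rintro _ ⟨y, hy, r, rfl⟩
      exact hZ y hy r
    have hT : ∀ w (hw : w ∈ W), ∏ y : Y, act y ⟨w, hWZ hw⟩ = 1 := by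
      intro w hw
      induction hw using Subgroup.closure_induction with
      | mem w hw' =>
        obtain ⟨y₀, hy₀, r, rfl⟩ := hw'
        have h1 : ∀ y : Y, act y ⟨r⁻¹ * y₀ r, hWZ (Subgroup.subset_closure ⟨y₀, hy₀, r, rfl⟩)⟩ =
            d (y * ⟨y₀, hy₀⟩) r * (d y r)⁻¹ := fun y => hcoc y ⟨y₀, hy₀⟩ r
        simp only [h1]
        rw [Finset.prod_mul_distrib, Finset.prod_inv_distrib]
        have h2 : ∏ y : Y, d (y * ⟨y₀, hy₀⟩) r = ∏ y : Y, d y r :=
          Fintype.prod_equiv (Equiv.mulRight (⟨y₀, hy₀⟩ : Y)) _ _ (fun _ => rfl)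
        rw [h2, mul_inv_cancel]
      | one =>
        have : (⟨1, hWZ (Subgroup.one_mem _)⟩ : Subgroup.center R) = 1 := rfl
        simp [this]
      | mul a b ha hb iha ihb =>
        have : (⟨a * b, hWZ (Subgroup.mul_mem _ ha hb)⟩ : Subgroup.center R) =
            ⟨a, hWZ ha⟩ * ⟨b, hWZ hb⟩ := rfl
        simp only [this, map_mul]
        rw [Finset.prod_mul_distrib, iha, ihb, one_mul]
      | inv a ha iha =>
        have : (⟨a⁻¹, hWZ (Subgroup.inv_mem _ ha)⟩ : Subgroup.center R) = (⟨a, hWZ ha⟩)⁻¹ := rfl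
        simp only [this, map_inv]
        rw [Finset.prod_inv_distrib, iha, inv_one]
    have h1 := hT w hw
    have h2 : ∀ y : Y, act y ⟨w, hWZ hw⟩ = ⟨w, hWZ hw⟩ := fun y => Subtype.ext (hfix y y.2)
    simp only [h2, Finset.prod_const, Finset.card_univ, hcard] at h1
    have h3 : w ^ n = 1 := congrArg (fun z : Subgroup.center R => (z : R)) h1
    obtain ⟨m, hm⟩ := exists_pow_eq_self_of_coprime (hpco w)
    rw [← hm, h3, one_pow]


theorem eq_of_le_sup_frattini {Ω : Type*} [Group Ω] {S K₀ : Subgroup Ω} [Finite S] (hK : K₀ ≤ S)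
    (h : S ≤ K₀ ⊔ (frattini S).map S.subtype) : K₀ = S := by
  have h1 : K₀.subgroupOf S ⊔ frattini S = ⊤ := by
    rw [eq_top_iff]
    intro s _
    have h2 : (s : Ω) ∈ (K₀.subgroupOf S ⊔ frattini S).map S.subtype := by
      rw [Subgroup.map_sup, Subgroup.subgroupOf_map_subtype, inf_eq_left.2 hK]
      exact h s.2
    obtain ⟨t, ht, hts⟩ := h2
    have : t = s := Subtype.ext hts
    rwa [this] at ht
  have h3 := frattini_nongenerating h1
  rw [Subgroup.subgroupOf_eq_top] at h3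
  exact le_antisymm hK h3

theorem conjAut_inv_apply {Ω : Type*} [Group Ω] {R : Subgroup Ω} {s : Ω}
    (hs : s ∈ Subgroup.normalizer (R : Set Ω)) (hs' : s⁻¹ ∈ Subgroup.normalizer (R : Set Ω)) :
    (conjAut s hs)⁻¹ = conjAut s⁻¹ hs' := by
  rw [inv_eq_iff_mul_eq_one]
  ext r
  show s * (s⁻¹ * r * s⁻¹⁻¹) * s⁻¹ = r
  group

theorem commute_of_frattini {Ω : Type*} [Group Ω] {S R : Subgroup Ω} [Finite S] {p : ℕ} [Fact p.Prime]
    (hS : IsPGroup p S) (hRS : R ≤ S) (hSN : S ≤ Subgroup.normalizer (R : Set Ω))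
    (Y : Subgroup (MulAut R)) [Finite Y] (hco : (Nat.card Y).Coprime p)
    (hZ : ∀ y ∈ Y, ∀ r : R, r⁻¹ * y r ∈ Subgroup.center R)
    (hΦ : ∀ y ∈ Y, ∀ r : R, ((r⁻¹ * y r : R) : Ω) ∈ (frattini S).map S.subtype)
    (hYn : ∀ s (hs : s ∈ S), ∀ y ∈ Y, conjAut s (hSN hs) * y * (conjAut s (hSN hs))⁻¹ ∈ Y)
    (x : Ω) (hx : x ∈ S) (hgen : Subgroup.zpowers x ⊔ R = S) :
    ∀ y ∈ Y, conjAut x (hSN hx) * y = y * conjAut x (hSN hx) := by
  have hfR : Finite R := finite_of_le hRS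
  obtain ⟨hD1, hD2⟩ := coprime_central_decomp (hS.to_le hRS) Y hco hZ
  set W := Subgroup.closure {w : R | ∃ y ∈ Y, ∃ r : R, w = r⁻¹ * y r} with hW
  let Fix : Subgroup R :=
    { carrier := {r | ∀ y ∈ Y, y r = r}
      one_mem' := fun y _ => map_one y
      mul_mem' := fun {a b} ha hb y hy => by rw [map_mul, ha y hy, hb y hy]
      inv_mem' := fun {a} ha y hy => by rw [map_inv, ha y hy] }
  have hFixS : ∀ s (hs : s ∈ S), ∀ f ∈ Fix, conjAut s (hSN hs) f ∈ Fix := by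
    intro s hs f hf y hy
    have hs' := S.inv_mem hs
    have h1 := hf _ (hYn s⁻¹ hs' y hy)
    rw [MulAut.mul_apply, MulAut.mul_apply, ← conjAut_inv_apply (hSN hs) (hSN hs'), inv_inv] at h1
    have h2 := congrArg (conjAut s (hSN hs)) h1
    rwa [MulAut.apply_inv_self] at h2
  have hWS : ∀ s (hs : s ∈ S), ∀ w ∈ W, conjAut s (hSN hs) w ∈ W := by
    intro s hs w hw
    have hle : W ≤ W.comap (conjAut s (hSN hs)).toMonoidHom := by
      rw [hW, Subgroup.closure_le]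
      rintro _ ⟨y, hy, r, rfl⟩
      apply Subgroup.subset_closure
      refine ⟨_, hYn s hs y hy, conjAut s (hSN hs) r, ?_⟩
      simp [MulAut.mul_apply]
    exact hle hw
  set C := Fix.map R.subtype with hC
  have hCS : C ≤ S := by
    rintro _ ⟨f, -, rfl⟩
    exact hRS f.2
  have hCn : ∀ s ∈ S, ∀ c ∈ C, s * c * s⁻¹ ∈ C := by
    rintro s hs _ ⟨f, hf, rfl⟩
    exact ⟨_, hFixS s hs f hf, rfl⟩
  have hWΦ : W.map R.subtype ≤ (frattini S).map S.subtype := by
    rw [hW, MonoidHom.map_closure, Subgroup.closure_le]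
    rintro _ ⟨_, ⟨y, hy, r, rfl⟩, rfl⟩
    exact hΦ y hy r
  have hK₀ : Subgroup.zpowers x ⊔ C = S := by
    apply eq_of_le_sup_frattini (sup_le (Subgroup.zpowers_le.2 hx) hCS)
    refine hgen.ge.trans (sup_le (le_sup_left.trans le_sup_left) ?_)
    intro r hr
    obtain ⟨f, w, hf, hw, hfw⟩ := hD1 ⟨r, hr⟩
    have h1 : r = (f : Ω) * (w : Ω) := congrArg Subtype.val hfw
    rw [h1]
    exact Subgroup.mul_mem _ (Subgroup.mem_sup_left (Subgroup.mem_sup_right ⟨f, hf, rfl⟩))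
      (Subgroup.mem_sup_right (hWΦ ⟨w, hw, rfl⟩))
  let M : Subgroup Ω :=
    { carrier := {s | s ∈ S ∧ x * s * x⁻¹ * s⁻¹ ∈ C}
      one_mem' := ⟨S.one_mem, by simp⟩
      mul_mem' := by
        rintro a b ⟨ha, ha'⟩ ⟨hb, hb'⟩
        refine ⟨S.mul_mem ha hb, ?_⟩
        have h1 := C.mul_mem ha' (hCn a ha _ hb')
        have h2 : x * a * x⁻¹ * a⁻¹ * (a * (x * b * x⁻¹ * b⁻¹) * a⁻¹) = x * (a * b) * x⁻¹ * (a * b)⁻¹ := by
          group
        rwa [h2] at h1
      inv_mem' := by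
        rintro a ⟨ha, ha'⟩
        refine ⟨S.inv_mem ha, ?_⟩
        have h1 := hCn a⁻¹ (S.inv_mem ha) _ (C.inv_mem ha')
        have h2 : a⁻¹ * (x * a * x⁻¹ * a⁻¹)⁻¹ * a⁻¹⁻¹ = x * a⁻¹ * x⁻¹ * a⁻¹⁻¹ := by group
        rwa [h2] at h1 }
  have hM : S ≤ M := by
    rw [← hK₀]
    refine sup_le (Subgroup.zpowers_le.2 ⟨hx, ?_⟩) ?_
    · have : x * x * x⁻¹ * x⁻¹ = 1 := by group
      rw [this]; exact C.one_mem
    · intro c hc
      exact ⟨hCS hc, C.mul_mem (hCn x hx c hc) (C.inv_mem hc)⟩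
  have hI : ∀ r : R, conjAut x (hSN hx) r * r⁻¹ ∈ Fix := by
    intro r
    obtain ⟨f, hf, hfr⟩ := (hM (hRS r.2)).2
    have : f = conjAut x (hSN hx) r * r⁻¹ := Subtype.ext hfr
    rwa [← this]
  intro y hy
  ext r
  apply congrArg Subtype.val
  show conjAut x (hSN hx) (y r) = y (conjAut x (hSN hx) r)
  set cx := conjAut x (hSN hx) with hcx
  have hzW : r⁻¹ * y r ∈ W := Subgroup.subset_closure ⟨y, hy, r, rfl⟩
  have hz : cx (r⁻¹ * y r) = r⁻¹ * y r := by
    have h1 : cx (r⁻¹ * y r) * (r⁻¹ * y r)⁻¹ = 1 :=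
      hD2 _ (W.mul_mem (hWS x hx _ hzW) (W.inv_mem hzW)) (hI _)
    exact mul_inv_eq_one.1 h1
  have h2 : y (cx r * r⁻¹) = cx r * r⁻¹ := hI r y hy
  have h3 : y (cx r) = cx r * r⁻¹ * y r := by
    have : cx r = cx r * r⁻¹ * r := by group
    calc y (cx r) = y (cx r * r⁻¹ * r) := by rw [← this]
      _ = _ := by rw [map_mul, h2]
  rw [h3]
  have h4 : cx (y r) = cx r * cx (r⁻¹ * y r) := by rw [← map_mul]; congr 1; group
  rw [h4, hz]
  group

end Fus
end Agent
end Cfsg
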