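import Cfsg.Agent.Fus.EssSmall
import Cfsg.Agent.Fus.TateAux2
import Cfsg.Agent.H1.Small2

/-!
Action of the automizer of an essential subgroup on its Frattini quotient.
-/

set_option autoImplicit false

namespace Cfsg
namespace Agent
namespace Fus

section Quot

variable {P : Type*} [Group P]

/-- The automorphism induced on the quotient by a characteristic subgroup. -/
noncomputable def quotAut (N : Subgroup P) [hN : N.Characteristic] : MulAut P →* MulAut (P ⧸ N) where
  toFun α := QuotientGroup.congr N N α (Subgroup.characteristic_iff_map_eq.1 hN α)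
  map_one' := by
    ext x
    induction x using QuotientGroup.induction_on
    rfl
  map_mul' α β := by
    ext x
    induction x using QuotientGroup.induction_on
    rfl

@[simp] theorem quotAut_mk (N : Subgroup P) [hN : N.Characteristic] (α : MulAut P) (x : P) :
    quotAut N α (QuotientGroup.mk x) = QuotientGroup.mk (α x) := rfl

theorem mem_ker_quotAut (N : Subgroup P) [hN : N.Characteristic] (α : MulAut P) :
    quotAut N α = 1 ↔ ∀ x : P, x⁻¹ * α x ∈ N := by
  constructor
  · intro h x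
    have h1 : quotAut N α (QuotientGroup.mk x) = QuotientGroup.mk x := by rw [h]; rfl
    rw [quotAut_mk] at h1
    exact QuotientGroup.eq.1 h1.symm
  · intro h
    ext x
    induction x using QuotientGroup.induction_on with
    | H x =>
      rw [quotAut_mk]
      exact (QuotientGroup.eq.2 (h x)).symm

/-- An automorphism of prime order `q ≠ p` acting trivially on the Frattini quotient is trivial. -/
theorem eq_one_of_prime_pow_of_quotAut [Finite P] {p : ℕ} [Fact p.Prime] (hP : IsPGroup p P)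
    (γ : MulAut P) {q : ℕ} (hq : q.Prime) (hqp : q ≠ p) (hord : γ ^ q = 1)
    (hγ : quotAut (frattini P) γ = 1) : γ = 1 := by
  have hp : p.Prime := Fact.out
  have : Fact q.Prime := ⟨hq⟩
  have hZ : IsPGroup q (Subgroup.zpowers γ) := by
    rintro ⟨g, hg⟩
    refine ⟨1, ?_⟩
    obtain ⟨n, rfl⟩ := Subgroup.mem_zpowers_iff.1 hg
    apply Subtype.ext
    show (γ ^ n) ^ q ^ 1 = 1
    rw [pow_one, ← zpow_natCast, ← zpow_mul, mul_comm, zpow_mul, zpow_natCast, hord, one_zpow]
  have hall : ∀ g ∈ Subgroup.zpowers γ, ∀ x : P, x⁻¹ * g x ∈ frattini P := by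
    intro g hg
    rw [← mem_ker_quotAut]
    have : Subgroup.zpowers γ ≤ (quotAut (frattini P)).ker := Subgroup.zpowers_le.2 hγ
    exact this hg
  have hfix : ∀ x : P, ∃ y : P, x⁻¹ * y ∈ frattini P ∧ γ y = y := by
    intro x
    let X : SubMulAction (Subgroup.zpowers γ) P :=
      { carrier := {y | x⁻¹ * y ∈ frattini P}
        smul_mem' := by
          rintro ⟨g, hg⟩ y hy
          have h1 := hall g hg y
          have h2 : x⁻¹ * g y = x⁻¹ * y * (y⁻¹ * g y) := by group
          show x⁻¹ * g y ∈ frattini P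
          rw [h2]
          exact Subgroup.mul_mem _ hy h1 }
    have hcard : Nat.card X = Nat.card (frattini P) := by
      refine Nat.card_congr
        { toFun := fun y => ⟨x⁻¹ * (y : P), y.2⟩
          invFun := fun f => ⟨x * (f : P), by
            show x⁻¹ * (x * (f : P)) ∈ frattini P
            rw [inv_mul_cancel_left]; exact f.2⟩
          left_inv := fun y => Subtype.ext (by simp)
          right_inv := fun f => Subtype.ext (by simp) }
    have hnd : ¬ q ∣ Nat.card X := by
      rw [hcard]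
      intro hd
      obtain ⟨n, hn⟩ := IsPGroup.iff_card.1 hP
      have h1 : q ∣ p ^ n := hn ▸ hd.trans (Subgroup.card_subgroup_dvd_card _)
      exact hqp ((Nat.prime_dvd_prime_iff_eq hq hp).1 (hq.dvd_of_dvd_pow h1))
    obtain ⟨y, hy⟩ := hZ.nonempty_fixed_point_of_prime_not_dvd_card X hnd
    refine ⟨(y : P), y.2, ?_⟩
    have h1 := hy ⟨γ, Subgroup.mem_zpowers γ⟩
    exact congrArg Subtype.val h1
  let C : Subgroup P :=
    { carrier := {y | γ y = y}
      one_mem' := map_one γ
      mul_mem' := fun {a b} ha hb => by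
        show γ (a * b) = a * b
        rw [map_mul, ha, hb]
      inv_mem' := fun {a} ha => by
        show γ a⁻¹ = a⁻¹
        rw [map_inv, ha] }
  have htop : C ⊔ frattini P = ⊤ := by
    rw [eq_top_iff]
    intro x _
    obtain ⟨y, hy, hfy⟩ := hfix x
    have h1 : x = y * (x⁻¹ * y)⁻¹ := by group
    rw [h1]
    exact Subgroup.mul_mem_sup hfy (Subgroup.inv_mem _ hy)
  have hC := frattini_nongenerating htop
  ext x
  have : x ∈ C := hC ▸ Subgroup.mem_top x
  exact this

/-- **Burnside**: the automorphisms acting trivially on the Frattini quotient of a `p`-group form a `p`-group. -/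
theorem exists_pow_eq_one_of_quotAut [Finite P] {p : ℕ} [Fact p.Prime] (hP : IsPGroup p P)
    (α : MulAut P) (hα : quotAut (frattini P) α = 1) : ∃ k : ℕ, α ^ p ^ k = 1 := by
  have hp : p.Prime := Fact.out
  have hn0 : orderOf α ≠ 0 := (orderOf_pos α).ne'
  have h := Nat.eq_prime_pow_of_unique_prime_dvd (p := p) hn0 (by
    intro q hq hd
    by_contra hqp
    have h1 : orderOf (α ^ (orderOf α / q)) = q := orderOf_pow_orderOf_div hn0 hd
    have h2 : α ^ (orderOf α / q) = 1 := by
      refine eq_one_of_prime_pow_of_quotAut hP _ hq hqp ?_ ?_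
      · have h3 := pow_orderOf_eq_one (α ^ (orderOf α / q))
        rwa [h1] at h3
      · rw [map_pow, hα, one_pow]
    rw [h2, orderOf_one] at h1
    exact hq.one_lt.ne h1)
  exact ⟨_, h ▸ pow_orderOf_eq_one α⟩

end Quot


theorem mem_of_pow_mem_of_not_dvd {X : Type*} [Group X] {p : ℕ} [Fact p.Prime] (K : Subgroup X) {w : X}
    (hp : w ^ p ∈ K) {b : ℤ} (hb : w ^ b ∈ K) (hnd : ¬ (p : ℤ) ∣ b) : w ∈ K := by
  have hpp : Prime (p : ℤ) := Nat.prime_iff_prime_int.1 Fact.out
  obtain ⟨c, d, hcd⟩ := (hpp.irreducible.coprime_iff_not_dvd).2 hnd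
  have : w = (w ^ p) ^ c * (w ^ b) ^ d := by
    rw [← zpow_natCast, ← zpow_mul, ← zpow_mul, ← zpow_add, mul_comm (p : ℤ), mul_comm b, hcd, zpow_one]
  rw [this]
  exact K.mul_mem (K.zpow_mem hp c) (K.zpow_mem hb d)

section Elem

variable {W : Type*} [CommGroup W] [Finite W] {p : ℕ} [Fact p.Prime]

/-- A `p`-element acts trivially on an invariant section of order at most `p` of an elementary abelian group. -/
theorem inv_mul_apply_mem_of_card_le (hexp : ∀ w : W, w ^ p = 1) (v : MulAut W) {k : ℕ} (hv : v ^ p ^ k = 1)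
    (M L : Subgroup W) (hML : M ≤ L) (hM : ∀ x ∈ M, v x ∈ M) (hL : ∀ x ∈ L, v x ∈ L)
    (hcard : Nat.card L ≤ p * Nat.card M) : ∀ w ∈ L, w⁻¹ * v w ∈ M := by
  have hp : p.Prime := Fact.out
  have hW : IsPGroup p W := fun w => ⟨1, by rw [pow_one]; exact hexp w⟩
  by_cases hLM : L ≤ M
  · intro w hw
    exact M.mul_mem (M.inv_mem (hLM hw)) (hM w (hLM hw))
  obtain ⟨w₀, hw₀L, hw₀M⟩ := SetLike.not_le_iff_exists.1 hLM
  have hgen : L ≤ M ⊔ Subgroup.zpowers w₀ := by
    set L' := M ⊔ Subgroup.zpowers w₀ with hL'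
    have hL'L : L' ≤ L := sup_le hML (Subgroup.zpowers_le.2 hw₀L)
    have hML' : M ≤ L' := le_sup_left
    have hw₀L' : w₀ ∈ L' := (le_sup_right : Subgroup.zpowers w₀ ≤ L') (Subgroup.mem_zpowers w₀)
    have h1 : Nat.card M * M.relIndex L' = Nat.card L' := by
      have := Subgroup.relIndex_mul_relIndex ⊥ M L' bot_le hML'
      rwa [Subgroup.relIndex_bot_left, Subgroup.relIndex_bot_left] at this
    have h2 : p ≤ M.relIndex L' := by
      obtain ⟨a, ha⟩ := IsPGroup.iff_card.1 (hW.to_subgroup L')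
      have hd : M.relIndex L' ∣ p ^ a := ha ▸ Dvd.intro_left _ h1
      obtain ⟨b, -, hb⟩ := (Nat.dvd_prime_pow hp).1 hd
      rcases b with _ | b
      · exfalso
        rw [pow_zero, Subgroup.relIndex_eq_one] at hb
        exact hw₀M (hb hw₀L')
      · rw [hb]
        exact Nat.le_self_pow (Nat.succ_ne_zero b) p
    have h3 : Nat.card L ≤ Nat.card L' := by
      calc Nat.card L ≤ p * Nat.card M := hcard
        _ ≤ M.relIndex L' * Nat.card M := Nat.mul_le_mul_right _ h2
        _ = Nat.card L' := by rw [mul_comm, h1]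
    exact (Subgroup.eq_of_le_of_card_ge hL'L h3).ge
  have hrep : ∀ w ∈ L, ∃ i : ℤ, ∃ m ∈ M, w = w₀ ^ i * m := by
    intro w hw
    obtain ⟨m, hm, z, hz, rfl⟩ := Subgroup.mem_sup.1 (hgen hw)
    obtain ⟨i, rfl⟩ := Subgroup.mem_zpowers_iff.1 hz
    exact ⟨i, m, hm, mul_comm _ _⟩
  obtain ⟨n, m₀, hm₀, hn⟩ := hrep (v w₀) (hL w₀ hw₀L)
  have hiter : ∀ j : ℕ, ∃ m ∈ M, (v ^ j) w₀ = w₀ ^ (n ^ j) * m := by
    intro j
    induction j with
    | zero => exact ⟨1, M.one_mem, by simp⟩
    | succ j ih =>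
      obtain ⟨m, hm, h⟩ := ih
      refine ⟨m₀ ^ (n ^ j) * v m, M.mul_mem (M.zpow_mem hm₀ _) (hM m hm), ?_⟩
      rw [pow_succ', MulAut.mul_apply, h, map_mul, map_zpow, hn, mul_zpow, ← zpow_mul, pow_succ', mul_assoc]
  obtain ⟨m₁, hm₁, h1⟩ := hiter (p ^ k)
  rw [hv, MulAut.one_apply] at h1
  have hdvd : (p : ℤ) ∣ n ^ p ^ k - n := by
    rw [← ZMod.intCast_zmod_eq_zero_iff_dvd]
    push_cast
    rw [ZMod.pow_card_pow, sub_self]
  obtain ⟨c, hc⟩ := hdvd
  have h2 : w₀ ^ (n ^ p ^ k) = w₀ ^ n := by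
    have : n ^ p ^ k = n + p * c := by linarith
    rw [this, zpow_add, zpow_mul, zpow_natCast, hexp, one_zpow, mul_one]
  rw [h2] at h1
  have h0 : w₀⁻¹ * v w₀ ∈ M := by
    have h3 : w₀ ^ n = w₀ * m₁⁻¹ := by rw [eq_mul_inv_iff_mul_eq]; exact h1.symm
    have : w₀⁻¹ * v w₀ = m₁⁻¹ * m₀ := by
      rw [hn, h3]
      group
    rw [this]; exact M.mul_mem (M.inv_mem hm₁) hm₀
  intro w hw
  obtain ⟨i, m, hm, rfl⟩ := hrep w hw
  have : (w₀ ^ i * m)⁻¹ * v (w₀ ^ i * m) = (w₀⁻¹ * v w₀) ^ i * (m⁻¹ * v m) := by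
    rw [map_mul, map_zpow, mul_zpow, inv_zpow, mul_inv, mul_mul_mul_comm]
  rw [this]
  exact M.mul_mem (M.zpow_mem h0 i) (M.mul_mem (M.inv_mem hm) (hM m hm))

/-- If an elementary abelian group has an invariant chain with factors of order at most `p`, `p`-elements lie in `O_p`. -/
theorem mem_pCore_of_small_chain (hexp : ∀ w : W, w ^ p = 1) (B : Subgroup (MulAut W)) (M : Subgroup W)
    (hM : ∀ β ∈ B, ∀ x ∈ M, β x ∈ M) (h1 : Nat.card M ≤ p) (h2 : Nat.card W ≤ p * Nat.card M)
    {v : MulAut W} (hvB : v ∈ B) {k : ℕ} (hv : v ^ p ^ k = 1) : v ∈ (pCore p B).map B.subtype := by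
  have hW : IsPGroup p W := fun w => ⟨1, by rw [pow_one]; exact hexp w⟩
  let D : ℕ → Subgroup W := fun j => match j with
    | 0 => ⊥
    | 1 => M
    | _ => ⊤
  refine mem_pCore_of_stabilizes hW B D 2 rfl ?_ ?_ hvB ?_
  · intro α hα j x hx
    rcases j with _ | _ | j
    · have hx' : x = 1 := Subgroup.mem_bot.1 hx
      rw [hx', map_one]; exact Subgroup.one_mem _
    · exact hM α hα x hx
    · exact Subgroup.mem_top _
  · intro α _
    refine ⟨0, fun x hx => ?_⟩
    have hx' : x = 1 := Subgroup.mem_bot.1 hx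
    rw [hx', map_one]
  · intro j x hx
    rcases j with _ | _ | j
    · refine inv_mul_apply_mem_of_card_le hexp v hv ⊥ M bot_le ?_ (hM v hvB) ?_ x hx
      · intro y hy
        rw [Subgroup.mem_bot.1 hy, map_one]; exact Subgroup.one_mem _
      · rw [Subgroup.card_bot, mul_one]; exact h1
    · refine inv_mul_apply_mem_of_card_le hexp v hv M ⊤ le_top (hM v hvB) (fun _ _ => Subgroup.mem_top _) ?_ x
        (Subgroup.mem_top _)
      rw [Subgroup.card_top]; exact h2
    · exact Subgroup.mem_top _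

end Elem

end Fus
end Agent

namespace FusionSystem

open Cfsg.Agent.Fus Cfsg.Agent.Lib.Helper27.Fus
open scoped commutatorElement

variable {Ω : Type*} [Group Ω] {S : Subgroup Ω}

/-- An automorphism in the system inducing an element of `O_p` on the Frattini quotient of an essential subgroup is inner. -/
theorem IsEssential.mem_inn_of_quotAut {F : FusionSystem S} [Finite S] {p : ℕ} [Fact p.Prime]
    (hS : IsPGroup p S) {P : Subgroup Ω} (hP : F.IsEssential p P) {u : MulAut P} (hu : u ∈ F.autGroup P)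
    (h : quotAut (frattini P) u ∈
      (pCore p ((F.autGroup P).map (quotAut (frattini P)))).map (Subgroup.subtype _)) :
    u ∈ Inn P := by
  have hfP : Finite P := finite_of_le hP.1.1
  have hPp : IsPGroup p P := isPGroup_of_le hS hP.1.1
  set Ψ := quotAut (frattini P) with hΨ
  set B := (F.autGroup P).map Ψ with hB
  set O := (pCore p B).map B.subtype with hO
  refine hP.le_inn hS (B := F.autGroup P ⊓ O.comap Ψ) inf_le_left ?_ ?_ ⟨hu, h⟩
  · rintro β ⟨hβA, hβ⟩ γ hγ
    refine ⟨Subgroup.mul_mem _ (Subgroup.mul_mem _ hγ hβA) (Subgroup.inv_mem _ hγ), ?_⟩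
    obtain ⟨b, hb, hbe⟩ := hβ
    have hγB : Ψ γ ∈ B := ⟨γ, hγ, rfl⟩
    have h1 := (pCore_normal' p B).conj_mem b hb ⟨Ψ γ, hγB⟩
    refine ⟨_, h1, ?_⟩
    show Ψ γ * (b : MulAut _) * (Ψ γ)⁻¹ = Ψ (γ * β * γ⁻¹)
    rw [map_mul, map_mul, map_inv, ← hbe]
    rfl
  · rintro ⟨α, hαA, hα⟩
    obtain ⟨b, hb, hbe⟩ := hα
    obtain ⟨a, ha⟩ := (pCore_isPGroup (p := p) (X := B)) ⟨b, hb⟩
    have h1 : Ψ (α ^ p ^ a) = 1 := by
      rw [map_pow, ← hbe]
      exact congrArg (fun z : pCore p B => B.subtype (z : B)) ha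
    obtain ⟨c, hc⟩ := exists_pow_eq_one_of_quotAut hPp _ h1
    refine ⟨a + c, Subtype.ext ?_⟩
    show α ^ p ^ (a + c) = 1
    rw [pow_add, pow_mul, hc]


theorem quot_frattini_comm {P : Type*} [Group P] [Finite P] {p : ℕ} [Fact p.Prime] (hP : IsPGroup p P)
    (a b : P ⧸ frattini P) : a * b = b * a := by
  induction a using QuotientGroup.induction_on with
  | H x =>
    induction b using QuotientGroup.induction_on with
    | H y =>
      rw [← QuotientGroup.mk_mul, ← QuotientGroup.mk_mul]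
      apply QuotientGroup.eq.2
      have h1 : ⁅y⁻¹, x⁻¹⁆ ∈ commutator P := by
        rw [commutator_def]
        exact Subgroup.commutator_mem_commutator (Subgroup.mem_top _) (Subgroup.mem_top _)
      have h2 : (x * y)⁻¹ * (y * x) = ⁅y⁻¹, x⁻¹⁆ := by
        rw [commutatorElement_def]; group
      rw [h2]
      exact (Cfsg.H1.frattini_pgroup_ge p hP).1 h1

theorem quot_frattini_pow {P : Type*} [Group P] [Finite P] {p : ℕ} [Fact p.Prime] (hP : IsPGroup p P)
    (a : P ⧸ frattini P) : a ^ p = 1 := by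
  induction a using QuotientGroup.induction_on with
  | H x =>
    rw [← QuotientGroup.mk_pow]
    exact (QuotientGroup.eq_one_iff _).2 ((Cfsg.H1.frattini_pgroup_ge p hP).2 x)

/-- The Frattini quotient of an essential subgroup has no invariant chain with factors of order at most `p`. -/
theorem IsEssential.false_of_small_chain {F : FusionSystem S} [Finite S] {p : ℕ} [Fact p.Prime]
    (hS : IsPGroup p S) (hF : F.IsSaturated p) {P : Subgroup Ω} (hP : F.IsEssential p P)
    (M : Subgroup (P ⧸ frattini P))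
    (hM : ∀ α ∈ F.autGroup P, ∀ x ∈ M, quotAut (frattini P) α x ∈ M) (h1 : Nat.card M ≤ p)
    (h2 : Nat.card (P ⧸ frattini P) ≤ p * Nat.card M) : False := by
  have hfP : Finite P := finite_of_le hP.1.1
  have hPp : IsPGroup p P := isPGroup_of_le hS hP.1.1
  obtain ⟨u, huA, hu, k, hk⟩ := hP.exists_pElement hS hF
  apply hu
  apply hP.mem_inn_of_quotAut hS huA
  let _ : CommGroup (P ⧸ frattini P) :=
    { (inferInstance : Group (P ⧸ frattini P)) with mul_comm := quot_frattini_comm hPp }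
  refine mem_pCore_of_small_chain (W := P ⧸ frattini P) (quot_frattini_pow hPp) _ M ?_ h1 h2
    ⟨u, huA, rfl⟩ (k := k) ?_
  · rintro _ ⟨α, hα, rfl⟩ x hx
    exact hM α hα x hx
  · rw [← map_pow, hk, map_one]

theorem IsEssential.frattini_index_eq {F : FusionSystem S} [Finite S] {p : ℕ} [Fact p.Prime]
    (hS : IsPGroup p S) (hF : F.IsSaturated p) {P : Subgroup Ω} (hP : F.IsEssential p P)
    (hidx : (frattini P).index ≤ p ^ 2) : (frattini P).index = p ^ 2 := by
  have hp : p.Prime := Fact.out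
  have hfP : Finite P := finite_of_le hP.1.1
  have hPp : IsPGroup p P := isPGroup_of_le hS hP.1.1
  obtain ⟨n, hn⟩ := IsPGroup.iff_card.1 hPp
  have hd : (frattini P).index ∣ p ^ n := hn ▸ Subgroup.index_dvd_card _
  obtain ⟨a, -, ha⟩ := (Nat.dvd_prime_pow hp).1 hd
  by_contra hne
  have ha2 : a ≤ 2 := by
    rw [ha] at hidx
    exact (Nat.pow_le_pow_iff_right hp.one_lt).1 hidx
  have ha1 : a ≤ 1 := by
    rcases Nat.lt_or_ge a 2 with h | h
    · omega
    · exact absurd (by rw [ha, le_antisymm ha2 h]) hne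
  refine hP.false_of_small_chain hS hF ⊥ ?_ ?_ ?_
  · intro α _ x hx
    rw [Subgroup.mem_bot.1 hx, map_one]; exact Subgroup.one_mem _
  · rw [Subgroup.card_bot]; exact hp.one_lt.le
  · rw [Subgroup.card_bot, mul_one, ← Subgroup.index_eq_card, ha]
    calc p ^ a ≤ p ^ 1 := Nat.pow_le_pow_right hp.pos ha1
      _ = p := pow_one p

/-- Irreducibility of the action on a Frattini quotient of order `p²`. -/
theorem IsEssential.le_frattini_or_eq_top {F : FusionSystem S} [Finite S] {p : ℕ} [Fact p.Prime]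
    (hS : IsPGroup p S) (hF : F.IsSaturated p) {P : Subgroup Ω} (hP : F.IsEssential p P)
    (hidx : (frattini P).index ≤ p ^ 2) (M : Subgroup P)
    (hM : ∀ α ∈ F.autGroup P, ∀ x ∈ M, α x ∈ M) : M ≤ frattini P ∨ M = ⊤ := by
  have hp : p.Prime := Fact.out
  have hfP : Finite P := finite_of_le hP.1.1
  have hV : Nat.card (P ⧸ frattini P) = p ^ 2 := by
    rw [← Subgroup.index_eq_card]; exact hP.frattini_index_eq hS hF hidx
  set M' := M.map (QuotientGroup.mk' (frattini P)) with hM'
  have hinv : ∀ α ∈ F.autGroup P, ∀ x ∈ M', quotAut (frattini P) α x ∈ M' := by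
    rintro α hα _ ⟨m, hm, rfl⟩
    exact ⟨α m, hM α hα m hm, rfl⟩
  have hd : Nat.card M' ∣ p ^ 2 := hV ▸ Subgroup.card_subgroup_dvd_card M'
  obtain ⟨b, hb2, hb⟩ := (Nat.dvd_prime_pow hp).1 hd
  have hcases : b = 0 ∨ b = 1 ∨ b = 2 := by omega
  rcases hcases with rfl | rfl | rfl
  · left
    rw [pow_zero] at hb
    have h1 : M' = ⊥ := Subgroup.eq_bot_of_card_eq _ hb
    have h2 := (Subgroup.map_eq_bot_iff _).1 h1
    rwa [QuotientGroup.ker_mk'] at h2
  · exfalso
    refine hP.false_of_small_chain hS hF M' hinv ?_ ?_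
    · rw [hb, pow_one]
    · rw [hb, hV, pow_one, sq]
  · right
    have h1 : M' = ⊤ := Subgroup.eq_top_of_card_eq _ (by rw [hb, hV])
    apply frattini_nongenerating
    rw [eq_top_iff]
    intro x _
    have hx : (QuotientGroup.mk x : P ⧸ frattini P) ∈ M' := h1 ▸ Subgroup.mem_top _
    obtain ⟨m, hm, hmx⟩ := hx
    have h2 : m⁻¹ * x ∈ frattini P := QuotientGroup.eq.1 hmx
    have h3 : x = m * (m⁻¹ * x) := by group
    rw [h3]
    exact Subgroup.mul_mem_sup hm h2

end FusionSystem
end Cfsg
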