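import Cfsg.Agent.Fus.EssFrat

/-!
Abelian `p`-groups of rank two with an irreducible action on the Frattini quotient.
-/

set_option autoImplicit false

namespace Cfsg
namespace Agent
namespace Fus

open scoped commutatorElement

/-- If `D² ≡ 0 (mod p)` and `(1 + D)^p = 1` with `p ≥ 4`, then `p D ≡ 0 (mod p²)`. -/
theorem nsmul_apply_eq_of_add_one_pow {M : Type*} [AddCommGroup M] {p : ℕ} (hp : p.Prime) (hp4 : 4 ≤ p)
    (D : AddMonoid.End M) (hU : (D + 1) ^ p = 1) (hD2 : ∀ h : M, ∃ h' : M, D (D h) = p • h') (h : M) :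
    ∃ m : M, (p ^ 2) • m = p • D h := by
  have hmul : ∀ (E E' : AddMonoid.End M) (x : M), (E * E') x = E (E' x) := fun _ _ _ => rfl
  have ha : ∀ (m : ℕ) (h : M), ∃ h', (D ^ (m + 2)) h = p • h' := by
    intro m h
    obtain ⟨h', hh'⟩ := hD2 h
    refine ⟨(D ^ m) h', ?_⟩
    rw [pow_add, hmul, sq, hmul, hh', map_nsmul]
  have hb : ∀ (m : ℕ) (h : M), ∃ h', (D ^ (m + 4)) h = (p ^ 2) • h' := by
    intro m h
    obtain ⟨h', hh'⟩ := hD2 h
    obtain ⟨h'', hh''⟩ := ha m h'
    refine ⟨h'', ?_⟩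
    have h4 : m + 4 = (m + 2) + 2 := rfl
    rw [h4, pow_add, hmul, sq D, hmul, hh', map_nsmul, hh'', sq, mul_nsmul]
  let T : AddSubgroup M := (nsmulAddMonoidHom (p ^ 2) : M →+ M).range
  have hT : ∀ y : M, y ∈ T ↔ ∃ m : M, (p ^ 2) • m = y := fun y => Iff.rfl
  let ev : AddMonoid.End M →+ M :=
    { toFun := fun E => E h
      map_zero' := rfl
      map_add' := fun _ _ => rfl }
  have hsum := (Commute.one_right D).add_pow p
  rw [hU] at hsum
  have hf : ∀ m : ℕ, ev (D ^ m * 1 ^ (p - m) * ((p.choose m : ℕ) : AddMonoid.End M)) =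
      (p.choose m) • (D ^ m) h := by
    intro m
    show (D ^ m * 1 ^ (p - m) * ((p.choose m : ℕ) : AddMonoid.End M)) h = _
    rw [one_pow, mul_one, hmul, AddMonoid.End.natCast_apply, map_nsmul]
  have happ := congrArg ev hsum
  rw [map_sum] at happ
  simp only [hf] at happ
  obtain ⟨q, hq⟩ : ∃ q, p = q + 1 := ⟨p - 1, by omega⟩
  have hr : Finset.range (p + 1) = Finset.range (q + 1 + 1) := by rw [hq]
  rw [hr, Finset.sum_range_succ', Finset.sum_range_succ'] at happ
  have h0 : (p.choose 0) • (D ^ 0) h = h := by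
    rw [Nat.choose_zero_right, one_nsmul, pow_zero]; rfl
  have h1 : (p.choose (0 + 1)) • (D ^ (0 + 1)) h = p • D h := by
    rw [zero_add, Nat.choose_one_right, pow_one]
  rw [h0, h1] at happ
  have hev1 : ev 1 = h := rfl
  rw [hev1] at happ
  have hmem : (∑ m ∈ Finset.range q, (p.choose (m + 1 + 1)) • (D ^ (m + 1 + 1)) h) ∈ T := by
    refine AddSubgroup.sum_mem _ (fun m hm => ?_)
    have hmq : m < q := Finset.mem_range.1 hm
    rw [hT]
    by_cases hmp : m + 1 + 1 = p
    · rw [hmp, Nat.choose_self, one_nsmul]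
      obtain ⟨h', hh'⟩ := hb (p - 4) h
      have h5 : p - 4 + 4 = p := by omega
      rw [h5] at hh'
      exact ⟨h', hh'.symm⟩
    · obtain ⟨c, hc⟩ := hp.dvd_choose_self (k := m + 1 + 1) (by omega) (by omega)
      obtain ⟨h', hh'⟩ := ha m h
      refine ⟨c • h', ?_⟩
      rw [hc, hh', ← mul_nsmul', ← mul_nsmul']
      congr 1
      ring
  have hfin : p • D h = - (∑ m ∈ Finset.range q, (p.choose (m + 1 + 1)) • (D ^ (m + 1 + 1)) h) := by
    have h6 : (∑ m ∈ Finset.range q, (p.choose (m + 1 + 1)) • (D ^ (m + 1 + 1)) h) + p • D h = 0 := by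
      have := happ.symm
      rwa [add_eq_right] at this
    exact eq_neg_of_add_eq_zero_right h6
  rw [hfin]
  exact (hT _).1 (T.neg_mem hmem)


section Comm

variable {P : Type*} [CommGroup P] [Finite P] {p : ℕ} [Fact p.Prime]

theorem exists_pow_eq_of_mem_frattini {x : P} (hx : x ∈ frattini P) : ∃ y : P, y ^ p = x := by
  have h := Cfsg.H1.frattini_pgroup_le p (powMonoidHom p : P →* P).range ?_ ?_ hx
  · obtain ⟨y, hy⟩ := h
    exact ⟨y, hy⟩
  · rw [commutator_def, Subgroup.commutator_le]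
    intro a _ b _
    rw [commutatorElement_def, mul_comm a b, mul_inv_cancel_right, mul_inv_cancel]
    exact Subgroup.one_mem _
  · intro x
    exact ⟨x, rfl⟩

/-- Multiplicative form of `nsmul_apply_eq_of_add_one_pow`. -/
theorem inv_mul_apply_mem_frattini_of_sq (hP : IsPGroup p P) (hp4 : 4 ≤ p) (u : MulAut P) (hu : u ^ p = 1)
    (hdd : ∀ h : P, (h⁻¹ * u h)⁻¹ * u (h⁻¹ * u h) ∈ frattini P)
    (hstar : ∀ x : P, x ^ p = 1 → x ∈ frattini P) (h : P) : h⁻¹ * u h ∈ frattini P := by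
  have hp : p.Prime := Fact.out
  let U : AddMonoid.End (Additive P) := MonoidHom.toAdditive u.toMonoidHom
  have hUa : ∀ x : P, U (Additive.ofMul x) = Additive.ofMul (u x) := fun _ => rfl
  have hUpow : ∀ (n : ℕ) (x : P), (U ^ n) (Additive.ofMul x) = Additive.ofMul ((u ^ n) x) := by
    intro n
    induction n with
    | zero => intro x; rfl
    | succ n ih =>
      intro x
      rw [pow_succ', pow_succ']
      show U ((U ^ n) (Additive.ofMul x)) = Additive.ofMul (u ((u ^ n) x))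
      rw [ih, hUa]
  have hU : U ^ p = 1 := by
    ext x
    have := hUpow p (Additive.toMul x)
    rw [hu] at this
    exact this
  let D : AddMonoid.End (Additive P) := U - 1
  have hD : ∀ x : P, D (Additive.ofMul x) = Additive.ofMul (x⁻¹ * u x) := by
    intro x
    show Additive.ofMul (u x) - Additive.ofMul x = _
    rw [← ofMul_div, div_eq_mul_inv, mul_comm]
  obtain ⟨m, hm⟩ := nsmul_apply_eq_of_add_one_pow hp hp4 D (by rw [sub_add_cancel]; exact hU) (by
    intro x
    obtain ⟨y, hy⟩ := exists_pow_eq_of_mem_frattini (p := p) (hdd (Additive.toMul x))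
    refine ⟨Additive.ofMul y, ?_⟩
    have h1 : D (D (Additive.ofMul (Additive.toMul x))) = Additive.ofMul
        (((Additive.toMul x)⁻¹ * u (Additive.toMul x))⁻¹ * u ((Additive.toMul x)⁻¹ * u (Additive.toMul x))) := by
      rw [hD, hD]
    rw [← ofMul_pow, hy]
    exact h1) (Additive.ofMul h)
  rw [hD] at hm
  have hm' : (Additive.toMul m) ^ p ^ 2 = (h⁻¹ * u h) ^ p := hm
  have he : (h⁻¹ * u h * ((Additive.toMul m) ^ p)⁻¹) ^ p = 1 := by
    rw [mul_pow, inv_pow, ← pow_mul, ← sq, hm', mul_inv_cancel]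
  have h2 := hstar _ he
  have h3 := Subgroup.mul_mem _ h2 ((Cfsg.H1.frattini_pgroup_ge p hP).2 (Additive.toMul m))
  rwa [inv_mul_cancel_right] at h3

/-- An abelian `p`-group of rank two whose `Ω`-subgroups are trivial or everything modulo Frattini is homocyclic. -/
theorem homocyclic_of_irred (hP : IsPGroup p P) (hidx : (frattini P).index = p ^ 2)
    (hL : ∀ j : ℕ, (∀ x : P, x ^ p ^ j = 1 → x ∈ frattini P) ∨ ∀ x : P, x ^ p ^ j = 1) :
    ∃ k : ℕ, (∀ x : P, x ^ p ^ (k + 1) = 1) ∧ (∀ x : P, x ^ p ^ k = 1 → x ∈ frattini P) ∧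
      Nonempty (P ≃* Multiplicative (ZMod (p ^ (k + 1)) × ZMod (p ^ (k + 1)))) := by
  have hp : p.Prime := Fact.out
  classical
  have hp2 : 1 < p ^ 2 := Nat.one_lt_pow two_ne_zero hp.one_lt
  obtain ⟨n, hn⟩ := IsPGroup.iff_card.1 hP
  have hex : ∃ k, ∀ x : P, x ^ p ^ k = 1 := ⟨n, fun x => hn ▸ pow_card_eq_one'⟩
  have hk0 : Nat.find hex ≠ 0 := by
    intro h0
    have h1 := Nat.find_spec hex
    rw [h0] at h1
    have h2 : frattini P = ⊤ := by
      rw [eq_top_iff]
      intro x _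
      have := h1 x
      rw [pow_zero, pow_one] at this
      rw [this]; exact Subgroup.one_mem _
    rw [h2, Subgroup.index_top] at hidx
    exact hp2.ne hidx
  obtain ⟨k, hk⟩ := Nat.exists_eq_succ_of_ne_zero hk0
  have hexp : ∀ x : P, x ^ p ^ (k + 1) = 1 := by
    have := Nat.find_spec hex
    rwa [hk] at this
  have hstar : ∀ x : P, x ^ p ^ k = 1 → x ∈ frattini P := by
    rcases hL k with h | h
    · exact h
    · exact absurd h (Nat.find_min hex (by rw [hk]; exact Nat.lt_succ_self k))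
  refine ⟨k, hexp, hstar, ?_⟩
  have hV : Nat.card (P ⧸ frattini P) = p ^ 2 := by rw [← Subgroup.index_eq_card]; exact hidx
  have hVexp : ∀ a : P ⧸ frattini P, a ^ p = 1 := FusionSystem.quot_frattini_pow hP
  obtain ⟨x', hx'⟩ : ∃ a : P ⧸ frattini P, a ≠ 1 := by
    by_contra hcon
    push Not at hcon
    have : Nat.card (P ⧸ frattini P) = 1 :=
      Nat.card_eq_one_iff_unique.2 ⟨⟨fun a b => by rw [hcon a, hcon b]⟩, ⟨1⟩⟩
    rw [hV] at this
    exact hp2.ne' this
  have hox : orderOf x' = p := orderOf_eq_prime (hVexp x') hx'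
  obtain ⟨y', hy'⟩ : ∃ b : P ⧸ frattini P, b ∉ Subgroup.zpowers x' := by
    by_contra hcon
    push Not at hcon
    have h1 : Subgroup.zpowers x' = ⊤ := eq_top_iff.2 fun b _ => hcon b
    have h2 : Nat.card (Subgroup.zpowers x') = p := by rw [Nat.card_zpowers, hox]
    rw [h1, Subgroup.card_top, hV] at h2
    have h3 : p * p = p * 1 := by rw [mul_one, ← sq]; exact h2
    exact hp.one_lt.ne' (Nat.eq_of_mul_eq_mul_left hp.pos h3)
  have hgenV : Subgroup.zpowers x' ⊔ Subgroup.zpowers y' = ⊤ := by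
    set T := Subgroup.zpowers x' ⊔ Subgroup.zpowers y' with hT
    have hd : Nat.card T ∣ p ^ 2 := hV ▸ Subgroup.card_subgroup_dvd_card T
    obtain ⟨b, hb2, hb⟩ := (Nat.dvd_prime_pow hp).1 hd
    by_contra hne
    have hb1 : b ≤ 1 := by
      rcases Nat.lt_or_ge b 2 with h | h
      · omega
      · exact absurd (Subgroup.eq_top_of_card_eq _ (by rw [hb, hV, le_antisymm hb2 h])) hne
    have hle : Nat.card T ≤ Nat.card (Subgroup.zpowers x') := by
      rw [Nat.card_zpowers, hox, hb]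
      calc p ^ b ≤ p ^ 1 := Nat.pow_le_pow_right hp.pos hb1
        _ = p := pow_one p
    have h1 := Subgroup.eq_of_le_of_card_ge (le_sup_left : Subgroup.zpowers x' ≤ T) hle
    exact hy' (h1 ▸ (le_sup_right : Subgroup.zpowers y' ≤ T) (Subgroup.mem_zpowers _))
  obtain ⟨x, rfl⟩ := QuotientGroup.mk_surjective x'
  obtain ⟨y, rfl⟩ := QuotientGroup.mk_surjective y'
  have hind : ∀ a b : ℤ, x ^ a * y ^ b ∈ frattini P → (p : ℤ) ∣ a ∧ (p : ℤ) ∣ b := by
    intro a b hab
    have h1 : (QuotientGroup.mk x : P ⧸ frattini P) ^ a * (QuotientGroup.mk y) ^ b = 1 := by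
      rw [← QuotientGroup.mk_zpow, ← QuotientGroup.mk_zpow, ← QuotientGroup.mk_mul]
      exact (QuotientGroup.eq_one_iff _).2 hab
    have hb : (p : ℤ) ∣ b := by
      by_contra hnd
      apply hy'
      refine mem_of_pow_mem_of_not_dvd (p := p) _ ?_ (b := b) ?_ hnd
      · rw [hVexp]; exact Subgroup.one_mem _
      · rw [eq_inv_of_mul_eq_one_right h1]
        exact Subgroup.inv_mem _ (Subgroup.zpow_mem _ (Subgroup.mem_zpowers _) a)
    refine ⟨?_, hb⟩
    by_contra hnd
    apply hx'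
    obtain ⟨c, rfl⟩ := hb
    rw [zpow_mul, zpow_natCast, hVexp, one_zpow, mul_one] at h1
    have h2 := mem_of_pow_mem_of_not_dvd (p := p) (⊥ : Subgroup (P ⧸ frattini P))
      (w := QuotientGroup.mk x) (by rw [hVexp]; exact Subgroup.one_mem _) (b := a)
      (by rw [h1]; exact Subgroup.one_mem _) hnd
    exact Subgroup.mem_bot.1 h2
  have hgen : Subgroup.zpowers x ⊔ Subgroup.zpowers y = ⊤ := by
    apply frattini_nongenerating
    rw [eq_top_iff]
    intro h _
    have h1 : (QuotientGroup.mk h : P ⧸ frattini P) ∈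
        Subgroup.zpowers (QuotientGroup.mk x : P ⧸ frattini P) ⊔ Subgroup.zpowers (QuotientGroup.mk y) :=
      hgenV ▸ Subgroup.mem_top _
    obtain ⟨a', ha', b', hb', hab⟩ := Subgroup.mem_sup.1 h1
    obtain ⟨i, rfl⟩ := Subgroup.mem_zpowers_iff.1 ha'
    obtain ⟨j, rfl⟩ := Subgroup.mem_zpowers_iff.1 hb'
    have h2 : (x ^ i * y ^ j)⁻¹ * h ∈ frattini P := by
      apply QuotientGroup.eq.1
      rw [QuotientGroup.mk_mul, QuotientGroup.mk_zpow, QuotientGroup.mk_zpow]
      exact hab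
    have h3 : h = (x ^ i * y ^ j) * ((x ^ i * y ^ j)⁻¹ * h) := by group
    rw [h3]
    exact Subgroup.mul_mem_sup (Subgroup.mul_mem_sup (Subgroup.zpow_mem _ (Subgroup.mem_zpowers x) i)
      (Subgroup.zpow_mem _ (Subgroup.mem_zpowers y) j)) h2
  have hclaim : ∀ j : ℕ, j ≤ k + 1 → ∀ a b : ℤ, x ^ a * y ^ b = 1 →
      ((p ^ j : ℕ) : ℤ) ∣ a ∧ ((p ^ j : ℕ) : ℤ) ∣ b := by
    intro j
    induction j with
    | zero => intro _ a b _; simp
    | succ j ih =>
      intro hj a b hab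
      obtain ⟨⟨a', rfl⟩, ⟨b', rfl⟩⟩ := ih (by omega) a b hab
      have h1 : (x ^ a' * y ^ b') ^ p ^ j = 1 := by
        rw [mul_pow, ← zpow_natCast, ← zpow_natCast, ← zpow_mul, ← zpow_mul, mul_comm a', mul_comm b']
        exact hab
      have h2 : (x ^ a' * y ^ b') ^ p ^ k = 1 := by
        have h3 : p ^ k = p ^ j * p ^ (k - j) := by
          rw [← pow_add]; congr 1; omega
        rw [h3, pow_mul, h1, one_pow]
      obtain ⟨⟨a'', rfl⟩, ⟨b'', rfl⟩⟩ := hind a' b' (hstar _ h2)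
      constructor
      · refine ⟨a'', ?_⟩; push_cast; ring
      · refine ⟨b'', ?_⟩; push_cast; ring
  set N := p ^ (k + 1) with hN
  let fx : ZMod N →+ Additive P := ZMod.lift N ⟨zmultiplesHom (Additive P) (Additive.ofMul x), by
      simp only [zmultiplesHom_apply]
      rw [natCast_zsmul, ← ofMul_pow, hexp x]; rfl⟩
  let fy : ZMod N →+ Additive P := ZMod.lift N ⟨zmultiplesHom (Additive P) (Additive.ofMul y), by
      simp only [zmultiplesHom_apply]
      rw [natCast_zsmul, ← ofMul_pow, hexp y]; rfl⟩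
  let g : ZMod N × ZMod N →+ Additive P := fx.coprod fy
  have hg : ∀ i j : ℤ, g ((i : ZMod N), (j : ZMod N)) = Additive.ofMul (x ^ i * y ^ j) := by
    intro i j
    simp only [g, AddMonoidHom.coprod_apply, fx, fy, ZMod.lift_coe, zmultiplesHom_apply]
    rfl
  have hinj : Function.Injective g := by
    rw [injective_iff_map_eq_zero]
    rintro ⟨a, b⟩ hab
    obtain ⟨i, rfl⟩ := ZMod.intCast_surjective a
    obtain ⟨j, rfl⟩ := ZMod.intCast_surjective b
    rw [hg] at hab
    have h1 : x ^ i * y ^ j = 1 := hab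
    obtain ⟨h2, h3⟩ := hclaim (k + 1) le_rfl i j h1
    exact Prod.ext ((ZMod.intCast_zmod_eq_zero_iff_dvd i N).2 h2) ((ZMod.intCast_zmod_eq_zero_iff_dvd j N).2 h3)
  have hsurj : Function.Surjective g := by
    intro h
    have h1 : Additive.toMul h ∈ Subgroup.zpowers x ⊔ Subgroup.zpowers y := hgen ▸ Subgroup.mem_top _
    obtain ⟨a', ha', b', hb', hab⟩ := Subgroup.mem_sup.1 h1
    obtain ⟨i, rfl⟩ := Subgroup.mem_zpowers_iff.1 ha'
    obtain ⟨j, rfl⟩ := Subgroup.mem_zpowers_iff.1 hb'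
    exact ⟨((i : ZMod N), (j : ZMod N)), by rw [hg, hab]; rfl⟩
  exact ⟨(AddEquiv.toMultiplicativeLeft (AddEquiv.ofBijective g ⟨hinj, hsurj⟩)).symm⟩

end Comm


/-- A `p`-element acts quadratically on a Frattini quotient of order `p²`. -/
theorem quadratic_on_frattini_quotient {P : Type*} [Group P] [Finite P] {p : ℕ} [Fact p.Prime]
    (hP : IsPGroup p P) (hidx : (frattini P).index = p ^ 2) (w : MulAut P) (hwp : w ^ p = 1) (h : P) :
    (h⁻¹ * w h)⁻¹ * w (h⁻¹ * w h) ∈ frattini P := by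
  have hp : p.Prime := Fact.out
  have hV : Nat.card (P ⧸ frattini P) = p ^ 2 := by rw [← Subgroup.index_eq_card]; exact hidx
  have hVexp : ∀ a : P ⧸ frattini P, a ^ p = 1 := FusionSystem.quot_frattini_pow hP
  let _ : CommGroup (P ⧸ frattini P) :=
    { (inferInstance : Group (P ⧸ frattini P)) with mul_comm := FusionSystem.quot_frattini_comm hP }
  set v := quotAut (frattini P) w with hv
  have hvp : v ^ p = 1 := by rw [hv, ← map_pow, hwp, map_one]
  have hZ : IsPGroup p (Subgroup.zpowers v) := by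
    rintro ⟨g, hg⟩
    refine ⟨1, ?_⟩
    obtain ⟨n, rfl⟩ := Subgroup.mem_zpowers_iff.1 hg
    apply Subtype.ext
    show (v ^ n) ^ p ^ 1 = 1
    rw [pow_one, ← zpow_natCast, ← zpow_mul, mul_comm, zpow_mul, zpow_natCast, hvp, one_zpow]
  have h1fix : (1 : P ⧸ frattini P) ∈ MulAction.fixedPoints (Subgroup.zpowers v) (P ⧸ frattini P) := by
    rintro ⟨g, hg⟩
    exact map_one g
  obtain ⟨b, hb, hb1⟩ := hZ.exists_fixed_point_of_prime_dvd_card_of_fixed_point (P ⧸ frattini P)
    (by rw [hV]; exact dvd_pow_self p two_ne_zero) h1fix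
  have hvb : v b = b := hb ⟨v, Subgroup.mem_zpowers v⟩
  have hob : orderOf b = p := orderOf_eq_prime (hVexp b) (Ne.symm hb1)
  have hfixM : ∀ x ∈ Subgroup.zpowers b, v x = x := by
    intro x hx
    obtain ⟨n, rfl⟩ := Subgroup.mem_zpowers_iff.1 hx
    rw [map_zpow, hvb]
  have key := inv_mul_apply_mem_of_card_le (W := P ⧸ frattini P) hVexp v (k := 1) (by rw [pow_one]; exact hvp)
    (Subgroup.zpowers b) ⊤ le_top (fun x hx => by rw [hfixM x hx]; exact hx) (fun _ _ => Subgroup.mem_top _)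
    (by rw [Subgroup.card_top, hV, Nat.card_zpowers, hob, sq]) (QuotientGroup.mk h) (Subgroup.mem_top _)
  have h2 := hfixM _ key
  have h3 : (QuotientGroup.mk (w (h⁻¹ * w h)) : P ⧸ frattini P) = QuotientGroup.mk (h⁻¹ * w h) := h2
  exact QuotientGroup.eq.1 h3.symm

end Fus
end Agent
end Cfsg
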