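import Cfsg.Agent.Fus.CenterIdxMain

/-!
S5178: `p` odd, `S` with an extraspecial subgroup `Q` of index `p`, `O_p(F) = 1`: then `Z(S) = Z(Q)`.
-/

set_option autoImplicit false

namespace Cfsg
namespace FusionSystem

open Cfsg.Agent.Fus

theorem center_index_le_of_struct {G : Type*} [Group G] [Finite G] {p : ℕ} [Fact p.Prime] (Zp : Subgroup G)
    (hZc : ∀ c ∈ Zp, ∀ g : G, g * c = c * g) (hcomm : ∀ a b : G, a * b * a⁻¹ * b⁻¹ ∈ Zp)
    (hZcard : Nat.card Zp = p) (y b : G)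
    (hMab : ∀ a c : G, a * y = y * a → c * y = y * c → a * c = c * a) (hb : b * y ≠ y * b) :
    (Subgroup.center G).index ≤ p ^ 2 := by
  have hp : p.Prime := Fact.out
  set θy := commHom Zp hZc hcomm y with hθy
  set θb := commHom Zp hZc hcomm b with hθb
  set f : G →* Zp × Zp := θy.prod θb with hf
  have hker : f.ker ≤ Subgroup.center G := by
    intro g hg
    have h1 : f g = 1 := hg
    have h2 : θy g = 1 := congrArg Prod.fst h1
    have h3 : θb g = 1 := congrArg Prod.snd h1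
    have hgy := (commHom_eq_one_iff Zp hZc hcomm y g).1 h2
    have hgb := (commHom_eq_one_iff Zp hZc hcomm b g).1 h3
    rw [Subgroup.mem_center_iff]
    intro s
    have h4 : θy b ≠ 1 := fun h => hb ((commHom_eq_one_iff Zp hZc hcomm y b).1 h)
    obtain ⟨k, hk⟩ := Subgroup.mem_zpowers_iff.1 (mem_zpowers_of_prime_card hZcard h4 (g' := θy s))
    have h5 : θy (s * (b ^ k)⁻¹) = 1 := by rw [map_mul, map_inv, map_zpow, hk, mul_inv_cancel]
    have hmy := (commHom_eq_one_iff Zp hZc hcomm y _).1 h5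
    have h6 := hMab g _ hgy hmy
    have e1 : Commute g (s * (b ^ k)⁻¹) := h6
    have e2 : Commute g (b ^ k) := Commute.zpow_right hgb k
    have e3 := e1.mul_right e2
    rw [inv_mul_cancel_right] at e3
    exact e3.eq.symm
  have h1 : (Subgroup.center G).index ∣ f.ker.index := Subgroup.index_dvd_of_le hker
  have h2 : f.ker.index ≤ p ^ 2 := by
    rw [Subgroup.index_ker]
    have hfin : Finite Zp := inferInstance
    calc Nat.card f.range ≤ Nat.card (Zp × Zp) :=
          Nat.card_le_card_of_injective Subtype.val Subtype.val_injective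
      _ = p ^ 2 := by rw [Nat.card_prod, hZcard, pow_two]
  have h3 : f.ker.index ≠ 0 := Subgroup.index_ne_zero_of_finite
  exact (Nat.le_of_dvd (Nat.pos_of_ne_zero h3) h1).trans h2

theorem center_index_eq_sq {G : Type*} [Group G] [Finite G] {p : ℕ} [Fact p.Prime] (hG : IsPGroup p G)
    (hnab : ¬ ∀ a b : G, a * b = b * a) (hZ : (Subgroup.center G).index ≤ p ^ 2) :
    (Subgroup.center G).index = p ^ 2 := by
  have hp : p.Prime := Fact.out
  obtain ⟨n, hn⟩ := IsPGroup.iff_card.1 hG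
  obtain ⟨j, -, hj⟩ := (Nat.dvd_prime_pow hp).1 (hn ▸ Subgroup.index_dvd_card (Subgroup.center G))
  have hj2 : j ≤ 2 := by
    rw [hj] at hZ
    exact (Nat.pow_le_pow_iff_right hp.one_lt).1 hZ
  interval_cases j
  · exfalso
    apply hnab
    rw [pow_zero, Subgroup.index_eq_one] at hj
    intro a b
    exact (Subgroup.mem_center_iff.1 (hj ▸ Subgroup.mem_top b) a)
  · exfalso
    apply hnab
    rw [pow_one, Subgroup.index_eq_card] at hj
    have hcy : IsCyclic (G ⧸ Subgroup.center G) := isCyclic_of_prime_card hj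
    exact commutative_of_cyclic_center_quotient (QuotientGroup.mk' (Subgroup.center G))
      (by rw [QuotientGroup.ker_mk'])
  · exact hj

variable {Ω : Type*} [Group Ω] {S : Subgroup Ω} [Finite S]

theorem center_eq_of_extraspecial_index (p : ℕ) [Fact p.Prime] (hp2 : p ≠ 2) (hS : IsPGroup p S)
    (Q : Subgroup Ω) (hQS : Q ≤ S) (hQ : Cfsg.IsExtraspecial p Q) (hQi : (Q.subgroupOf S).index = p)
    (F : FusionSystem S) (hF : F.IsSaturated p) (hO : F.core = ⊥) :
    centralizerIn S S = centralizerIn Q Q := by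
  have hp : p.Prime := Fact.out
  have hfQ : Finite Q := finite_of_le hQS
  have hQp : IsPGroup p Q := isPGroup_of_le hS hQS
  have hbot : ∀ R, F.IsNormal R → R = ⊥ := fun R hR => le_bot_iff.1 (hO ▸ le_sSup hR)
  have hZQmap : centralizerIn Q Q = (Subgroup.center Q).map Q.subtype := centralizerIn_self_eq_map
  have hZQcard : Nat.card (centralizerIn Q Q) = p := by
    rw [hZQmap, Subgroup.card_map_of_injective Q.subtype_injective]
    exact hQ.2
  have hZQQ : centralizerIn Q Q ≤ Q := centralizerIn_le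
  have hcap : ∀ c ∈ centralizerIn S S, c ∈ Q → c ∈ centralizerIn Q Q := fun c hc hcQ =>
    mem_centralizerIn.2 ⟨hcQ, fun x hx => (mem_centralizerIn.1 hc).2 x (hQS hx)⟩
  have hcardS : Nat.card S = p * Nat.card Q := by
    rw [← Subgroup.card_mul_index (Q.subgroupOf S), hQi, card_subgroupOf_of_le hQS, mul_comm]
  have hS1 : S ≠ ⊥ := by
    intro h
    have h1 : Nat.card S = 1 := by rw [h]; exact Subgroup.card_bot
    have h2 : 0 < Nat.card Q := Nat.card_pos
    have h3 := hp.one_lt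
    rw [hcardS] at h1
    nlinarith
  by_cases hle : centralizerIn S S ≤ Q
  · refine eq_of_card_prime_of_le' hp (fun c hc => hcap c hc (hle hc)) hZQcard ?_
    intro h
    have hnt : Nontrivial S := by
      rw [← Subgroup.nontrivial_iff_ne_bot] at hS1
      exact hS1
    have h1 := hS.center_nontrivial
    obtain ⟨c, hc⟩ := exists_ne (1 : Subgroup.center S)
    have h2 : ((c : S) : Ω) ∈ centralizerIn S S := by
      rw [centralizerIn_self_eq_map]
      exact ⟨c, c.2, rfl⟩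
    rw [h, Subgroup.mem_bot] at h2
    exact hc (Subtype.ext (Subtype.ext h2))
  exfalso
  obtain ⟨c, hcZ, hcQ⟩ : ∃ c ∈ centralizerIn S S, c ∉ Q := by
    by_contra hcon
    push Not at hcon
    exact hle hcon
  have hcS : c ∈ S := (mem_centralizerIn.1 hcZ).1
  have hcc := (mem_centralizerIn.1 hcZ).2
  have hQn : (Q.subgroupOf S).Normal := by
    apply Subgroup.normal_of_index_eq_minFac_card
    obtain ⟨n, hn⟩ := IsPGroup.iff_card.1 hS
    rw [hQi, hn]
    have hn0 : n ≠ 0 := by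
      rintro rfl
      rw [pow_zero] at hn
      have h2 : 0 < Nat.card Q := Nat.card_pos
      have h3 := hp.one_lt
      rw [hcardS] at hn
      nlinarith
    exact (hp.pow_minFac hn0).symm
  obtain ⟨hd, hd'⟩ := exists_zpow_mul_of_card hQS (fun k hk h hh => by
    have := hQn.conj_mem ⟨h, hQS hh⟩ (Subgroup.mem_subgroupOf.2 hh) ⟨k, hk⟩
    exact Subgroup.mem_subgroupOf.1 this) hcardS hcS hcQ
  have hci : ∀ i : ℤ, ∀ g ∈ S, g * c ^ i = c ^ i * g := fun i g hg =>
    (Commute.zpow_right (show Commute g c from hcc g hg) i).eq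
  have hZc : ∀ w ∈ centralizerIn Q Q, ∀ g ∈ S, g * w = w * g := by
    intro w hw g hg
    obtain ⟨i, q, hq, rfl⟩ := hd g hg
    have e1 : Commute (c ^ i) w := (hci i w (hQS (hZQQ hw))).symm
    have e2 : Commute q w := (mem_centralizerIn.1 hw).2 q hq
    exact (e1.mul_left e2).eq
  have hQcomm : ∀ a ∈ Q, ∀ b ∈ Q, a * b * a⁻¹ * b⁻¹ ∈ centralizerIn Q Q := by
    intro a ha b hb
    rw [hZQmap, ← hQ.1.2.2]
    refine ⟨⟨a, ha⟩ * ⟨b, hb⟩ * ⟨a, ha⟩⁻¹ * ⟨b, hb⟩⁻¹, ?_, rfl⟩
    rw [commutator_def]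
    exact Subgroup.commutator_mem_commutator (Subgroup.mem_top _) (Subgroup.mem_top _)
  have hcomm : ∀ a ∈ S, ∀ b ∈ S, a * b * a⁻¹ * b⁻¹ ∈ centralizerIn Q Q := by
    intro a ha b hb
    obtain ⟨i, q, hq, rfl⟩ := hd a ha
    obtain ⟨j, q', hq', rfl⟩ := hd b hb
    have e1 : c ^ i * q * (c ^ j * q') * (c ^ i * q)⁻¹ * (c ^ j * q')⁻¹ = q * q' * q⁻¹ * q'⁻¹ := by
      have f1 := hci j q (hQS hq)
      have f2 := hci i (q * q' * q⁻¹) (S.mul_mem (S.mul_mem (hQS hq) (hQS hq')) (S.inv_mem (hQS hq)))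
      have f3 := hci j (q * q' * q⁻¹ * q'⁻¹) (S.mul_mem (S.mul_mem (S.mul_mem (hQS hq) (hQS hq'))
        (S.inv_mem (hQS hq))) (S.inv_mem (hQS hq')))
      calc c ^ i * q * (c ^ j * q') * (c ^ i * q)⁻¹ * (c ^ j * q')⁻¹
          = c ^ i * (q * c ^ j) * q' * q⁻¹ * (c ^ i)⁻¹ * q'⁻¹ * (c ^ j)⁻¹ := by group
        _ = c ^ i * (c ^ j * q) * q' * q⁻¹ * (c ^ i)⁻¹ * q'⁻¹ * (c ^ j)⁻¹ := by rw [f1]
        _ = c ^ j * (c ^ i * (q * q' * q⁻¹)) * (c ^ i)⁻¹ * q'⁻¹ * (c ^ j)⁻¹ := by group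
        _ = c ^ j * ((q * q' * q⁻¹) * c ^ i) * (c ^ i)⁻¹ * q'⁻¹ * (c ^ j)⁻¹ := by rw [f2]
        _ = (c ^ j * (q * q' * q⁻¹ * q'⁻¹)) * (c ^ j)⁻¹ := by group
        _ = ((q * q' * q⁻¹ * q'⁻¹) * c ^ j) * (c ^ j)⁻¹ := by rw [f3]
        _ = q * q' * q⁻¹ * q'⁻¹ := by group
    rw [e1]
    exact hQcomm q hq q' hq'
  have hpow : ∀ a ∈ S, a ^ p ∈ centralizerIn Q Q := by
    intro a ha
    obtain ⟨i, q, hq, rfl⟩ := hd a ha
    have e1 : Commute (c ^ i) q := (hci i q (hQS hq)).symm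
    rw [e1.mul_pow]
    refine Subgroup.mul_mem _ ?_ ?_
    · have e2 : (c ^ i) ^ p = (c ^ p) ^ i := by
        rw [← zpow_natCast, ← zpow_mul, mul_comm, zpow_mul, zpow_natCast]
      rw [e2]
      exact Subgroup.zpow_mem _ (hcap _ (Subgroup.pow_mem _ hcZ p) (hd' c hcS)) i
    · rw [hZQmap, ← hQ.1.2.1]
      exact ⟨⟨q, hq⟩ ^ p, (Cfsg.H1.frattini_pgroup_ge p hQp).2 _, rfl⟩
  have hnabQ : ∃ a ∈ Q, ∃ b ∈ Q, a * b ≠ b * a := by
    by_contra hcon
    push Not at hcon
    have h1 : commutator Q = ⊥ := by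
      rw [eq_bot_iff, commutator_def, Subgroup.commutator_le]
      intro a _ b _
      rw [Subgroup.mem_bot, commutatorElement_def]
      have h3 : a * b = b * a := Subtype.ext (hcon a a.2 b b.2)
      rw [h3]; group
    have h4 := hQ.2
    rw [← hQ.1.2.2, h1, Subgroup.card_bot] at h4
    exact hp.one_lt.ne h4
  have hnab : ∃ a ∈ S, ∃ b ∈ S, a * b ≠ b * a := by
    obtain ⟨a, ha, b, hb, hab⟩ := hnabQ
    exact ⟨a, hQS ha, b, hQS hb, hab⟩
  have hZQS : centralizerIn Q Q ≤ S := hZQQ.trans hQS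
  have hnsc : ¬ F.StronglyClosed (centralizerIn Q Q) := by
    intro hsc
    have h1 := hbot _ (F.isNormal_of_abelian_stronglyClosed hS hF hsc
      ⟨⟨fun a b => Subtype.ext ((mem_centralizerIn.1 b.2).2 a (hZQQ a.2))⟩⟩)
    rw [h1, Subgroup.card_bot] at hZQcard
    exact hp.one_lt.ne hZQcard
  obtain ⟨y, hy, b, hb, hMab, -, hby, -⟩ :=
    genExtra_struct hS F hF F.stronglyClosed_self hZQS hZQcard hZc hcomm hpow hnab hnsc
  have hidxle : (Subgroup.center S).index ≤ p ^ 2 := by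
    refine center_index_le_of_struct ((centralizerIn Q Q).subgroupOf S) ?_ ?_ ?_ ⟨y, hy⟩ ⟨b, hb⟩ ?_ ?_
    · intro w hw g
      exact Subtype.ext (hZc w (Subgroup.mem_subgroupOf.1 hw) g g.2)
    · intro a b
      exact Subgroup.mem_subgroupOf.2 (hcomm a a.2 b b.2)
    · rw [card_subgroupOf_of_le hZQS, hZQcard]
    · intro a c ha hc
      exact Subtype.ext (hMab a a.2 c c.2 (congrArg Subtype.val ha) (congrArg Subtype.val hc))
    · intro h
      exact hby (congrArg Subtype.val h)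
  have hnabS : ¬ ∀ a b : S, a * b = b * a := by
    intro h
    obtain ⟨a, ha, b, hb, hab⟩ := hnab
    exact hab (congrArg Subtype.val (h ⟨a, ha⟩ ⟨b, hb⟩))
  have hidx := center_index_eq_sq hS hnabS hidxle
  obtain ⟨z, hzZ, hz1, hzp, hcomm', hzab, hcardS'⟩ := center_setup hidx
  have hle' := center_le_zpowers_of_odd hp2 hS F hF hO hzZ hz1 hzp hcomm' hzab hcardS'
  have hZS : centralizerIn S S = Subgroup.zpowers z := le_antisymm hle' (Subgroup.zpowers_le.2 hzZ)
  have hZScard : Nat.card (centralizerIn S S) = p := by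
    rw [hZS, Nat.card_zpowers, orderOf_eq_prime hzp hz1]
  have hZQZS : centralizerIn Q Q ≤ centralizerIn S S := fun w hw =>
    mem_centralizerIn.2 ⟨hZQS hw, fun g hg => hZc w hw g hg⟩
  have hne : centralizerIn Q Q ≠ ⊥ := by
    intro h
    rw [h, Subgroup.card_bot] at hZQcard
    exact hp.one_lt.ne hZQcard
  have heq := eq_of_card_prime_of_le' hp hZQZS hZScard hne
  exact hcQ (hZQQ (heq ▸ hcZ))

end FusionSystem
end Cfsg
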