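import Cfsg.Agent.Fus.ExtraEssGrp
import Cfsg.Agent.Fus.ExtraIdx
import Cfsg.Agent.Fus.Embedded2

/-!
S5179: an essential subgroup contained in an extraspecial subgroup `Q` of index `p` (with `#S ≥ p ^ 6`) equals `Q`.
-/

set_option autoImplicit false

namespace Cfsg
namespace FusionSystem

open Cfsg.Agent.Fus

variable {Ω : Type*} [Group Ω] {S : Subgroup Ω} [Finite S]

/-- An automorphism conjugating some non-inner element of `Aut_S(E)` into `Aut_S(E)` extends to a larger subgroup. -/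
theorem mem_closure_extendable (F : FusionSystem S) {E : Subgroup Ω} (hES : E ≤ S) (hrec : F.IsReceptive E)
    {a : MulAut E} (ha : a ∈ F.autGroup E)
    (h : ∃ t ∈ autInducedBy S E, t ∉ (autInducedBy E E : Set (MulAut E)) ∧ a * t * a⁻¹ ∈ autInducedBy S E) :
    a ∈ Subgroup.closure {α : MulAut E | ∃ (Q : Subgroup Ω) (hPQ : E < Q) (φ : Q →* Ω), φ ∈ F.Hom Q ∧
      ∀ x : E, φ (Subgroup.inclusion hPQ.le x) = α x} := by
  obtain ⟨t, htU, htI, hat⟩ := h
  obtain ⟨g, hgS, hg⟩ := (mem_autInducedBy_iff t).1 htU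
  obtain ⟨h, hhS, hh⟩ := (mem_autInducedBy_iff _).1 hat
  have hgE : g ∉ E := fun hgE => htI ((mem_autInducedBy_iff t).2 ⟨g, hgE, hg⟩)
  have ham := (F.mem_autGroup_iff hES a).1 ha
  have hgext : g ∈ extender S E (E.subtype.comp a.toMonoidHom) := by
    rw [mem_extender_iff']
    refine ⟨hgS, mem_normalizer_of_induces t hg, h, hhS, fun x y hy => ?_⟩
    have hy' : y = t x := Subtype.ext (by rw [hy, hg])
    have h1 := hh (a x)
    have h2 : (a * t * a⁻¹) (a x) = a (t x) := by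
      show a (t (a⁻¹ (a x))) = a (t x)
      rw [MulAut.inv_apply_self]
    rw [h2] at h1
    rw [hy']
    exact h1
  have hle : E ≤ extender S E (E.subtype.comp a.toMonoidHom) := le_extender _ hES hES
  have hlt : E < extender S E (E.subtype.comp a.toMonoidHom) :=
    lt_of_le_of_ne hle (fun heq => hgE (heq ▸ hgext))
  obtain ⟨ψ, hψ, hψe⟩ := hrec.exists_extension F a ham le_rfl
  exact Subgroup.subset_closure ⟨_, hlt, S.subtype.comp ψ, hψ, fun x => hψe x _ rfl⟩

theorem eq_of_essential_le_extraspecial (p : ℕ) [Fact p.Prime] (hp2 : p ≠ 2) (hS : IsPGroup p S)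
    (Q : Subgroup Ω) (hQS : Q ≤ S) (hQ : Cfsg.IsExtraspecial p Q) (hQi : (Q.subgroupOf S).index = p)
    (h6 : p ^ 6 ≤ Nat.card S) (F : FusionSystem S) (hF : F.IsSaturated p) (hO : F.core = ⊥)
    (E : Subgroup Ω) (hEQ : E ≤ Q) (hE : F.IsEssential p E) : E = Q := by
  by_contra hne
  have hp : p.Prime := Fact.out
  have hlt : E < Q := lt_of_le_of_ne hEQ hne
  have hES : E ≤ S := hEQ.trans hQS
  have hfE : Finite E := finite_of_le hES
  have hfQ : Finite Q := finite_of_le hQS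
  have hZeq := center_eq_of_extraspecial_index p hp2 hS Q hQS hQ hQi F hF hO
  have hZQmap : centralizerIn Q Q = (Subgroup.center Q).map Q.subtype := centralizerIn_self_eq_map
  have hZcard : Nat.card (centralizerIn Q Q) = p := by
    rw [hZQmap, Subgroup.card_map_of_injective Q.subtype_injective]; exact hQ.2
  have hcen : centralizerIn S E ≤ E := hE.1.2 E (IsConj.refl F hES)
  have hZE : centralizerIn Q Q ≤ E := by
    rw [← hZeq]
    exact fun c hc => hcen (mem_centralizerIn.2 ⟨(mem_centralizerIn.1 hc).1,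
      fun x hx => (mem_centralizerIn.1 hc).2 x (hES hx)⟩)
  have hZS : ∀ c ∈ centralizerIn Q Q, ∀ g ∈ S, g * c = c * g := by
    intro c hc g hg
    rw [← hZeq] at hc
    exact (mem_centralizerIn.1 hc).2 g hg
  have hQcomm' : ∀ a b : Q, a * b * a⁻¹ * b⁻¹ ∈ Subgroup.center Q := by
    intro a b
    rw [← hQ.1.2.2, commutator_def]
    exact Subgroup.commutator_mem_commutator (Subgroup.mem_top _) (Subgroup.mem_top _)
  have hQcomm : ∀ a ∈ Q, ∀ b ∈ Q, a * b * a⁻¹ * b⁻¹ ∈ centralizerIn Q Q := by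
    intro a ha b hb
    rw [hZQmap]
    exact ⟨⟨a, ha⟩ * ⟨b, hb⟩ * ⟨a, ha⟩⁻¹ * ⟨b, hb⟩⁻¹, hQcomm' _ _, rfl⟩
  obtain ⟨z₀, hz₀, hz₀1⟩ : ∃ z ∈ centralizerIn Q Q, z ≠ 1 := by
    by_contra hcon
    push Not at hcon
    have : centralizerIn Q Q = ⊥ := (Subgroup.eq_bot_iff_forall _).2 hcon
    rw [this, Subgroup.card_bot] at hZcard
    exact hp.one_lt.ne hZcard
  have hfn := hE.2.1
  obtain ⟨-, haut, hrec⟩ := hF.fullyNormalized F hS hfn
  have hsyl := haut.isSylowIn
  have hUA := F.autInducedBy_le_autGroup hES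
  obtain ⟨W, hW⟩ : ∃ W : Subgroup E, W = (centralizerIn Q Q).subgroupOf E := ⟨_, rfl⟩
  have hmemW : ∀ e : E, e ∈ W ↔ (e : Ω) ∈ centralizerIn Q Q := fun e => by
    rw [hW, Subgroup.mem_subgroupOf]
  obtain ⟨zE, hzE⟩ : ∃ zE : E, (zE : Ω) = z₀ := ⟨⟨z₀, hZE hz₀⟩, rfl⟩
  have hzW : zE ∈ W := by rw [hmemW, hzE]; exact hz₀
  have hgen : ∀ c : E, c ∈ W → c ≠ 1 → ∀ w ∈ W, ∃ k : ℤ, w = c ^ k := by
    intro c hc hc1 w hw
    have hc1' : (c : Ω) ≠ 1 := fun h => hc1 (Subtype.ext h)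
    obtain ⟨k, hk⟩ := Subgroup.mem_zpowers_iff.1
      (mem_zpowers_of_card_prime hp hZcard ((hmemW c).1 hc) hc1' ((hmemW w).1 hw))
    exact ⟨k, Subtype.ext (by rw [Subgroup.coe_zpow]; exact hk.symm)⟩
  have hzE1 : zE ≠ 1 := fun h => hz₀1 (by rw [← hzE, h]; rfl)
  have stab : ∀ a : MulAut E, a zE ∈ W → ∀ e, e ∈ W ↔ a e ∈ W := by
    intro a ha e
    constructor
    · intro he
      obtain ⟨k, rfl⟩ := hgen zE hzW hzE1 e he
      rw [map_zpow]; exact W.zpow_mem ha k
    · intro he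
      have h1 : a zE ≠ 1 := fun h => hzE1 (a.injective (by rw [h, map_one]))
      obtain ⟨k, hk⟩ := hgen _ ha h1 _ he
      rw [← map_zpow] at hk
      rw [a.injective hk]; exact W.zpow_mem hzW k
  have hWpow : ∀ w ∈ W, w ^ p = 1 := by
    intro w hw
    have h1 : (⟨(w : Ω), (hmemW w).1 hw⟩ : centralizerIn Q Q) ^ p = 1 := by
      rw [← hZcard]; exact pow_card_eq_one'
    exact Subtype.ext (by simpa using congrArg Subtype.val h1)
  have hKp := isPGroup_chainStab (p := p) (F.autGroup E) hWpow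
  have hfix : ∀ u : MulAut E, ∀ s ∈ S, (∀ x : E, ((u x : E) : Ω) = s * x * s⁻¹) → ∀ w ∈ W, u w = w := by
    intro u s hs hu w hw
    apply Subtype.ext
    rw [hu, hZS _ ((hmemW w).1 hw) s hs, mul_inv_cancel_right]
  have hKU : chainStab (F.autGroup E) W ≤ autInducedBy S E := by
    apply sylowIn_le_of_normalizes hsyl hUA (chainStab_le _ _) hKp
    intro u hu
    obtain ⟨s, hs, hu'⟩ := (mem_autInducedBy_iff u).1 hu
    exact mem_normalizer_chainStab (hUA hu) (stab u (by rw [hfix u s hs hu' zE hzW]; exact hzW))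
  have hconj : ∀ g ∈ Q, ∀ h ∈ E, g * h * g⁻¹ ∈ E := fun g hg h hh => by
    have := E.mul_mem (hZE (hQcomm g hg h (hEQ hh))) hh
    simpa using this
  have hQN : ∀ g ∈ Q, g ∈ Subgroup.normalizer (E : Set Ω) := by
    intro g hg
    rw [Subgroup.mem_normalizer_iff]
    intro x
    refine ⟨fun hx => hconj g hg x hx, fun hx => ?_⟩
    have := hconj g⁻¹ (Q.inv_mem hg) _ hx
    have h2 : g⁻¹ * (g * x * g⁻¹) * g⁻¹⁻¹ = x := by group
    rwa [h2] at this
  have hcU : ∀ g (hg : g ∈ Q), conjAut g (hQN g hg) ∈ autInducedBy S E := fun g hg =>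
    (mem_autInducedBy_iff _).2 ⟨g, hQS hg, fun x => rfl⟩
  have hcK : ∀ g (hg : g ∈ Q), conjAut g (hQN g hg) ∈ chainStab (F.autGroup E) W := by
    intro g hg
    refine mem_chainStab.2 ⟨hUA (hcU g hg), hfix _ g (hQS hg) (fun x => rfl), fun e => ?_⟩
    rw [hmemW]
    have := hQcomm (e : Ω)⁻¹ (Q.inv_mem (hEQ e.2)) g hg
    rw [inv_inv] at this
    have e1 : (((e⁻¹ * conjAut g (hQN g hg) e : E)) : Ω) = (e : Ω)⁻¹ * g * e * g⁻¹ := by
      show (e : Ω)⁻¹ * (g * e * g⁻¹) = _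
      group
    rw [e1]; exact this
  have hcI : ∀ g (hg : g ∈ Q), g ∉ E → conjAut g (hQN g hg) ∉ (autInducedBy E E : Set (MulAut E)) := by
    intro g hg hgE hmem
    obtain ⟨e, he, h⟩ := (mem_autInducedBy_iff _).1 hmem
    apply hgE
    have h1 : e⁻¹ * g ∈ centralizerIn S E := by
      refine mem_centralizerIn.2 ⟨S.mul_mem (S.inv_mem (hES he)) (hQS hg), fun x hx => ?_⟩
      have h2 : g * x * g⁻¹ = e * x * e⁻¹ := h ⟨x, hx⟩
      calc x * (e⁻¹ * g) = e⁻¹ * (e * x * e⁻¹) * g := by group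
        _ = e⁻¹ * (g * x * g⁻¹) * g := by rw [h2]
        _ = _ := by group
    have h3 := E.mul_mem he (hcen h1)
    rwa [mul_inv_cancel_left] at h3
  obtain ⟨H, hHdef⟩ : ∃ H : Subgroup (MulAut E), H = Subgroup.closure {α : MulAut E | ∃ (Q : Subgroup Ω)
      (hPQ : E < Q) (φ : Q →* Ω), φ ∈ F.Hom Q ∧ ∀ x : E, φ (Subgroup.inclusion hPQ.le x) = α x} := ⟨_, rfl⟩
  have hH : ∀ a ∈ F.autGroup E, (∃ t ∈ autInducedBy S E, t ∉ (autInducedBy E E : Set (MulAut E)) ∧
      a * t * a⁻¹ ∈ autInducedBy S E) → a ∈ H := by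
    intro a ha h
    rw [hHdef]
    exact F.mem_closure_extendable hES hrec ha h
  obtain ⟨g₀, hg₀Q, hg₀E⟩ := SetLike.exists_of_lt hlt
  have hall : F.autGroup E ≤ H := by
    intro a ha
    by_cases hz : a zE ∈ W
    · exact hH a ha ⟨_, hcU g₀ hg₀Q, hcI g₀ hg₀Q hg₀E,
        hKU (conj_mem_chainStab ha (stab a hz) (hcK g₀ hg₀Q))⟩
    · have hab : ∀ x y : E, x * y = y * x := by
        by_contra hcon
        push Not at hcon
        obtain ⟨x, y, hxy⟩ := hcon
        apply hz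
        have hcW : x * y * x⁻¹ * y⁻¹ ∈ W := by
          rw [hmemW]; exact hQcomm x (hEQ x.2) y (hEQ y.2)
        have hc1 : x * y * x⁻¹ * y⁻¹ ≠ 1 := by
          intro h
          apply hxy
          have : x * y = (x * y * x⁻¹ * y⁻¹) * (y * x) := by group
          rw [this, h, one_mul]
        obtain ⟨k, hk⟩ := hgen _ hcW hc1 zE hzW
        rw [hk, map_zpow]
        apply W.zpow_mem
        rw [map_mul, map_mul, map_mul, map_inv, map_inv, hmemW]
        exact hQcomm (a x) (hEQ (a x).2) (a y) (hEQ (a y).2)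
      obtain ⟨g, hgQ, hgE, hgz⟩ : ∃ g ∈ Q, g ∉ E ∧ g * ((a zE : E) : Ω) = ((a zE : E) : Ω) * g := by
        by_contra hcon
        push Not at hcon
        have hinE : ∀ q ∈ Q, q * ((a zE : E) : Ω) = ((a zE : E) : Ω) * q → q ∈ E := by
          intro q hq hqz
          by_contra hqE
          exact hcon q hq hqE hqz
        obtain ⟨b, hb⟩ : ∃ b : Q, b * (⟨_, hEQ (a zE).2⟩ : Q) ≠ ⟨_, hEQ (a zE).2⟩ * b := by
          by_contra hcon2
          push Not at hcon2
          apply hz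
          rw [hmemW]
          exact mem_centralizerIn.2 ⟨hEQ (a zE).2, fun x hx => congrArg Subtype.val (hcon2 ⟨x, hx⟩)⟩
        have hidx := center_index_le_of_struct (p := p) (Subgroup.center Q)
          (fun c hc g => Subgroup.mem_center_iff.1 hc g) hQcomm' hQ.2 (⟨_, hEQ (a zE).2⟩ : Q) b
          (fun u v hu hv => by
            have hu' := hinE u u.2 (congrArg Subtype.val hu)
            have hv' := hinE v v.2 (congrArg Subtype.val hv)
            have huv : (u : Ω) * (v : Ω) = (v : Ω) * (u : Ω) :=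
              congrArg (Subtype.val : E → Ω) (hab ⟨u, hu'⟩ ⟨v, hv'⟩)
            exact Subtype.ext huv) hb
        have h1 : Nat.card Q = p * (Subgroup.center Q).index := by
          rw [← Subgroup.card_mul_index (Subgroup.center Q), hQ.2]
        have hcardS : Nat.card S = p * Nat.card Q := by
          rw [← Subgroup.card_mul_index (Q.subgroupOf S), hQi, card_subgroupOf_of_le hQS, mul_comm]
        have h2 : Nat.card S ≤ p ^ 4 := by
          rw [hcardS, h1]
          calc p * (p * (Subgroup.center Q).index) ≤ p * (p * p ^ 2) :=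
                Nat.mul_le_mul_left _ (Nat.mul_le_mul_left _ hidx)
            _ = p ^ 4 := by ring
        have h3 : p ^ 4 < p ^ 6 := Nat.pow_lt_pow_right hp.one_lt (by norm_num)
        omega
      have hρA : a⁻¹ * conjAut g (hQN g hgQ) * a⁻¹⁻¹ ∈ F.autGroup E :=
        Subgroup.mul_mem _ (Subgroup.mul_mem _ (Subgroup.inv_mem _ ha) (hUA (hcU g hgQ)))
          (Subgroup.inv_mem _ (Subgroup.inv_mem _ ha))
      have hρz : (a⁻¹ * conjAut g (hQN g hgQ) * a⁻¹⁻¹) zE = zE := by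
        rw [inv_inv]
        show a⁻¹ (conjAut g (hQN g hgQ) (a zE)) = zE
        have h1 : conjAut g (hQN g hgQ) (a zE) = a zE := by
          apply Subtype.ext
          show g * ((a zE : E) : Ω) * g⁻¹ = _
          rw [hgz, mul_inv_cancel_right]
        rw [h1, MulAut.inv_apply_self]
      have hinv : a⁻¹ ∈ H := mem_of_sylow_connected _ hsyl hUA hH hKU (hcK g₀ hg₀Q) (hcI g₀ hg₀Q hg₀E)
        (Subgroup.inv_mem _ ha) (hcU g hgQ) (hcI g hgQ hgE)
        (mem_normalizer_chainStab hρA (stab _ (by rw [hρz]; exact hzW)))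
      have := H.inv_mem hinv
      rwa [inv_inv] at this
  rcases F.extendable_aut_dichotomy hS hF (lt_of_lt_of_le hlt hQS) hfn H hHdef with ⟨h, -⟩ | ⟨-, hN, hemb⟩
  · exact h hE
  · apply hemb.2.1
    have h1 : H.subgroupOf (F.autGroup E) = ⊤ := by
      rw [Subgroup.subgroupOf_eq_top]; exact hall
    rw [h1, Subgroup.map_top_of_surjective _ (QuotientGroup.mk'_surjective _)]

end FusionSystem
end Cfsg
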