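import Cfsg.Agent.Fus.Transv

/-!
Structure of a group of automorphisms of an abelian group with Sylow subgroups of order `p` generated by a
"transvection".
-/

set_option autoImplicit false
namespace Cfsg.Agent.Fus

open Subgroup

theorem sl2_trick' {M : Type*} [CommGroup M] {p : ℕ} [Fact p.Prime] (u u' : MulAut M) (z y : M)
    (hyp : y ^ p = 1)
    (hu : ∀ m, ∃ i : ℤ, u m = m * z ^ i) (huz : u z = z) (huy : u y = y * z)
    (hu' : ∀ m, ∃ j : ℤ, u' m = m * y ^ j) (hu'y : u' y = y) (hu'z : u' z ≠ z) :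
    ∃ h ∈ Subgroup.closure ({u, u'} : Set (MulAut M)), h * u = u * h ∧ h z = z⁻¹ := by
  have hp : p.Prime := Fact.out
  obtain ⟨l, hl⟩ := hu' z
  have hw0 : y ^ l ≠ 1 := by
    intro h
    rw [h, mul_one] at hl
    exact hu'z hl
  have hy1 : y ≠ 1 := by
    rintro rfl
    exact hw0 (one_zpow l)
  have hcard : Nat.card (Subgroup.zpowers y) = p := by
    rw [Nat.card_zpowers, orderOf_eq_prime hyp hy1]
  have h1 : y⁻¹ ∈ Subgroup.zpowers (y ^ l) :=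
    mem_zpowers_of_card_prime hp hcard (Subgroup.zpow_mem _ (Subgroup.mem_zpowers y) l) hw0
      (Subgroup.inv_mem _ (Subgroup.mem_zpowers y))
  have hfo : IsOfFinOrder (y ^ l) := isOfFinOrder_iff_pow_eq_one.2 ⟨p, hp.pos, by
    rw [← zpow_natCast, ← zpow_mul, mul_comm, zpow_mul, zpow_natCast, hyp, one_zpow]⟩
  rw [← hfo.mem_powers_iff_mem_zpowers] at h1
  obtain ⟨n, hn⟩ := Submonoid.mem_powers_iff _ _ |>.1 h1
  have hfixpow : ∀ j : ℤ, u' (y ^ j) = y ^ j := fun j => by rw [map_zpow, hu'y]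
  set v := u' ^ n with hv
  have hvz : v z = z * y⁻¹ := by
    rw [hv, pow_apply_of_fixed u' z (y ^ l) hl (hfixpow l) n, hn]
  have hvy : v y = y := by
    have := pow_apply_of_fixed u' y 1 (by rw [hu'y, mul_one]) (map_one _) n
    rw [hv, this, one_pow, mul_one]
  have hvm : ∀ m, ∃ j : ℤ, v m = m * y ^ j := by
    intro m
    obtain ⟨j, hj⟩ := hu' m
    refine ⟨j * n, ?_⟩
    rw [hv, pow_apply_of_fixed u' m (y ^ j) hj (hfixpow j) n, zpow_mul, zpow_natCast]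
  set w := u * v * u with hw
  have hwz : w z = y⁻¹ := by
    rw [hw, MulAut.mul_apply, MulAut.mul_apply, huz, hvz, map_mul, map_inv, huz, huy, mul_inv]
    calc z * (y⁻¹ * z⁻¹) = (z * z⁻¹) * y⁻¹ := by ac_rfl
      _ = y⁻¹ := by rw [mul_inv_cancel, one_mul]
  have hwy : w y = z := by
    rw [hw, MulAut.mul_apply, MulAut.mul_apply, huy, map_mul, hvy, hvz]
    have : y * (z * y⁻¹) = z := by
      calc y * (z * y⁻¹) = (y * y⁻¹) * z := by ac_rfl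
        _ = z := by rw [mul_inv_cancel, one_mul]
    rw [this, huz]
  have hhz : (w * w) z = z⁻¹ := by rw [MulAut.mul_apply, hwz, map_inv, hwy]
  have hhy : (w * w) y = y⁻¹ := by rw [MulAut.mul_apply, hwy, hwz]
  have huC : u ∈ Subgroup.closure ({u, u'} : Set (MulAut M)) := Subgroup.subset_closure (by simp)
  have hvC : v ∈ Subgroup.closure ({u, u'} : Set (MulAut M)) :=
    Subgroup.pow_mem _ (Subgroup.subset_closure (by simp)) n
  have hwC : w ∈ Subgroup.closure ({u, u'} : Set (MulAut M)) :=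
    Subgroup.mul_mem _ (Subgroup.mul_mem _ huC hvC) huC
  refine ⟨w * w, Subgroup.mul_mem _ hwC hwC, ?_, hhz⟩
  have hW : ∀ a c : ℤ, (w * w) (y ^ a * z ^ c) = (y ^ a * z ^ c)⁻¹ := by
    intro a c
    rw [map_mul, map_zpow, map_zpow, hhy, hhz, inv_zpow, inv_zpow, mul_inv]
  have uW : ∀ a c : ℤ, u (y ^ a * z ^ c) = y ^ a * z ^ (a + c) := by
    intro a c
    rw [map_mul, map_zpow, map_zpow, huy, huz, mul_zpow, zpow_add, mul_assoc]
  ext m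
  obtain ⟨i, hi⟩ := hu m
  obtain ⟨j, hj⟩ := hvm m
  set m0 := m * y ^ (-i) * z ^ j with hm0
  have hum0 : u m0 = m0 := by
    rw [hm0, map_mul, map_mul, map_zpow, map_zpow, hi, huy, huz, mul_zpow, zpow_neg z i]
    calc m * z ^ i * (y ^ (-i) * (z ^ i)⁻¹) * z ^ j = m * y ^ (-i) * z ^ j * (z ^ i * (z ^ i)⁻¹) := by ac_rfl
      _ = m * y ^ (-i) * z ^ j := by rw [mul_inv_cancel, mul_one]
  have hvm0 : v m0 = m0 := by
    rw [hm0, map_mul, map_mul, map_zpow, map_zpow, hj, hvy, hvz, mul_zpow, inv_zpow]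
    calc m * y ^ j * y ^ (-i) * (z ^ j * (y ^ j)⁻¹) = m * y ^ (-i) * z ^ j * (y ^ j * (y ^ j)⁻¹) := by ac_rfl
      _ = m * y ^ (-i) * z ^ j := by rw [mul_inv_cancel, mul_one]
  have hwm0 : w m0 = m0 := by
    rw [hw, MulAut.mul_apply, MulAut.mul_apply, hum0, hvm0, hum0]
  have hhm0 : (w * w) m0 = m0 := by rw [MulAut.mul_apply, hwm0, hwm0]
  have hm : m = m0 * (y ^ i * z ^ (-j)) := by
    rw [hm0, zpow_neg, zpow_neg]
    calc m = m * (y ^ i * (y ^ i)⁻¹) * (z ^ j * (z ^ j)⁻¹) := by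
          rw [mul_inv_cancel, mul_inv_cancel, mul_one, mul_one]
      _ = m * (y ^ i)⁻¹ * z ^ j * (y ^ i * (z ^ j)⁻¹) := by ac_rfl
  have key : ∀ h : MulAut M, h m0 = m0 → (∀ a c : ℤ, h (y ^ a * z ^ c) = (y ^ a * z ^ c)⁻¹) →
      (h * u) m = (u * h) m := by
    intro h h1 h2
    rw [MulAut.mul_apply, MulAut.mul_apply, hm, map_mul u, hum0, uW, map_mul h, h1, h2, map_mul h, h1, h2,
      map_mul u, hum0, map_inv, uW]
  exact key _ hhm0 hW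

theorem isPGroup_zpowers_of_pow {X : Type*} [Group X] {p : ℕ} [Fact p.Prime] {v : X}
    (h : ∃ k : ℕ, v ^ p ^ k = 1) : IsPGroup p (zpowers v) := by
  obtain ⟨k, hk⟩ := h
  obtain ⟨j, -, hj⟩ := (Nat.dvd_prime_pow Fact.out).1 (orderOf_dvd_of_pow_eq_one hk)
  exact IsPGroup.of_card (n := j) (by rw [Nat.card_zpowers, hj])

theorem transv_struct_comm {M : Type*} [CommGroup M] {p : ℕ} [Fact p.Prime]
    (A U : Subgroup (MulAut M)) [Finite A] (hUA : U ≤ A) (hU : IsSylowIn p U A) (hUcard : Nat.card U = p)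
    (z : M) (hz1 : z ≠ 1) (hzp : z ^ p = 1) (hUz : ∀ v ∈ U, v z = z)
    (hUm : ∀ v ∈ U, ∀ m, ∃ i : ℤ, v m = m * z ^ i)
    (hne : ∃ v ∈ A, (∃ k : ℕ, v ^ p ^ k = 1) ∧ v ∉ U) :
    ∃ (y : M) (D : Subgroup M),
      y ^ p = 1 ∧ (∃ u ∈ U, u y = y * z) ∧
      (∀ v ∈ A, (∃ k : ℕ, v ^ p ^ k = 1) → ∀ d ∈ D, v d = d) ∧
      (∀ g ∈ A, ∀ d ∈ D, g d ∈ D) ∧
      (∀ m, (∀ v ∈ U, v m = m) → ∃ i : ℤ, m * z ^ i ∈ D) ∧
      (∀ i : ℤ, z ^ i ∈ D → z ^ i = 1) ∧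
      (∀ v ∈ A, (∃ k : ℕ, v ^ p ^ k = 1) → ∀ m, m⁻¹ * v m ∈ closure ({z, y} : Set M)) ∧
      (∀ g ∈ A, ∀ w ∈ closure ({z, y} : Set M), g w ∈ closure ({z, y} : Set M)) ∧
      (∀ g ∈ A, ∃ k ∈ A, ∃ n ∈ A, g = k * n ∧ (∀ v ∈ U, n * v * n⁻¹ ∈ U) ∧ (∀ d ∈ D, k d = d) ∧
        ∀ m, m⁻¹ * k m ∈ closure ({z, y} : Set M)) ∧
      (∃ h ∈ A, (∀ v ∈ U, h * v = v * h) ∧ h z = z⁻¹ ∧ ∀ d ∈ D, h d = d) := by
  have hp : p.Prime := Fact.out
  have hTvU : ∀ v ∈ U, IsTv p v z := fun v hv => ⟨hz1, hzp, hUz v hv, hUm v hv⟩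
  have hTv : ∀ v ∈ A, (∃ k : ℕ, v ^ p ^ k = 1) → ∃ c, IsTv p v c := by
    intro v hv hk
    obtain ⟨g, hg, hgU⟩ := hU.exists_conj_le (zpowers_le.2 hv) (isPGroup_zpowers_of_pow hk)
    have h1 := (hTvU _ (hgU v (mem_zpowers v))).conj g⁻¹
    have h2 : g⁻¹ * (g * v * g⁻¹) * g⁻¹⁻¹ = v := by group
    rw [h2] at h1
    exact ⟨_, h1⟩
  obtain ⟨u₂, hu2A, hu2p, hu2U⟩ := hne
  obtain ⟨y, hy⟩ := hTv u₂ hu2A hu2p
  have hu2ne : u₂ ≠ 1 := fun h => hu2U (h ▸ U.one_mem)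
  obtain ⟨u₀, hu0U, hu0ne⟩ : ∃ u₀ ∈ U, u₀ ≠ 1 := by
    by_contra hcon
    push Not at hcon
    have h1 : U = ⊥ := (Subgroup.eq_bot_iff_forall U).2 hcon
    rw [h1, Subgroup.card_bot] at hUcard
    exact hp.one_lt.ne hUcard
  have hgenU : ∀ u ∈ U, u ≠ 1 → ∀ v ∈ U, v ∈ zpowers u := fun u hu hu1 v hv =>
    mem_zpowers_of_card_prime hp hUcard hu hu1 hv
  have hu0y : u₀ y ≠ y := by
    intro h
    have h1 := IsTv.mem_zpowers_of_fix hUA hU hUcard hu2A (hUA hu0U) hy (hTvU u₀ hu0U) hu2ne h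
    have hc : Nat.card (zpowers u₂) = p := by rw [Nat.card_zpowers, orderOf_eq_prime hy.pow_eq_one hu2ne]
    have h2 : u₂ ∈ zpowers u₀ := mem_zpowers_of_card_prime hp hc h1 hu0ne (mem_zpowers _)
    exact hu2U (zpowers_le.2 hu0U h2)
  obtain ⟨a, ha⟩ := hUm u₀ hu0U y
  have hza : z ^ a ≠ 1 := by
    intro h
    rw [h, mul_one] at ha
    exact hu0y ha
  have hcz : Nat.card (zpowers z) = p := by rw [Nat.card_zpowers, orderOf_eq_prime hzp hz1]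
  have hcy : Nat.card (zpowers y) = p := by rw [Nat.card_zpowers, orderOf_eq_prime hy.2.1 hy.1]
  have h3 : z ∈ zpowers (z ^ a) := mem_zpowers_of_card_prime hp hcz (zpow_mem (mem_zpowers _) a) hza
    (mem_zpowers _)
  have hfo : IsOfFinOrder (z ^ a) := isOfFinOrder_iff_pow_eq_one.2 ⟨p, hp.pos, (hTvU u₀ hu0U).zpow_pow a⟩
  rw [← hfo.mem_powers_iff_mem_zpowers] at h3
  obtain ⟨n, hn⟩ := Submonoid.mem_powers_iff _ _ |>.1 h3
  set u₁ := u₀ ^ n with hu1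
  have hu1U : u₁ ∈ U := pow_mem hu0U n
  have hu1A : u₁ ∈ A := hUA hu1U
  have hu1y : u₁ y = y * z := by
    rw [hu1, pow_apply_of_fixed u₀ y (z ^ a) ha ((hTvU u₀ hu0U).fix_zpow a) n, hn]
  have hu1ne : u₁ ≠ 1 := by
    intro h
    rw [h] at hu1y
    have h4 : y * 1 = y * z := by rw [mul_one]; exact hu1y
    exact hz1 (mul_left_cancel h4).symm
  have h1 : IsTv p u₁ z := hTvU u₁ hu1U
  have hu1p : ∃ k : ℕ, u₁ ^ p ^ k = 1 := ⟨1, by rw [pow_one]; exact h1.pow_eq_one⟩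
  have hQ : ∀ v₃ ∈ A, ∀ c₃, IsTv p v₃ c₃ → v₃ ≠ 1 →
      c₃ ∈ closure ({z, y} : Set M) ∧ ∀ m, u₂ m = m → u₁ m = m → v₃ m = m := by
    intro v₃ hv3 c₃ h3 hne3
    have := IsTv.three hUA hU hUcard hu2A hu1A hv3 hy h1 h3 hu2ne hu1ne hne3 hu1y
    rwa [Set.pair_comm] at this
  have hu2z : u₂ z ≠ z := by
    intro h
    exact hu2U (zpowers_le.2 hu1U (IsTv.mem_zpowers_of_fix hUA hU hUcard hu1A hu2A h1 hy hu1ne h))
  let D : Subgroup M :=
    { carrier := {m | ∀ v ∈ A, (∃ k : ℕ, v ^ p ^ k = 1) → v m = m}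
      mul_mem' := fun {a b} ha hb v hv hk => by rw [map_mul, ha v hv hk, hb v hv hk]
      one_mem' := fun v _ _ => map_one v
      inv_mem' := fun {a} ha v hv hk => by rw [map_inv, ha v hv hk] }
  have hDmem : ∀ m, u₁ m = m → u₂ m = m → m ∈ D := by
    intro m hm1 hm2 v hv hk
    by_cases hv1 : v = 1
    · rw [hv1]; rfl
    · obtain ⟨c, hc⟩ := hTv v hv hk
      exact (hQ v hv c hc hv1).2 m hm2 hm1
  have hD3 : ∀ v ∈ A, (∃ k : ℕ, v ^ p ^ k = 1) → ∀ d ∈ D, v d = d := fun v hv hk d hd => hd v hv hk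
  have hW7 : ∀ v ∈ A, (∃ k : ℕ, v ^ p ^ k = 1) → ∀ m, m⁻¹ * v m ∈ closure ({z, y} : Set M) := by
    intro v hv hk m
    by_cases hv1 : v = 1
    · rw [hv1]
      simp
    · obtain ⟨c, hc⟩ := hTv v hv hk
      obtain ⟨i, hi⟩ := hc.2.2.2 m
      rw [hi, inv_mul_cancel_left]
      exact zpow_mem (hQ v hv c hc hv1).1 i
  set K : Subgroup (MulAut M) := closure {a | a ∈ A ∧ ∃ k : ℕ, a ^ p ^ k = 1} with hK
  have hKA : K ≤ A := (closure_le _).2 fun a ha => ha.1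
  have hKprop : ∀ κ ∈ K, (∀ d ∈ D, κ d = d) ∧ ∀ m, m⁻¹ * κ m ∈ closure ({z, y} : Set M) := by
    intro κ hκ
    induction hκ using closure_induction with
    | mem x hx => exact ⟨hD3 x hx.1 hx.2, hW7 x hx.1 hx.2⟩
    | one => exact ⟨fun d _ => rfl, fun m => by simp⟩
    | mul a b _ _ iha ihb =>
      refine ⟨fun d hd => by rw [MulAut.mul_apply, ihb.1 d hd, iha.1 d hd], fun m => ?_⟩
      have h5 : m⁻¹ * (a * b) m = (m⁻¹ * b m) * ((b m)⁻¹ * a (b m)) := by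
        rw [MulAut.mul_apply]; group
      rw [h5]
      exact mul_mem (ihb.2 m) (iha.2 (b m))
    | inv a _ iha =>
      refine ⟨fun d hd => ?_, fun m => ?_⟩
      · nth_rewrite 1 [← iha.1 d hd]
        exact MulAut.inv_apply_self _ _ _
      · have h5 : m⁻¹ * a⁻¹ m = ((a⁻¹ m)⁻¹ * a (a⁻¹ m))⁻¹ := by
          rw [MulAut.apply_inv_self]; group
        rw [h5]
        exact inv_mem (iha.2 _)
  have hconjp : ∀ (g v : MulAut M), (∃ k : ℕ, v ^ p ^ k = 1) → ∃ k : ℕ, (g * v * g⁻¹) ^ p ^ k = 1 := by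
    rintro g v ⟨k, hk⟩
    exact ⟨k, by rw [conj_pow, hk, mul_one, mul_inv_cancel]⟩
  refine ⟨y, D, hy.2.1, ⟨u₁, hu1U, hu1y⟩, hD3, ?_, ?_, ?_, hW7, ?_, ?_, ?_⟩
  · intro g hg d hd v hv hk
    have h5 := hd (g⁻¹ * v * g⁻¹⁻¹) (A.mul_mem (A.mul_mem (A.inv_mem hg) hv) (A.inv_mem (A.inv_mem hg)))
      (hconjp g⁻¹ v hk)
    have h6 : g⁻¹ (v (g d)) = d := by
      rw [inv_inv] at h5
      exact h5
    have h7 : g (g⁻¹ (v (g d))) = g d := by rw [h6]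
    rwa [MulAut.apply_inv_self] at h7
  · intro m hm
    obtain ⟨j, hj⟩ := hy.2.2.2 m
    obtain ⟨l, hl⟩ := hy.2.2.2 z
    have hyl : y ^ l ≠ 1 := by
      intro h
      rw [h, mul_one] at hl
      exact hu2z hl
    have h5 : (y ^ j)⁻¹ ∈ zpowers (y ^ l) := mem_zpowers_of_card_prime hp hcy (zpow_mem (mem_zpowers _) l) hyl
      (inv_mem (zpow_mem (mem_zpowers _) j))
    obtain ⟨i, hi⟩ := mem_zpowers_iff.1 h5
    refine ⟨i, hDmem _ ?_ ?_⟩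
    · rw [map_mul, hm u₁ hu1U, h1.fix_zpow]
    · rw [map_mul, map_zpow, hj, hl, mul_zpow, hi]
      calc m * y ^ j * (z ^ i * (y ^ j)⁻¹) = m * z ^ i * (y ^ j * (y ^ j)⁻¹) := by ac_rfl
        _ = m * z ^ i := by rw [mul_inv_cancel, mul_one]
  · intro i hi
    by_contra hne
    have h5 : z ∈ zpowers (z ^ i) := mem_zpowers_of_card_prime hp hcz (zpow_mem (mem_zpowers _) i) hne
      (mem_zpowers _)
    exact hu2z (hD3 u₂ hu2A hu2p z (zpowers_le.2 hi h5))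
  · intro g hg
    have h5 : closure ({z, y} : Set M) ≤ (closure ({z, y} : Set M)).comap g.toMonoidHom := by
      rw [closure_le]
      rintro w (rfl | rfl)
      · refine (hQ _ (A.mul_mem (A.mul_mem hg hu1A) (A.inv_mem hg)) _ (h1.conj g) ?_).1
        intro h
        apply hu1ne
        have : u₁ = g⁻¹ * (g * u₁ * g⁻¹) * g := by group
        rw [this, h]
        group
      · refine (hQ _ (A.mul_mem (A.mul_mem hg hu2A) (A.inv_mem hg)) _ (hy.conj g) ?_).1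
        intro h
        apply hu2ne
        have : u₂ = g⁻¹ * (g * u₂ * g⁻¹) * g := by group
        rw [this, h]
        group
    exact fun w hw => h5 hw
  · intro g hg
    have hUK : U ≤ K := fun v hv => subset_closure ⟨hUA hv, 1, by rw [pow_one]; exact (hTvU v hv).pow_eq_one⟩
    have hfinK : Finite K := Finite.of_injective (Subgroup.inclusion hKA) (inclusion_injective _)
    have hUKs : IsSylowIn p U K := hU.of_le hUK hKA
    have hUgK : U.map (MulAut.conj g).toMonoidHom ≤ K := by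
      rintro _ ⟨v, hv, rfl⟩
      exact subset_closure ⟨A.mul_mem (A.mul_mem hg (hUA hv)) (A.inv_mem hg),
        hconjp g v ⟨1, by rw [pow_one]; exact (hTvU v hv).pow_eq_one⟩⟩
    obtain ⟨k, hk, hkU⟩ := hUKs.exists_conj_le hUgK ((hU.isPGroup hUA).map _)
    refine ⟨k⁻¹, A.inv_mem (hKA hk), k * g, A.mul_mem (hKA hk) hg, by group, ?_,
      (hKprop _ (K.inv_mem hk)).1, (hKprop _ (K.inv_mem hk)).2⟩
    intro v hv
    have h5 := hkU _ ⟨v, hv, rfl⟩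
    have h6 : k * g * v * (k * g)⁻¹ = k * ((MulAut.conj g).toMonoidHom v) * k⁻¹ := by
      show _ = k * (g * v * g⁻¹) * k⁻¹
      group
    rw [h6]
    exact h5
  · obtain ⟨h, hh, hhu, hhz⟩ := sl2_trick' u₁ u₂ z y hy.2.1 (hUm u₁ hu1U) (hUz u₁ hu1U) hu1y hy.2.2.2
      hy.2.2.1 hu2z
    have hhK : h ∈ K := by
      refine (closure_le _).2 ?_ hh
      rintro w (rfl | rfl)
      · exact subset_closure ⟨hu1A, hu1p⟩
      · exact subset_closure ⟨hu2A, hu2p⟩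
    refine ⟨h, hKA hhK, ?_, hhz, (hKprop h hhK).1⟩
    intro v hv
    obtain ⟨i, rfl⟩ := mem_zpowers_iff.1 (hgenU u₁ hu1U hu1ne v hv)
    exact (Commute.zpow_right (show Commute h u₁ from hhu) i).eq

theorem transv_struct {M : Type*} [Group M] (hc : ∀ a b : M, a * b = b * a) {p : ℕ} [Fact p.Prime]
    (A U : Subgroup (MulAut M)) [Finite A] (hUA : U ≤ A) (hU : IsSylowIn p U A) (hUcard : Nat.card U = p)
    (z : M) (hz1 : z ≠ 1) (hzp : z ^ p = 1) (hUz : ∀ v ∈ U, v z = z)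
    (hUm : ∀ v ∈ U, ∀ m, ∃ i : ℤ, v m = m * z ^ i)
    (hne : ∃ v ∈ A, (∃ k : ℕ, v ^ p ^ k = 1) ∧ v ∉ U) :
    ∃ (y : M) (D : Subgroup M),
      y ^ p = 1 ∧ (∃ u ∈ U, u y = y * z) ∧
      (∀ v ∈ A, (∃ k : ℕ, v ^ p ^ k = 1) → ∀ d ∈ D, v d = d) ∧
      (∀ g ∈ A, ∀ d ∈ D, g d ∈ D) ∧
      (∀ m, (∀ v ∈ U, v m = m) → ∃ i : ℤ, m * z ^ i ∈ D) ∧
      (∀ i : ℤ, z ^ i ∈ D → z ^ i = 1) ∧
      (∀ v ∈ A, (∃ k : ℕ, v ^ p ^ k = 1) → ∀ m, m⁻¹ * v m ∈ closure ({z, y} : Set M)) ∧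
      (∀ g ∈ A, ∀ w ∈ closure ({z, y} : Set M), g w ∈ closure ({z, y} : Set M)) ∧
      (∀ g ∈ A, ∃ k ∈ A, ∃ n ∈ A, g = k * n ∧ (∀ v ∈ U, n * v * n⁻¹ ∈ U) ∧ (∀ d ∈ D, k d = d) ∧
        ∀ m, m⁻¹ * k m ∈ closure ({z, y} : Set M)) ∧
      (∃ h ∈ A, (∀ v ∈ U, h * v = v * h) ∧ h z = z⁻¹ ∧ ∀ d ∈ D, h d = d) := by
  let _ : CommGroup M := { ‹Group M› with mul_comm := hc }
  exact transv_struct_comm A U hUA hU hUcard z hz1 hzp hUz hUm hne

end Cfsg.Agent.Fus
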