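import Cfsg.Agent.Fus.SylowIn
import Cfsg.Agent.Fus.Transv2

/-!
Abstract lemmas for S5179: connectedness of Sylow subgroups, and the group of automorphisms stabilizing a chain
`1 ≤ W ≤ M`.
-/

set_option autoImplicit false

namespace Cfsg.Agent.Fus

section abs

variable {X : Type*} [Group X]

theorem sylowIn_le_of_normalizes {p : ℕ} [Fact p.Prime] {U A K : Subgroup X} [Finite A]
    (h : IsSylowIn p U A) (hUA : U ≤ A) (hKA : K ≤ A) (hKp : IsPGroup p K)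
    (hn : U ≤ Subgroup.normalizer (K : Set X)) : K ≤ U := by
  have hUp := h.isPGroup hUA
  have h1 : IsPGroup p (U ⊔ K : Subgroup X) := IsPGroup.to_sup_of_normal_right' hUp hKp hn
  have h2 := h.card_le hUA (sup_le hUA hKA) h1
  have hfin : Finite (U ⊔ K : Subgroup X) :=
    Finite.of_injective (Subgroup.inclusion (sup_le hUA hKA)) (Subgroup.inclusion_injective _)
  have h3 : U = U ⊔ K := Subgroup.eq_of_le_of_card_ge le_sup_left h2
  rw [h3]; exact le_sup_right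

theorem mem_of_sylow_connected {p : ℕ} [Fact p.Prime] {U A K H : Subgroup X} [Finite A] (I : Set X)
    (h : IsSylowIn p U A) (hUA : U ≤ A)
    (hH : ∀ a ∈ A, (∃ t ∈ U, t ∉ I ∧ a * t * a⁻¹ ∈ U) → a ∈ H)
    (hKU : K ≤ U) {x : X} (hxK : x ∈ K) (hxI : x ∉ I) {b r : X} (hb : b ∈ A) (hr : r ∈ U) (hrI : r ∉ I)
    (hn : b * r * b⁻¹ ∈ Subgroup.normalizer (K : Set X)) : b ∈ H := by
  have hUp := h.isPGroup hUA
  have hKp : IsPGroup p K := hUp.to_le hKU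
  obtain ⟨k, hk⟩ := hUp ⟨r, hr⟩
  have hk' : r ^ p ^ k = 1 := by simpa using congrArg Subtype.val hk
  have hρ : IsPGroup p (Subgroup.zpowers (b * r * b⁻¹)) :=
    isPGroup_zpowers_of_pow ⟨k, by rw [conj_pow, hk']; simp⟩
  have hL : IsPGroup p (Subgroup.zpowers (b * r * b⁻¹) ⊔ K : Subgroup X) :=
    IsPGroup.to_sup_of_normal_right' hρ hKp (Subgroup.zpowers_le.2 hn)
  have hρA : b * r * b⁻¹ ∈ A := A.mul_mem (A.mul_mem hb (hUA hr)) (A.inv_mem hb)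
  obtain ⟨c, hc, hcL⟩ := h.exists_conj_le (sup_le (Subgroup.zpowers_le.2 hρA) (hKU.trans hUA)) hL
  have h1 : c ∈ H := hH c hc ⟨x, hKU hxK, hxI,
    hcL x ((le_sup_right : K ≤ Subgroup.zpowers (b * r * b⁻¹) ⊔ K) hxK)⟩
  have h2 : c * b ∈ H := hH _ (A.mul_mem hc hb) ⟨r, hr, hrI, by
    have := hcL _ ((le_sup_left : Subgroup.zpowers (b * r * b⁻¹) ≤ Subgroup.zpowers (b * r * b⁻¹) ⊔ K)
      (Subgroup.mem_zpowers _))
    have e : c * b * r * (c * b)⁻¹ = c * (b * r * b⁻¹) * c⁻¹ := by group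
    rw [e]; exact this⟩
  have e : b = c⁻¹ * (c * b) := by group
  rw [e]; exact H.mul_mem (H.inv_mem h1) h2

end abs

section chain

variable {M : Type*} [Group M]

/-- The automorphisms in `A` centralizing `W` and `M / W`. -/
def chainStab (A : Subgroup (MulAut M)) (W : Subgroup M) : Subgroup (MulAut M) where
  carrier := {χ | χ ∈ A ∧ (∀ w ∈ W, χ w = w) ∧ ∀ e : M, e⁻¹ * χ e ∈ W}
  one_mem' := ⟨A.one_mem, fun w _ => rfl, fun e => by
    show e⁻¹ * e ∈ W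
    rw [inv_mul_cancel]; exact W.one_mem⟩
  mul_mem' := by
    rintro χ₁ χ₂ ⟨h1, h2, h3⟩ ⟨h1', h2', h3'⟩
    refine ⟨A.mul_mem h1 h1', fun w hw => ?_, fun e => ?_⟩
    · rw [MulAut.mul_apply, h2' w hw, h2 w hw]
    · have e1 : e⁻¹ * (χ₁ * χ₂) e = (e⁻¹ * χ₁ e) * χ₁ (e⁻¹ * χ₂ e) := by
        rw [MulAut.mul_apply, map_mul, map_inv]; group
      rw [e1, h2 _ (h3' e)]
      exact W.mul_mem (h3 e) (h3' e)
  inv_mem' := by
    rintro χ ⟨h1, h2, h3⟩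
    refine ⟨A.inv_mem h1, fun w hw => ?_, fun e => ?_⟩
    · calc χ⁻¹ w = χ⁻¹ (χ w) := by rw [h2 w hw]
        _ = w := by simp
    · have h4 := h3 (χ⁻¹ e)
      rw [MulAut.apply_inv_self] at h4
      have e2 : e⁻¹ * χ⁻¹ e = ((χ⁻¹ e)⁻¹ * e)⁻¹ := by group
      rw [e2]; exact W.inv_mem h4

theorem mem_chainStab {A : Subgroup (MulAut M)} {W : Subgroup M} {χ : MulAut M} :
    χ ∈ chainStab A W ↔ χ ∈ A ∧ (∀ w ∈ W, χ w = w) ∧ ∀ e : M, e⁻¹ * χ e ∈ W := Iff.rfl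

theorem chainStab_le (A : Subgroup (MulAut M)) (W : Subgroup M) : chainStab A W ≤ A := fun _ h => h.1

theorem pow_apply_chain {W : Subgroup M} {χ : MulAut M} (h2 : ∀ w ∈ W, χ w = w) (e : M)
    (h3 : e⁻¹ * χ e ∈ W) (n : ℕ) : (χ ^ n) e = e * (e⁻¹ * χ e) ^ n := by
  induction n with
  | zero => simp
  | succ n ih =>
    rw [pow_succ', MulAut.mul_apply, ih, map_mul, map_pow, h2 _ h3, pow_succ', ← mul_assoc e,
      mul_inv_cancel_left]

theorem isPGroup_chainStab {p : ℕ} (A : Subgroup (MulAut M)) {W : Subgroup M} (hW : ∀ w ∈ W, w ^ p = 1) :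
    IsPGroup p (chainStab A W) := by
  rintro ⟨χ, -, h2, h3⟩
  refine ⟨1, Subtype.ext ?_⟩
  ext e
  show (χ ^ p ^ 1) e = e
  rw [pow_one, pow_apply_chain h2 e (h3 e), hW _ (h3 e), mul_one]

theorem conj_mem_chainStab {A : Subgroup (MulAut M)} {W : Subgroup M} {ρ : MulAut M} (hρA : ρ ∈ A)
    (hρ : ∀ e, e ∈ W ↔ ρ e ∈ W) {k : MulAut M} (hk : k ∈ chainStab A W) :
    ρ * k * ρ⁻¹ ∈ chainStab A W := by
  obtain ⟨h1, h2, h3⟩ := hk
  refine ⟨A.mul_mem (A.mul_mem hρA h1) (A.inv_mem hρA), fun w hw => ?_, fun e => ?_⟩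
  · have hw' : ρ⁻¹ w ∈ W := by rw [hρ]; simpa using hw
    show ρ (k (ρ⁻¹ w)) = w
    rw [h2 _ hw']; simp
  · show e⁻¹ * ρ (k (ρ⁻¹ e)) ∈ W
    have h4 := (hρ _).1 (h3 (ρ⁻¹ e))
    rw [map_mul, map_inv, MulAut.apply_inv_self] at h4
    exact h4

theorem mem_normalizer_chainStab {A : Subgroup (MulAut M)} {W : Subgroup M} {ρ : MulAut M} (hρA : ρ ∈ A)
    (hρ : ∀ e, e ∈ W ↔ ρ e ∈ W) : ρ ∈ Subgroup.normalizer (chainStab A W : Set (MulAut M)) := by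
  rw [Subgroup.mem_normalizer_iff]
  intro k
  refine ⟨fun hk => conj_mem_chainStab hρA hρ hk, fun hk => ?_⟩
  have hρ' : ∀ e, e ∈ W ↔ ρ⁻¹ e ∈ W := fun e => by rw [hρ (ρ⁻¹ e)]; simp
  have := conj_mem_chainStab (A.inv_mem hρA) hρ' hk
  have e : ρ⁻¹ * (ρ * k * ρ⁻¹) * ρ⁻¹⁻¹ = k := by group
  rwa [e] at this

end chain

end Cfsg.Agent.Fus
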