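import Cfsg.Agent.Lib.Helper27.CoprimeAut2
import Cfsg.Agent.H1.Small2
import Cfsg.Agent.Fus.Chain

/-!
Group theory for generalized extraspecial groups (towards S5233).
-/

set_option autoImplicit false

namespace Cfsg.Agent.Fus

open Cfsg.Agent.Lib.Helper27

universe u

/-- Subgroups of prime order: a nontrivial subgroup is everything. -/
theorem eq_of_card_prime_of_le' {X : Type*} [Group X] {p : ℕ} (hp : p.Prime) {A B : Subgroup X}
    (hAB : A ≤ B) (hB : Nat.card B = p) (hA : A ≠ ⊥) : A = B := by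
  have : Finite B := Nat.finite_of_card_ne_zero (by rw [hB]; exact hp.ne_zero)
  have hd : Nat.card A ∣ p := hB ▸ Subgroup.card_dvd_of_le hAB
  rcases (Nat.dvd_prime hp).1 hd with h | h
  · exact absurd (Subgroup.eq_bot_of_card_eq _ h) hA
  · exact Subgroup.eq_of_le_of_card_ge hAB (by rw [h, hB])

theorem mem_zpowers_of_card_prime {X : Type*} [Group X] {p : ℕ} (hp : p.Prime) {B : Subgroup X}
    (hB : Nat.card B = p) {c x : X} (hc : c ∈ B) (hc1 : c ≠ 1) (hx : x ∈ B) : x ∈ Subgroup.zpowers c := by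
  have h1 : Subgroup.zpowers c = B := by
    refine eq_of_card_prime_of_le' hp (Subgroup.zpowers_le.2 hc) hB ?_
    rwa [Ne, Subgroup.zpowers_eq_bot]
  rw [h1]; exact hx

/-- Internal direct products. -/
theorem nonempty_mulEquiv_prod_of_internal {G : Type*} [Group G] (E A : Subgroup G)
    (hcomm : ∀ e ∈ E, ∀ a ∈ A, e * a = a * e) (hdisj : ∀ x, x ∈ E → x ∈ A → x = 1)
    (hsup : ∀ g : G, ∃ e ∈ E, ∃ a ∈ A, g = e * a) : Nonempty (G ≃* E × A) := by
  let f : E × A →* G := MonoidHom.noncommCoprod E.subtype A.subtype (fun e a => hcomm e e.2 a a.2)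
  have hf : ∀ t : E × A, f t = (t.1 : G) * (t.2 : G) := fun t => rfl
  have hbij : Function.Bijective f := by
    constructor
    · rw [injective_iff_map_eq_one]
      rintro ⟨e, a⟩ h
      rw [hf] at h
      have h1 : (e : G) = (a : G)⁻¹ := eq_inv_of_mul_eq_one_left h
      have h2 : (e : G) = 1 := hdisj _ e.2 (h1 ▸ A.inv_mem a.2)
      have h3 : (a : G) = 1 := by
        rw [h2] at h1
        exact inv_eq_one.1 h1.symm
      exact Prod.ext (Subtype.ext h2) (Subtype.ext h3)
    · intro g
      obtain ⟨e, he, a, ha, rfl⟩ := hsup g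
      exact ⟨(⟨e, he⟩, ⟨a, ha⟩), rfl⟩
  exact ⟨(MulEquiv.ofBijective f hbij).symm⟩

/-- Copies in `Type`. -/
theorem exists_type0_group (G : Type u) [Group G] [Finite G] :
    ∃ (E : Type) (_ : Group E), Nonempty (G ≃* E) := by
  let e : G ≃ {i : ℕ // i < Nat.card G} := (Finite.equivFin G).trans Fin.equivSubtype
  let _ : Group {i : ℕ // i < Nat.card G} := e.symm.group
  exact ⟨{i : ℕ // i < Nat.card G}, inferInstance, ⟨(e.symm.mulEquiv).symm⟩⟩

theorem exists_type0_commGroup (G : Type u) [Group G] [Finite G] (hc : ∀ a b : G, a * b = b * a) :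
    ∃ (E : Type) (_ : CommGroup E), Nonempty (G ≃* E) := by
  let _ : CommGroup G := { (inferInstance : Group G) with mul_comm := hc }
  let e : G ≃ {i : ℕ // i < Nat.card G} := (Finite.equivFin G).trans Fin.equivSubtype
  let _ : CommGroup {i : ℕ // i < Nat.card G} := e.symm.commGroup
  exact ⟨{i : ℕ // i < Nat.card G}, inferInstance, ⟨(e.symm.mulEquiv).symm⟩⟩

theorem exists_isCompl_add {M : Type*} [AddCommGroup M] {p : ℕ} [Fact p.Prime] [Module (ZMod p) M]
    (B : AddSubgroup M) : ∃ A : AddSubgroup M, IsCompl B A := by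
  obtain ⟨C, hC⟩ := Submodule.exists_isCompl (AddSubgroup.toZModSubmodule p B)
  refine ⟨(AddSubgroup.toZModSubmodule p).symm C, ((AddSubgroup.toZModSubmodule p).isCompl_iff).2 ?_⟩
  rwa [OrderIso.apply_symm_apply]

theorem exists_isCompl_comm {K : Type*} [CommGroup K] {p : ℕ} [Fact p.Prime]
    (hexp : ∀ a : K, a ^ p = 1) (B : Subgroup K) : ∃ A : Subgroup K, IsCompl B A := by
  let inst : Module (ZMod p) (Additive K) := AddCommGroup.zmodModule (n := p) (fun x => by
    show Additive.ofMul ((Additive.toMul x) ^ p) = 0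
    rw [hexp]; rfl)
  obtain ⟨C, hC⟩ := exists_isCompl_add (p := p) (Subgroup.toAddSubgroup B)
  refine ⟨Subgroup.toAddSubgroup.symm C, (Subgroup.toAddSubgroup.isCompl_iff).2 ?_⟩
  rwa [OrderIso.apply_symm_apply]

/-- Complements in abelian subgroups of exponent `p`. -/
theorem exists_complement_of_exp {X : Type*} [Group X] {p : ℕ} [Fact p.Prime] (K : Subgroup X)
    (hab : ∀ a ∈ K, ∀ b ∈ K, a * b = b * a) (hexp : ∀ a ∈ K, a ^ p = 1) (B : Subgroup X) :
    ∃ A : Subgroup X, A ≤ K ∧ (∀ x, x ∈ A → x ∈ B → x = 1) ∧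
      ∀ k ∈ K, ∃ a ∈ A, ∃ b ∈ B, b ∈ K ∧ k = a * b := by
  let _ : CommGroup K :=
    { (inferInstance : Group K) with mul_comm := fun a b => Subtype.ext (hab a a.2 b b.2) }
  obtain ⟨A, hA⟩ := exists_isCompl_comm (p := p) (K := K) (fun a => Subtype.ext (hexp a a.2))
    (B.subgroupOf K)
  refine ⟨A.map K.subtype, Subgroup.map_subtype_le A, ?_, ?_⟩
  · rintro _ ⟨x, hx, rfl⟩ hxB
    have h1 : x ∈ B.subgroupOf K ⊓ A := ⟨Subgroup.mem_subgroupOf.2 hxB, hx⟩
    rw [hA.inf_eq_bot, Subgroup.mem_bot] at h1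
    rw [h1]; rfl
  · intro k hk
    have h1 : (⟨k, hk⟩ : K) ∈ B.subgroupOf K ⊔ A := by rw [hA.sup_eq_top]; trivial
    obtain ⟨b, hb, a, ha, hab'⟩ := Subgroup.mem_sup.1 h1
    refine ⟨a, ⟨a, ha, rfl⟩, b, Subgroup.mem_subgroupOf.1 hb, b.2, ?_⟩
    have h2 := congrArg Subtype.val hab'
    rw [hab a a.2 b b.2]
    exact h2.symm

open scoped commutatorElement in
theorem isExtraspecial_of_card_cube {E : Type*} [Group E] {p : ℕ} [Fact p.Prime]
    (hcard : Nat.card E = p ^ 3) (hnab : ¬ ∀ a b : E, a * b = b * a) : Cfsg.IsExtraspecial p E := by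
  have hp : p.Prime := Fact.out
  have : Finite E := Nat.finite_of_card_ne_zero (by rw [hcard]; exact pow_ne_zero _ hp.ne_zero)
  have hE : IsPGroup p E := IsPGroup.of_card hcard
  have hnt : Nontrivial E := by
    by_contra hcon
    rw [not_nontrivial_iff_subsingleton] at hcon
    exact hnab (fun x y => Subsingleton.elim _ _)
  have hcyc : ∀ N : Subgroup E, N.Normal → N.index = p → (N ≤ Subgroup.center E ∨ N ≤ frattini E) → False := by
    intro N hN hidx hle
    have hc : Nat.card (E ⧸ N) = p := by rw [← Subgroup.index_eq_card, hidx]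
    have hcy : IsCyclic (E ⧸ N) := isCyclic_of_prime_card hc
    rcases hle with hle | hle
    · apply hnab
      exact commutative_of_cyclic_center_quotient (QuotientGroup.mk' N) (by rwa [QuotientGroup.ker_mk'])
    · obtain ⟨g, hg⟩ := IsCyclic.exists_generator (α := E ⧸ N)
      obtain ⟨x, rfl⟩ := QuotientGroup.mk_surjective g
      have h1 : Subgroup.zpowers x ⊔ frattini E = ⊤ := by
        rw [eq_top_iff]
        intro e _
        obtain ⟨k, hk⟩ := Subgroup.mem_zpowers_iff.1 (hg (e : E ⧸ N))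
        have h2 : (x ^ k)⁻¹ * e ∈ N := by
          rw [← QuotientGroup.eq, QuotientGroup.mk_zpow]
          exact hk
        have h3 := Subgroup.mul_mem _ ((le_sup_left : _ ≤ Subgroup.zpowers x ⊔ frattini E)
          (Subgroup.zpow_mem _ (Subgroup.mem_zpowers x) k)) ((le_sup_right : _ ≤ Subgroup.zpowers x ⊔ frattini E) (hle h2))
        rwa [mul_inv_cancel_left] at h3
      have h4 := frattini_nongenerating h1
      have h5 : IsCyclic E := ⟨x, fun e => by
        have : e ∈ Subgroup.zpowers x := by rw [h4]; trivial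
        exact this⟩
      have hcm : IsMulCommutative E := h5.isMulCommutative
      exact hnab (fun a b => mul_comm' a b)
  have hidx : ∀ N : Subgroup E, Nat.card N = p ^ 2 → N.index = p := by
    intro N hN
    have h1 := N.card_mul_index
    rw [hN, hcard] at h1
    have h2 : p ^ 2 * N.index = p ^ 2 * p := by rw [h1]; ring
    exact Nat.eq_of_mul_eq_mul_left (pow_pos hp.pos 2) h2
  have hZ : Nat.card (Subgroup.center E) = p := by
    obtain ⟨k, hk, hkc⟩ := (Nat.dvd_prime_pow hp).1 (hcard ▸ Subgroup.card_subgroup_dvd_card (Subgroup.center E))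
    interval_cases k
    · rw [pow_zero] at hkc
      exact absurd (Subgroup.eq_bot_of_card_eq _ hkc) (hE.bot_lt_center).ne'
    · rwa [pow_one] at hkc
    · exact (hcyc _ inferInstance (hidx _ hkc) (Or.inl le_rfl)).elim
    · exfalso
      apply hnab
      have h1 : Subgroup.center E = ⊤ := Subgroup.eq_top_of_card_eq _ (by rw [hkc, hcard])
      intro a b
      have hb : b ∈ Subgroup.center E := h1 ▸ Subgroup.mem_top b
      exact (Subgroup.mem_center_iff.1 hb) a
  have hQ : Nat.card (E ⧸ Subgroup.center E) = p ^ 2 := by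
    have h1 := (Subgroup.center E).card_mul_index
    rw [hZ, hcard, Subgroup.index_eq_card] at h1
    have h2 : p * Nat.card (E ⧸ Subgroup.center E) = p * p ^ 2 := by rw [h1]; ring
    exact Nat.eq_of_mul_eq_mul_left hp.pos h2
  have hCle : commutator E ≤ Subgroup.center E := by
    rw [commutator_def, Subgroup.commutator_le]
    intro a _ b _
    rw [← QuotientGroup.eq_one_iff, commutatorElement_def]
    simp only [QuotientGroup.mk_mul, QuotientGroup.mk_inv]
    rw [IsPGroup.commutative_of_card_eq_prime_sq hQ (a : E ⧸ Subgroup.center E) b]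
    group
  have hC : commutator E = Subgroup.center E := by
    refine eq_of_card_prime_of_le' hp hCle hZ ?_
    intro hbot
    apply hnab
    intro x y
    have h1 : ⁅x, y⁆ ∈ commutator E := by
      rw [commutator_def]
      exact Subgroup.commutator_mem_commutator (Subgroup.mem_top _) (Subgroup.mem_top _)
    rw [hbot, Subgroup.mem_bot] at h1
    exact commutatorElement_eq_one_iff_mul_comm.1 h1
  have hZΦ : Subgroup.center E ≤ frattini E := hC ▸ (Cfsg.H1.frattini_pgroup_ge p hE).1
  have hΦ : frattini E = Subgroup.center E := by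
    obtain ⟨k, hk, hkc⟩ := (Nat.dvd_prime_pow hp).1 (hcard ▸ Subgroup.card_subgroup_dvd_card (frattini E))
    have hle := Subgroup.card_le_of_le hZΦ
    interval_cases k
    · rw [hkc, hZ, pow_zero] at hle
      exact absurd hle (by have := hp.one_lt; omega)
    · exact (Subgroup.eq_of_le_of_card_ge hZΦ (by rw [hkc, hZ, pow_one])).symm
    · exact (hcyc _ inferInstance (hidx _ hkc) (Or.inr le_rfl)).elim
    · exfalso
      have h1 : frattini E = ⊤ := Subgroup.eq_top_of_card_eq _ (by rw [hkc, hcard])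
      have h2 := frattini_nongenerating (K := (⊥ : Subgroup E)) (by rw [h1, sup_top_eq])
      exact bot_ne_top h2
  exact ⟨⟨hE, hΦ, hC⟩, hZ⟩


end Cfsg.Agent.Fus
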