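import Cfsg.Agent.Fus.GenExtraGrp

/-!
Direct decomposition of generalized extraspecial groups with an abelian centralizer of exponent `p`.
-/

set_option autoImplicit false

namespace Cfsg.Agent.Fus

open Cfsg.Agent.Lib.Helper27

universe u

section Struct

variable {G : Type u} [Group G] {p : ℕ} [Fact p.Prime] (Z : Subgroup G)
  (hZc : ∀ c ∈ Z, ∀ g : G, g * c = c * g) (hcomm : ∀ a b : G, a * b * a⁻¹ * b⁻¹ ∈ Z)

/-- `g ↦ [g, y]`. -/
def commHom (y : G) : G →* Z where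
  toFun g := ⟨g * y * g⁻¹ * y⁻¹, hcomm g y⟩
  map_one' := Subtype.ext (by simp)
  map_mul' a b := Subtype.ext (by
    show a * b * y * (a * b)⁻¹ * y⁻¹ = (a * y * a⁻¹ * y⁻¹) * (b * y * b⁻¹ * y⁻¹)
    have h := hZc _ (hcomm b y) a
    calc a * b * y * (a * b)⁻¹ * y⁻¹ = a * (b * y * b⁻¹ * y⁻¹) * y * a⁻¹ * y⁻¹ := by group
      _ = (b * y * b⁻¹ * y⁻¹) * a * y * a⁻¹ * y⁻¹ := by rw [h]
      _ = (b * y * b⁻¹ * y⁻¹) * (a * y * a⁻¹ * y⁻¹) := by group
      _ = (a * y * a⁻¹ * y⁻¹) * (b * y * b⁻¹ * y⁻¹) := (hZc _ (hcomm b y) _).symm)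

theorem commHom_coe (y g : G) : ((commHom Z hZc hcomm y g : Z) : G) = g * y * g⁻¹ * y⁻¹ := rfl

theorem commHom_eq_one_iff (y g : G) : commHom Z hZc hcomm y g = 1 ↔ g * y = y * g := by
  rw [← Subtype.coe_inj, commHom_coe, Subgroup.coe_one]
  constructor
  · intro h
    calc g * y = (g * y * g⁻¹ * y⁻¹) * (y * g) := by group
      _ = y * g := by rw [h, one_mul]
  · intro h
    rw [h]; group

include hZc hcomm in
theorem exists_decomp (hZcard : Nat.card Z = p) (y b : G)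
    (hMab : ∀ a c : G, a * y = y * a → c * y = y * c → a * c = c * a)
    (hMexp : ∀ a : G, a * y = y * a → a ^ p = 1) (hb : b * y ≠ y * b) :
    ∃ A : Subgroup G, (∀ a ∈ A, ∀ g : G, g * a = a * g) ∧ (∀ a ∈ A, a ^ p = 1) ∧
      Nonempty (G ≃* ↥(Subgroup.closure ({y, b} : Set G)) × A) := by
  have hp : p.Prime := Fact.out
  set θy := commHom Z hZc hcomm y with hθy
  set θb := commHom Z hZc hcomm b with hθb
  have hgen : ∀ c : Z, c ≠ 1 → ∀ x : Z, ∃ k : ℤ, c ^ k = x := by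
    intro c hc x
    have h1 : (x : G) ∈ Subgroup.zpowers (c : G) :=
      mem_zpowers_of_card_prime hp hZcard c.2 (fun h => hc (Subtype.ext h)) x.2
    obtain ⟨k, hk⟩ := Subgroup.mem_zpowers_iff.1 h1
    exact ⟨k, Subtype.ext (by simpa using hk)⟩
  have h1 : θy b ≠ 1 := fun h => hb ((commHom_eq_one_iff Z hZc hcomm y b).1 h)
  have h2 : θb y ≠ 1 := fun h => hb ((commHom_eq_one_iff Z hZc hcomm b y).1 h).symm
  have hyy : y * y = y * y := rfl
  -- decomposition of elements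
  have hdec : ∀ g : G, ∃ k : G, k * y = y * k ∧ k * b = b * k ∧ ∃ i j : ℤ, g = k * y ^ j * b ^ i := by
    intro g
    obtain ⟨i, hi⟩ := hgen _ h1 (θy g)
    have hm : θy (g * (b ^ i)⁻¹) = 1 := by rw [map_mul, map_inv, map_zpow, hi, mul_inv_cancel]
    obtain ⟨j, hj⟩ := hgen _ h2 (θb (g * (b ^ i)⁻¹))
    have hk : θb (g * (b ^ i)⁻¹ * (y ^ j)⁻¹) = 1 := by rw [map_mul, map_inv, map_zpow, hj, mul_inv_cancel]
    have hk' : θy (g * (b ^ i)⁻¹ * (y ^ j)⁻¹) = 1 := by
      have : θy y = 1 := (commHom_eq_one_iff Z hZc hcomm y y).2 rfl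
      rw [map_mul, map_inv, map_zpow, hm, this, one_zpow, inv_one, mul_one]
    exact ⟨_, (commHom_eq_one_iff Z hZc hcomm y _).1 hk', (commHom_eq_one_iff Z hZc hcomm b _).1 hk, i, j,
      by group⟩
  let K : Subgroup G := θy.ker ⊓ θb.ker
  have hKmem : ∀ k : G, k ∈ K ↔ k * y = y * k ∧ k * b = b * k := by
    intro k
    show (θy k = 1 ∧ θb k = 1) ↔ _
    rw [commHom_eq_one_iff, commHom_eq_one_iff]
  have hKcent : ∀ k ∈ K, ∀ g : G, g * k = k * g := by
    intro k hk g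
    obtain ⟨hky, hkb⟩ := (hKmem k).1 hk
    obtain ⟨k', hk'y, -, i, j, rfl⟩ := hdec g
    have e1 : Commute k k' := hMab k k' hky hk'y
    have e2 : Commute k (y ^ j) := (show Commute k y from hky).zpow_right j
    have e3 : Commute k (b ^ i) := (show Commute k b from hkb).zpow_right i
    exact (((e1.mul_right e2).mul_right e3).eq).symm
  obtain ⟨A, hAK, hAd, hAs⟩ := exists_complement_of_exp (p := p) K
    (fun a ha c _ => (hKcent a ha c).symm) (fun a ha => hMexp a ((hKmem a).1 ha).1)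
    (Subgroup.closure ({y, b} : Set G))
  refine ⟨A, fun a ha => hKcent a (hAK ha), fun a ha => hMexp a ((hKmem a).1 (hAK ha)).1, ?_⟩
  apply nonempty_mulEquiv_prod_of_internal
  · intro e _ a ha
    exact hKcent a (hAK ha) e
  · intro x hxE hxA
    exact hAd x hxA hxE
  · intro g
    obtain ⟨k, hky, hkb, i, j, rfl⟩ := hdec g
    obtain ⟨a, ha, β, hβ, -, rfl⟩ := hAs k ((hKmem k).2 ⟨hky, hkb⟩)
    have hyE : y ∈ Subgroup.closure ({y, b} : Set G) := Subgroup.subset_closure (by simp)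
    have hbE : b ∈ Subgroup.closure ({y, b} : Set G) := Subgroup.subset_closure (by simp)
    refine ⟨β * y ^ j * b ^ i, Subgroup.mul_mem _ (Subgroup.mul_mem _ hβ (Subgroup.zpow_mem _ hyE j))
      (Subgroup.zpow_mem _ hbE i), a, ha, ?_⟩
    rw [hKcent a (hAK ha) (β * y ^ j * b ^ i)]
    group

end Struct

end Cfsg.Agent.Fus
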