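import Cfsg.Agent.Fus.GenExtraGrp2

/-!
The exponent p case of the decomposition (p odd).
-/

set_option autoImplicit false
namespace Cfsg.Agent.Fus
open Cfsg.Agent.Lib.Helper27
universe u

section Struct2

variable {G : Type u} [Group G] [Finite G] {p : ℕ} [Fact p.Prime] (Z : Subgroup G)
  (hZc : ∀ c ∈ Z, ∀ g : G, g * c = c * g) (hcomm : ∀ a b : G, a * b * a⁻¹ * b⁻¹ ∈ Z)

include hZc hcomm in
/-- For odd `p` the elements of order dividing `p` are closed under products. -/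
theorem mul_pow_eq_one_of_odd (hp2 : p ≠ 2) (hZcard : Nat.card Z = p) {u v : G} (hu : u ^ p = 1)
    (hv : v ^ p = 1) : (u * v) ^ p = 1 := by
  have hp : p.Prime := Fact.out
  set c := v * u * v⁻¹ * u⁻¹ with hc
  have hcZ : c ∈ Z := hcomm v u
  have hrel : v * u = c * (u * v) := by rw [hc]; group
  have hcu : Commute c u := (hZc c hcZ u).symm
  have hcv : Commute c v := (hZc c hcZ v).symm
  have hcp : c ^ p = 1 := by
    have h1 : (⟨c, hcZ⟩ : Z) ^ Nat.card Z = 1 := pow_card_eq_one'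
    rw [hZcard] at h1
    exact congrArg Subtype.val h1
  have h3 : 2 < p := lt_of_le_of_ne hp.two_le (Ne.symm hp2)
  obtain ⟨t, ht⟩ := hp.dvd_choose_self (by norm_num) h3
  rw [mul_pow_central hrel hcu hcv p, ht, pow_mul, hcp, one_pow, hu, hv]
  simp

include hZc hcomm in
theorem exists_extraspecial_decomp (hp2 : p ≠ 2) (hZcard : Nat.card Z = p) (y b : G)
    (hMab : ∀ a c : G, a * y = y * a → c * y = y * c → a * c = c * a)
    (hMexp : ∀ a : G, a * y = y * a → a ^ p = 1) (hb : b * y ≠ y * b) (hbp : b ^ p = 1) :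
    ∃ (E : Type) (_ : Group E) (A : Type) (_ : CommGroup A), Cfsg.IsExtraspecial p E ∧ Nat.card E = p ^ 3 ∧
      Monoid.exponent E = p ∧ (∀ a : A, a ^ p = 1) ∧ Nonempty (G ≃* E × A) := by
  have hp : p.Prime := Fact.out
  have hyp : y ^ p = 1 := hMexp y rfl
  have hy1 : y ≠ 1 := by
    rintro rfl; exact hb (by simp)
  have hb1 : b ≠ 1 := by
    rintro rfl; exact hb (by simp)
  set E₀ := Subgroup.closure ({y, b} : Set G) with hE₀
  have hyE : y ∈ E₀ := Subgroup.subset_closure (by simp)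
  have hbE : b ∈ E₀ := Subgroup.subset_closure (by simp)
  -- exponent
  have hexp : ∀ e ∈ E₀, e ^ p = 1 := by
    intro e he
    induction he using Subgroup.closure_induction with
    | mem x hx =>
      rcases hx with rfl | hx
      · exact hyp
      · rw [Set.mem_singleton_iff] at hx; rw [hx]; exact hbp
    | one => exact one_pow _
    | mul u v _ _ hu hv => exact mul_pow_eq_one_of_odd Z hZc hcomm hp2 hZcard hu hv
    | inv u _ hu => rw [inv_pow, hu, inv_one]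
  -- normal form
  have hnf : ∀ e ∈ E₀, ∃ a ∈ Subgroup.zpowers y, ∃ b' ∈ Subgroup.zpowers b, ∃ c ∈ Z, e = a * b' * c := by
    intro e he
    induction he using Subgroup.closure_induction with
    | mem x hx =>
      rcases hx with rfl | hx
      · exact ⟨x, Subgroup.mem_zpowers x, 1, Subgroup.one_mem _, 1, Z.one_mem, by simp⟩
      · rw [Set.mem_singleton_iff] at hx
        exact ⟨1, Subgroup.one_mem _, b, Subgroup.mem_zpowers b, 1, Z.one_mem, by simp [hx]⟩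
    | one => exact ⟨1, Subgroup.one_mem _, 1, Subgroup.one_mem _, 1, Z.one_mem, by simp⟩
    | mul u v _ _ hu hv =>
      obtain ⟨a, ha, b', hb', c, hc, rfl⟩ := hu
      obtain ⟨a₂, ha₂, b₂, hb₂, c₂, hc₂, rfl⟩ := hv
      refine ⟨a * a₂, Subgroup.mul_mem _ ha ha₂, b' * b₂, Subgroup.mul_mem _ hb' hb₂,
        (b' * a₂ * b'⁻¹ * a₂⁻¹) * c * c₂, Z.mul_mem (Z.mul_mem (hcomm _ _) hc) hc₂, ?_⟩
      have e1 := hZc c hc (a₂ * b₂)
      have e2 := hZc _ (hcomm b' a₂) (a * a₂ * (b' * b₂))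
      calc a * b' * c * (a₂ * b₂ * c₂) = a * b' * (c * (a₂ * b₂)) * c₂ := by group
        _ = a * b' * ((a₂ * b₂) * c) * c₂ := by rw [e1]
        _ = a * ((b' * a₂ * b'⁻¹ * a₂⁻¹) * a₂ * b') * b₂ * c * c₂ := by group
        _ = a * (b' * a₂ * b'⁻¹ * a₂⁻¹) * (a₂ * b' * b₂ * c * c₂) := by group
        _ = (b' * a₂ * b'⁻¹ * a₂⁻¹) * a * (a₂ * b' * b₂ * c * c₂) := by rw [hZc _ (hcomm b' a₂) a]
        _ = (b' * a₂ * b'⁻¹ * a₂⁻¹) * (a * a₂ * (b' * b₂)) * c * c₂ := by group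
        _ = (a * a₂ * (b' * b₂)) * (b' * a₂ * b'⁻¹ * a₂⁻¹) * c * c₂ := by rw [e2]
        _ = a * a₂ * (b' * b₂) * (b' * a₂ * b'⁻¹ * a₂⁻¹ * c * c₂) := by group
    | inv u _ hu =>
      obtain ⟨a, ha, b', hb', c, hc, rfl⟩ := hu
      refine ⟨a⁻¹, Subgroup.inv_mem _ ha, b'⁻¹, Subgroup.inv_mem _ hb',
        (b'⁻¹ * a⁻¹ * b'⁻¹⁻¹ * a⁻¹⁻¹) * c⁻¹, Z.mul_mem (hcomm _ _) (Z.inv_mem hc), ?_⟩
      have e1 := hZc c⁻¹ (Z.inv_mem hc) (b'⁻¹ * a⁻¹)
      have e2 := hZc _ (hcomm b'⁻¹ a⁻¹) (a⁻¹ * b'⁻¹)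
      calc (a * b' * c)⁻¹ = c⁻¹ * (b'⁻¹ * a⁻¹) := by group
        _ = (b'⁻¹ * a⁻¹) * c⁻¹ := e1.symm
        _ = (b'⁻¹ * a⁻¹ * b'⁻¹⁻¹ * a⁻¹⁻¹) * (a⁻¹ * b'⁻¹) * c⁻¹ := by group
        _ = (a⁻¹ * b'⁻¹) * (b'⁻¹ * a⁻¹ * b'⁻¹⁻¹ * a⁻¹⁻¹) * c⁻¹ := by rw [e2]
        _ = a⁻¹ * b'⁻¹ * (b'⁻¹ * a⁻¹ * b'⁻¹⁻¹ * a⁻¹⁻¹ * c⁻¹) := by group
  -- cardinality
  have hle : Nat.card E₀ ≤ p ^ 3 := by
    choose fa hfa fb hfb fc hfc hf using hnf
    let f : E₀ → Subgroup.zpowers y × Subgroup.zpowers b × Z := fun e =>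
      (⟨fa e e.2, hfa e e.2⟩, ⟨fb e e.2, hfb e e.2⟩, ⟨fc e e.2, hfc e e.2⟩)
    have hinj : Function.Injective f := by
      intro e e' h
      apply Subtype.ext
      rw [hf e e.2, hf e' e'.2]
      have h1 : fa e e.2 = fa e' e'.2 := congrArg (fun t => ((t.1 : Subgroup.zpowers y) : G)) h
      have h2 : fb e e.2 = fb e' e'.2 := congrArg (fun t => ((t.2.1 : Subgroup.zpowers b) : G)) h
      have h3 : fc e e.2 = fc e' e'.2 := congrArg (fun t => ((t.2.2 : Z) : G)) h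
      rw [h1, h2, h3]
    have h4 := Nat.card_le_card_of_injective f hinj
    rw [Nat.card_prod, Nat.card_prod, Nat.card_zpowers, Nat.card_zpowers, orderOf_eq_prime hyp hy1,
      orderOf_eq_prime hbp hb1, hZcard] at h4
    calc Nat.card E₀ ≤ p * (p * p) := h4
      _ = p ^ 3 := by ring
  have hnab : ¬ ∀ a c : E₀, a * c = c * a := by
    intro h
    exact hb (congrArg Subtype.val (h ⟨b, hbE⟩ ⟨y, hyE⟩))
  have hE₀p : IsPGroup p E₀ := fun e => ⟨1, Subtype.ext (by rw [pow_one]; exact hexp e e.2)⟩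
  have hcard : Nat.card E₀ = p ^ 3 := by
    obtain ⟨k, hk⟩ := IsPGroup.iff_card.1 hE₀p
    have hk3 : k ≤ 3 := by
      rw [hk] at hle
      exact (Nat.pow_le_pow_iff_right hp.one_lt).1 hle
    interval_cases k
    · exfalso; apply hnab
      rw [pow_zero] at hk
      have := (Nat.card_eq_one_iff_unique.1 hk).1
      intro a c; exact Subsingleton.elim _ _
    · exfalso; apply hnab
      rw [pow_one] at hk
      have hcy : IsCyclic E₀ := isCyclic_of_prime_card hk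
      have hcm : IsMulCommutative E₀ := hcy.isMulCommutative
      exact fun a c => mul_comm' a c
    · exfalso; apply hnab
      have hcm : IsMulCommutative E₀ := IsPGroup.isMulCommutative_of_card_eq_prime_sq hk
      exact fun a c => mul_comm' a c
    · exact hk
  obtain ⟨A, hAc, hAe, ⟨e2⟩⟩ := exists_decomp (p := p) Z hZc hcomm hZcard y b hMab hMexp hb
  obtain ⟨A', iA', ⟨e3⟩⟩ := exists_type0_commGroup A (fun a c => Subtype.ext (hAc c c.2 a))
  obtain ⟨E', iE', ⟨e1⟩⟩ := exists_type0_group E₀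
  have hcard' : Nat.card E' = p ^ 3 := by rw [← Nat.card_congr e1.toEquiv, hcard]
  refine ⟨E', iE', A', iA', isExtraspecial_of_card_cube hcard' ?_, hcard', ?_, ?_,
    ⟨e2.trans (MulEquiv.prodCongr e1 e3)⟩⟩
  · intro h
    apply hnab
    intro a c
    apply e1.injective
    rw [map_mul, map_mul, h]
  · have h1 : Monoid.exponent E' ∣ p := by
      apply Monoid.exponent_dvd_of_forall_pow_eq_one
      intro x
      obtain ⟨e, rfl⟩ := e1.surjective x
      rw [← map_pow]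
      have : e ^ p = 1 := Subtype.ext (hexp e e.2)
      rw [this, map_one]
    rcases (Nat.dvd_prime hp).1 h1 with h2 | h2
    · exfalso
      have h3 : e1 ⟨y, hyE⟩ = 1 := by
        have := Monoid.pow_exponent_eq_one (e1 ⟨y, hyE⟩)
        rwa [h2, pow_one] at this
      have h4 : (⟨y, hyE⟩ : E₀) = 1 := (map_eq_one_iff e1 e1.injective).1 h3
      exact hy1 (congrArg Subtype.val h4)
    · exact h2
  · intro a
    obtain ⟨x, rfl⟩ := e3.surjective a
    rw [← map_pow]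
    have : x ^ p = 1 := Subtype.ext (hAe x x.2)
    rw [this, map_one]

end Struct2
end Cfsg.Agent.Fus
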