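import Cfsg.Agent.Fus.KNorm
import Cfsg.Agent.Fus.Sat3
import Cfsg.Agent.Fus.Grp2
import Cfsg.Agent.Fus.HypAut
import Cfsg.Agent.Fus.Quot2

/-!
Saturation of the `K`-normalizer systems `N_F^K(Q)`.
-/

set_option autoImplicit false

namespace Cfsg
namespace Agent
namespace Fus

theorem IsSylowIn.of_map_equiv_le {X Y : Type*} [Group X] [Group Y] {p : ℕ} [Fact p.Prime]
    {A B : Subgroup X} [Finite B] (h : IsSylowIn p A B) (hAB : A ≤ B) (f : X ≃* Y) {A' B' : Subgroup Y}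
    (hB : B.map f.toMonoidHom = B') (hA : A.map f.toMonoidHom ≤ A') (hA'B' : A' ≤ B')
    (hA'p : IsPGroup p A') : IsSylowIn p A' B' := by
  subst hB
  have h1 := h.map_equiv hAB f
  have : Finite (B.map f.toMonoidHom) := Finite.of_equiv B (f.subgroupMap B).toEquiv
  have : Finite A' := Finite.of_injective (Subgroup.inclusion hA'B') (Subgroup.inclusion_injective _)
  exact h1.of_card_le (Subgroup.map_mono hAB) hA'B' hA'p (Subgroup.card_le_of_le hA)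

end Fus
end Agent

namespace FusionSystem

open Cfsg.Agent.Fus

variable {Ω : Type*} [Group Ω] {S : Subgroup Ω}

/-- The working form of "fully `K`-normalized". -/
def HK (F : FusionSystem S) (p : ℕ) (R : Subgroup Ω) (L : Subgroup (MulAut R)) : Prop :=
  F.IsReceptive R ∧ IsSylowIn p (autInducedBy S R ⊓ L) (F.autGroup R ⊓ L)

theorem congr_trans_apply {R R₁ : Subgroup Ω} (e₀ : R ≃* R₁) (χ : MulAut R₁) (β : MulAut R) :
    MulAut.congr (e₀.trans χ) β = χ * MulAut.congr e₀ β * χ⁻¹ := by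
  ext x
  simp [MulAut.congr_apply, MulAut.mul_apply, MulAut.inv_def]

/-- Every pair `(R, L)` has a conjugate satisfying `HK`. -/
theorem exists_HK (F : FusionSystem S) [Finite S] {p : ℕ} [Fact p.Prime] (hS : IsPGroup p S)
    (hF : F.IsSaturated p) {R : Subgroup Ω} (hR : R ≤ S) (L : Subgroup (MulAut R)) :
    ∃ (R' : Subgroup Ω) (e : R ≃* R'), F.IsMor e.toMonoidHom ∧
      F.HK p R' (L.map (MulAut.congr e).toMonoidHom) := by
  obtain ⟨R₁, hconj, hfa, hrec⟩ := hF R hR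
  obtain ⟨e₀, he₀⟩ := F.isConj_iff.1 hconj
  have hR₁ : R₁ ≤ S := hrec.1
  have : Finite R₁ := finite_of_le hR₁
  obtain ⟨V, -, hVM, hV⟩ := exists_isSylowIn p (F.autGroup R₁ ⊓ L.map (MulAut.congr e₀).toMonoidHom)
    (K := ⊥) bot_le IsPGroup.of_bot
  have hVp := hV.isPGroup hVM
  obtain ⟨χ, hχ, hχV⟩ := hfa.isSylowIn.exists_conj_le (hVM.trans inf_le_left) hVp
  have hχm : F.IsMor χ.toMonoidHom := (F.mem_autGroup_iff hR₁ χ).1 hχ
  have hL : L.map (MulAut.congr (e₀.trans χ)).toMonoidHom =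
      (L.map (MulAut.congr e₀).toMonoidHom).map (MulAut.conj χ).toMonoidHom := by
    ext β
    constructor
    · rintro ⟨α, hα, rfl⟩
      exact ⟨_, ⟨α, hα, rfl⟩, (congr_trans_apply e₀ χ α).symm⟩
    · rintro ⟨_, ⟨α, hα, rfl⟩, rfl⟩
      exact ⟨α, hα, congr_trans_apply e₀ χ α⟩
  refine ⟨R₁, e₀.trans χ, hχm.comp F he₀, hrec, ?_⟩
  refine hV.of_map_equiv_le hVM (MulAut.conj χ) ?_ ?_ (inf_le_inf_right _ (F.autInducedBy_le_autGroup hR₁))
    ((isPGroup_autInducedBy hS).to_le inf_le_left)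
  · rw [hL, Subgroup.map_inf _ _ _ (MulAut.conj χ).injective, map_conj_eq_self hχ]
  · rw [hL]
    rintro _ ⟨v, hv, rfl⟩
    exact ⟨hχV v hv, ⟨v, (hVM hv).2, rfl⟩⟩

theorem centralizerIn_le_kNormalizerIn {R : Subgroup Ω} (L : Subgroup (MulAut R)) :
    centralizerIn S R ≤ kNormalizerIn S R L := by
  intro g hg
  obtain ⟨hgS, hc⟩ := mem_centralizerIn.1 hg
  refine ⟨hgS, 1, L.one_mem, fun x => ?_⟩
  rw [← hc x x.2]
  simp

/-- `HK` is inherited along a map defined on `R' N_S^{L'}(R')`. -/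
theorem HK.transfer {F : FusionSystem S} [Finite S] {p : ℕ} [Fact p.Prime] (hS : IsPGroup p S)
    (hF : F.IsSaturated p) {R' R'' : Subgroup Ω} {L' : Subgroup (MulAut R')} (h : F.HK p R' L')
    (e₂ : R' ≃* R'') {D : Subgroup Ω} (hD : kNormalizerIn S R' L' ≤ D) (hR'D : R' ≤ D) (ψ : D →* S)
    (hψ : F.IsMor ψ) (hψe : ∀ (x : R') (y : D), (y : Ω) = x → ((ψ y : S) : Ω) = e₂ x) :
    F.HK p R'' (L'.map (MulAut.congr e₂).toMonoidHom) := by
  have hR' : R' ≤ S := h.1.1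
  have he₂ : F.IsMor e₂.toMonoidHom :=
    (hψ.restrict F hR'D).codomain F _ (fun x => (hψe x _ rfl).symm)
  have hR'' : R'' ≤ S := (he₂.symm F).le F
  have : Finite R' := finite_of_le hR'
  have : Finite R'' := finite_of_le hR''
  refine ⟨?_, ?_⟩
  · apply hF.receptive_of_fullyCentralized F hS
    refine ⟨hR'', fun Q hQ => ?_⟩
    have h1 := (h.1.isFullyCentralized F).2 Q ((F.isConj_iff.2 ⟨e₂, he₂⟩).trans F hQ)
    refine h1.trans ?_
    have hle : centralizerIn S R' ≤ D := (centralizerIn_le_kNormalizerIn L').trans hD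
    have : Finite (centralizerIn S R'') := finite_of_le centralizerIn_le
    have hmem : ∀ c : centralizerIn S R', ((ψ (Subgroup.inclusion hle c) : S) : Ω) ∈ centralizerIn S R'' := by
      intro c
      refine mem_centralizerIn.2 ⟨(ψ _).2, ?_⟩
      exact map_mem_centralizer ψ e₂ hψe hR'D (c := Subgroup.inclusion hle c) (mem_centralizerIn.1 c.2).2
    refine Nat.card_le_card_of_injective (fun c : centralizerIn S R' => (⟨_, hmem c⟩ : centralizerIn S R'')) ?_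
    intro a b hab
    have h2 : ψ (Subgroup.inclusion hle a) = ψ (Subgroup.inclusion hle b) :=
      Subtype.ext (congrArg (fun z : centralizerIn S R'' => (z : Ω)) hab)
    exact Subgroup.inclusion_injective hle (hψ.injective F h2)
  · refine h.2.of_map_equiv_le (inf_le_inf_right _ (F.autInducedBy_le_autGroup hR')) (MulAut.congr e₂) ?_ ?_
      (inf_le_inf_right _ (F.autInducedBy_le_autGroup hR'')) ((isPGroup_autInducedBy hS).to_le inf_le_left)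
    · rw [Subgroup.map_inf _ _ _ (MulAut.congr e₂).injective, F.map_congr_autGroup he₂]
    · rintro _ ⟨α, ⟨hαS, hαL⟩, rfl⟩
      refine ⟨?_, ⟨α, hαL, rfl⟩⟩
      obtain ⟨g, hg, hgα⟩ := (mem_autInducedBy_iff α).1 hαS
      have hgD : g ∈ D := hD ⟨hg, α, hαL, hgα⟩
      refine (mem_autInducedBy_iff _).2 ⟨ψ ⟨g, hgD⟩, (ψ _).2, fun y => ?_⟩
      show ((e₂ (α (e₂.symm y)) : R'') : Ω) = _
      have h3 := hψe (α (e₂.symm y)) (⟨g, hgD⟩ * Subgroup.inclusion hR'D (e₂.symm y) * ⟨g, hgD⟩⁻¹)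
        (hgα _).symm
      rw [← h3, map_mul, map_mul, map_inv]
      have h4 := hψe (e₂.symm y) (Subgroup.inclusion hR'D (e₂.symm y)) rfl
      rw [MulEquiv.apply_symm_apply] at h4
      simp only [Subgroup.coe_mul, Subgroup.coe_inv, h4]

/-- `(b) ⇒ (c)` of AKO I.5.2. -/
theorem HK.exists_extension {F : FusionSystem S} [Finite S] {p : ℕ} [Fact p.Prime] (hS : IsPGroup p S)
    {Q : Subgroup Ω} {K : Subgroup (MulAut Q)} (h : F.HK p Q K) {P₁ : Subgroup Ω} (θ : P₁ ≃* Q)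
    (hθ : F.IsMor θ.toMonoidHom) :
    ∃ χ ∈ F.autGroup Q ⊓ K, ∃ ψ : ↥(P₁ ⊔ kNormalizerIn S P₁ (K.map (MulAut.congr θ.symm).toMonoidHom)) →* S,
      F.IsMor ψ ∧ ∀ (x : P₁) (y : ↥(P₁ ⊔ kNormalizerIn S P₁ (K.map (MulAut.congr θ.symm).toMonoidHom))),
        (y : Ω) = x → ((ψ y : S) : Ω) = χ (θ x) := by
  have hQ : Q ≤ S := h.1.1
  have hP₁ : P₁ ≤ S := hθ.le F
  have : Finite Q := finite_of_le hQ
  set K' := K.map (MulAut.congr θ.symm).toMonoidHom with hK'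
  have hW : (autInducedBy S P₁ ⊓ K').map (MulAut.congr θ).toMonoidHom ≤ F.autGroup Q ⊓ K := by
    rintro _ ⟨α, ⟨hαS, hαK⟩, rfl⟩
    refine ⟨F.congr_mem_autGroup hθ (F.autInducedBy_le_autGroup hP₁ hαS), ?_⟩
    obtain ⟨κ, hκ, rfl⟩ := hαK
    have : MulAut.congr θ (MulAut.congr θ.symm κ) = κ := by
      ext x; simp [MulAut.congr_apply]
    show MulAut.congr θ (MulAut.congr θ.symm κ) ∈ K
    rw [this]; exact hκ
  have hWp : IsPGroup p ((autInducedBy S P₁ ⊓ K').map (MulAut.congr θ).toMonoidHom) :=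
    ((isPGroup_autInducedBy hS).to_le inf_le_left).map _
  obtain ⟨χ, hχ, hχW⟩ := h.2.exists_conj_le hW hWp
  have hχm : F.IsMor χ.toMonoidHom := (F.mem_autGroup_iff hQ χ).1 hχ.1
  have he : F.IsMor (θ.trans χ).toMonoidHom := hχm.comp F hθ
  have hN : P₁ ⊔ kNormalizerIn S P₁ K' ≤ extender S P₁ (Q.subtype.comp (θ.trans χ).toMonoidHom) := by
    refine sup_le (le_extender _ hP₁ hQ) ?_
    rintro g ⟨hgS, κ', hκ', hgκ⟩
    have hgN : g ∈ Subgroup.normalizer (P₁ : Set Ω) := mem_normalizer_of_induces κ' hgκ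
    rw [mem_extender_iff']
    refine ⟨hgS, hgN, ?_⟩
    have h3 := (hχW _ ⟨κ', ⟨(mem_autInducedBy_iff κ').2 ⟨g, hgS, hgκ⟩, hκ'⟩, rfl⟩).1
    obtain ⟨k, hk, hk'⟩ := (mem_autInducedBy_iff _).1 h3
    refine ⟨k, hk, fun x y hy => ?_⟩
    have h4 := hk' ((θ.trans χ) x)
    show (((θ.trans χ) y : Q) : Ω) = k * (((θ.trans χ) x : Q) : Ω) * k⁻¹
    rw [← h4]
    have h5 : y = κ' x := Subtype.ext (hy.trans (hgκ x).symm)
    rw [h5]
    simp [MulAut.congr_apply, MulAut.mul_apply]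
  obtain ⟨ψ, hψ, hψe⟩ := h.1.exists_extension F (θ.trans χ) he hN
  exact ⟨χ, hχ, ψ, hψ, hψe⟩

/-- `K_P ≤ Aut(PQ)`. -/
def kExt (P Q : Subgroup Ω) (K : Subgroup (MulAut Q)) : Subgroup (MulAut ↥(P ⊔ Q)) where
  carrier := {α | (∃ π : MulAut P, ∀ x : P, ((α (Subgroup.inclusion le_sup_left x) : ↥(P ⊔ Q)) : Ω) = π x) ∧
    ∃ κ ∈ K, ∀ x : Q, ((α (Subgroup.inclusion le_sup_right x) : ↥(P ⊔ Q)) : Ω) = κ x}
  one_mem' := ⟨⟨1, fun x => rfl⟩, 1, K.one_mem, fun x => rfl⟩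
  mul_mem' := by
    rintro a b ⟨⟨π, hπ⟩, κ, hκ, hκx⟩ ⟨⟨π', hπ'⟩, κ', hκ', hκx'⟩
    refine ⟨⟨π * π', fun x => ?_⟩, κ * κ', K.mul_mem hκ hκ', fun x => ?_⟩
    · have h1 : b (Subgroup.inclusion le_sup_left x) = Subgroup.inclusion le_sup_left (π' x) :=
        Subtype.ext (hπ' x)
      rw [MulAut.mul_apply, h1, hπ]; rfl
    · have h1 : b (Subgroup.inclusion le_sup_right x) = Subgroup.inclusion le_sup_right (κ' x) :=
        Subtype.ext (hκx' x)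
      rw [MulAut.mul_apply, h1, hκx]; rfl
  inv_mem' := by
    rintro a ⟨⟨π, hπ⟩, κ, hκ, hκx⟩
    refine ⟨⟨π⁻¹, fun x => ?_⟩, κ⁻¹, K.inv_mem hκ, fun x => ?_⟩
    · have h1 : a (Subgroup.inclusion le_sup_left (π⁻¹ x)) = Subgroup.inclusion le_sup_left x :=
        Subtype.ext (by rw [hπ, MulAut.apply_inv_self]; rfl)
      rw [← h1, MulAut.inv_apply_self]; rfl
    · have h1 : a (Subgroup.inclusion le_sup_right (κ⁻¹ x)) = Subgroup.inclusion le_sup_right x :=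
        Subtype.ext (by rw [hκx, MulAut.apply_inv_self]; rfl)
      rw [← h1, MulAut.inv_apply_self]; rfl

theorem mem_kExt {P Q : Subgroup Ω} {K : Subgroup (MulAut Q)} {α : MulAut ↥(P ⊔ Q)} :
    α ∈ kExt P Q K ↔
      (∃ π : MulAut P, ∀ x : P, ((α (Subgroup.inclusion le_sup_left x) : ↥(P ⊔ Q)) : Ω) = π x) ∧
      ∃ κ ∈ K, ∀ x : Q, ((α (Subgroup.inclusion le_sup_right x) : ↥(P ⊔ Q)) : Ω) = κ x := Iff.rfl

theorem kExt_map_congr_le {P P' Q : Subgroup Ω} {K : Subgroup (MulAut Q)} (σ : ↥(P ⊔ Q) ≃* ↥(P' ⊔ Q))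
    (π₀ : P ≃* P') (hπ₀ : ∀ x : P, ((σ (Subgroup.inclusion le_sup_left x) : ↥(P' ⊔ Q)) : Ω) = π₀ x)
    (κ₀ : MulAut Q) (hκ₀ : κ₀ ∈ K)
    (hκ₀x : ∀ x : Q, ((σ (Subgroup.inclusion le_sup_right x) : ↥(P' ⊔ Q)) : Ω) = κ₀ x) :
    (kExt P Q K).map (MulAut.congr σ).toMonoidHom ≤ kExt P' Q K := by
  rintro _ ⟨α, ⟨⟨π, hπ⟩, κ, hκ, hκx⟩, rfl⟩
  refine ⟨⟨MulAut.congr π₀ π, fun x => ?_⟩, κ₀ * κ * κ₀⁻¹, K.mul_mem (K.mul_mem hκ₀ hκ) (K.inv_mem hκ₀),
    fun x => ?_⟩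
  · show ((σ (α (σ.symm (Subgroup.inclusion le_sup_left x))) : ↥(P' ⊔ Q)) : Ω) = π₀ (π (π₀.symm x))
    have h1 : σ.symm (Subgroup.inclusion le_sup_left x) = Subgroup.inclusion le_sup_left (π₀.symm x) := by
      rw [MulEquiv.symm_apply_eq]
      exact Subtype.ext (by rw [hπ₀, MulEquiv.apply_symm_apply]; rfl)
    have h2 : α (Subgroup.inclusion le_sup_left (π₀.symm x)) = Subgroup.inclusion le_sup_left (π (π₀.symm x)) :=
      Subtype.ext (hπ _)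
    rw [h1, h2, hπ₀]
  · show ((σ (α (σ.symm (Subgroup.inclusion le_sup_right x))) : ↥(P' ⊔ Q)) : Ω) = κ₀ (κ (κ₀⁻¹ x))
    have h1 : σ.symm (Subgroup.inclusion le_sup_right x) = Subgroup.inclusion le_sup_right (κ₀⁻¹ x) := by
      rw [MulEquiv.symm_apply_eq]
      exact Subtype.ext (by rw [hκ₀x, MulAut.apply_inv_self]; rfl)
    have h2 : α (Subgroup.inclusion le_sup_right (κ₀⁻¹ x)) = Subgroup.inclusion le_sup_right (κ (κ₀⁻¹ x)) :=
      Subtype.ext (hκx _)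
    rw [h1, h2, hκ₀x]

theorem kExt_map_congr {P P' Q : Subgroup Ω} {K : Subgroup (MulAut Q)} (σ : ↥(P ⊔ Q) ≃* ↥(P' ⊔ Q))
    (π₀ : P ≃* P') (hπ₀ : ∀ x : P, ((σ (Subgroup.inclusion le_sup_left x) : ↥(P' ⊔ Q)) : Ω) = π₀ x)
    (κ₀ : MulAut Q) (hκ₀ : κ₀ ∈ K)
    (hκ₀x : ∀ x : Q, ((σ (Subgroup.inclusion le_sup_right x) : ↥(P' ⊔ Q)) : Ω) = κ₀ x) :
    (kExt P Q K).map (MulAut.congr σ).toMonoidHom = kExt P' Q K := by
  apply le_antisymm (kExt_map_congr_le σ π₀ hπ₀ κ₀ hκ₀ hκ₀x)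
  intro β hβ
  have h1 := kExt_map_congr_le (K := K) σ.symm π₀.symm (fun x => by
    have : σ.symm (Subgroup.inclusion le_sup_left x) = Subgroup.inclusion le_sup_left (π₀.symm x) := by
      rw [MulEquiv.symm_apply_eq]
      exact Subtype.ext (by rw [hπ₀, MulEquiv.apply_symm_apply]; rfl)
    rw [this]; rfl) κ₀⁻¹ (K.inv_mem hκ₀) (fun x => by
    have : σ.symm (Subgroup.inclusion le_sup_right x) = Subgroup.inclusion le_sup_right (κ₀⁻¹ x) := by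
      rw [MulEquiv.symm_apply_eq]
      exact Subtype.ext (by rw [hκ₀x, MulAut.apply_inv_self]; rfl)
    rw [this]; rfl) ⟨β, hβ, rfl⟩
  refine ⟨_, h1, ?_⟩
  ext x
  simp [MulAut.congr_apply]

/-- A map on `P ⊔ Q` carrying `P` onto `P'` and `Q` onto `Q` is an isomorphism onto `P' ⊔ Q`. -/
theorem exists_equiv_sup (F : FusionSystem S) {P P' Q : Subgroup Ω} {ψ : ↥(P ⊔ Q) →* Ω}
    (hψ : ψ ∈ F.Hom (P ⊔ Q)) (π₀ : P ≃* P') (hπ₀ : ∀ x : P, ψ (Subgroup.inclusion le_sup_left x) = π₀ x)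
    (κ₀ : MulAut Q) (hκ₀ : ∀ x : Q, ψ (Subgroup.inclusion le_sup_right x) = κ₀ x) :
    ∃ σ : ↥(P ⊔ Q) ≃* ↥(P' ⊔ Q), F.IsMor σ.toMonoidHom ∧ ∀ z, ((σ z : ↥(P' ⊔ Q)) : Ω) = ψ z := by
  have hmap : ∀ z : ↥(P ⊔ Q), ψ z ∈ P' ⊔ Q := by
    apply forall_mem_sup ((P' ⊔ Q).comap ψ)
    · intro x
      show ψ _ ∈ P' ⊔ Q
      rw [hπ₀]; exact (le_sup_left : P' ≤ P' ⊔ Q) (π₀ x).2
    · intro x
      show ψ _ ∈ P' ⊔ Q
      rw [hκ₀]; exact (le_sup_right : Q ≤ P' ⊔ Q) (κ₀ x).2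
  have hm : F.IsMor (ψ.codRestrict (P' ⊔ Q) hmap) := hψ
  have hbij : Function.Bijective (ψ.codRestrict (P' ⊔ Q) hmap) := by
    refine ⟨hm.injective F, ?_⟩
    intro y
    have := forall_mem_sup (ψ.codRestrict (P' ⊔ Q) hmap).range (fun x => ?_) (fun x => ?_) y
    · exact this
    · exact ⟨Subgroup.inclusion le_sup_left (π₀.symm x), Subtype.ext (by
        show ψ _ = (x : Ω)
        rw [hπ₀, MulEquiv.apply_symm_apply])⟩
    · exact ⟨Subgroup.inclusion le_sup_right (κ₀⁻¹ x), Subtype.ext (by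
        show ψ _ = (x : Ω)
        rw [hκ₀, MulAut.apply_inv_self])⟩
  exact ⟨equivOfBijective _ hbij, F.isMor_equivOfBijective hm hbij, fun z => rfl⟩

theorem map_mem_kNormalizerIn {Q : Subgroup Ω} {K : Subgroup (MulAut Q)} {D : Subgroup Ω} (hQD : Q ≤ D)
    (ψ : D →* S) (κ' : MulAut Q) (hκ' : κ' ∈ K)
    (hψQ : ∀ x : Q, ((ψ (Subgroup.inclusion hQD x) : S) : Ω) = κ' x) {g : D}
    (hg : (g : Ω) ∈ kNormalizerIn S Q K) : ((ψ g : S) : Ω) ∈ kNormalizerIn S Q K := by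
  obtain ⟨-, κ, hκ, hκx⟩ := hg
  refine ⟨(ψ g).2, κ' * κ * κ'⁻¹, K.mul_mem (K.mul_mem hκ' hκ) (K.inv_mem hκ'), fun x => ?_⟩
  show ((κ' (κ (κ'⁻¹ x)) : Q) : Ω) = _
  rw [← hψQ]
  have h1 : Subgroup.inclusion hQD (κ (κ'⁻¹ x)) = g * Subgroup.inclusion hQD (κ'⁻¹ x) * g⁻¹ :=
    Subtype.ext (hκx _)
  rw [h1, map_mul, map_mul, map_inv]
  simp only [Subgroup.coe_mul, Subgroup.coe_inv, hψQ, MulAut.apply_inv_self]

theorem mem_normalizer_sup {P Q : Subgroup Ω} {g : Ω} (hP : g ∈ Subgroup.normalizer (P : Set Ω))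
    (hQ : g ∈ Subgroup.normalizer (Q : Set Ω)) : g ∈ Subgroup.normalizer ((P ⊔ Q : Subgroup Ω) : Set Ω) := by
  rw [Subgroup.mem_normalizer_iff_map_conj_eq] at hP hQ ⊢
  rw [Subgroup.map_sup, hP, hQ]

theorem mem_autGroup_kNormalizerSystem_iff (F : FusionSystem S) {Q : Subgroup Ω} (hQ : Q ≤ S)
    (K : Subgroup (MulAut Q)) {P : Subgroup Ω} (hP : P ≤ kNormalizerIn S Q K) (α₀ : MulAut P) :
    α₀ ∈ (F.kNormalizerSystem Q hQ K).autGroup P ↔ ∃ α ∈ F.autGroup (P ⊔ Q) ⊓ kExt P Q K,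
      ∀ x : P, ((α (Subgroup.inclusion le_sup_left x) : ↥(P ⊔ Q)) : Ω) = α₀ x := by
  have hPQ : P ⊔ Q ≤ S := sup_le (hP.trans kNormalizerIn_le) hQ
  rw [mem_autGroup_iff _ hP]
  constructor
  · rintro ⟨-, -, ψ, hψ, hψP, κ, hκ, hψQ⟩
    obtain ⟨σ, hσ, hσz⟩ := F.exists_equiv_sup hψ α₀ hψP κ hψQ
    exact ⟨σ, ⟨(F.mem_autGroup_iff hPQ σ).2 hσ, ⟨α₀, fun x => (hσz _).trans (hψP x)⟩, κ, hκ,
      fun x => (hσz _).trans (hψQ x)⟩, fun x => (hσz _).trans (hψP x)⟩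
  · rintro ⟨α, ⟨hαF, -, κ, hκ, hκx⟩, hα⟩
    exact ⟨hP, fun x => hP (α₀ x).2, _, (F.mem_autGroup_iff hPQ α).1 hαF, hα, κ, hκ, hκx⟩

theorem kExt_map_mem {P Q : Subgroup Ω} {K : Subgroup (MulAut Q)} {β : MulAut ↥(P ⊔ Q)}
    (hβ : β ∈ kExt P Q K) (x : ↥(P ⊔ Q)) (hx : (x : Ω) ∈ P) : ((β x : ↥(P ⊔ Q)) : Ω) ∈ P := by
  obtain ⟨⟨π, hπ⟩, -⟩ := hβ
  have h1 : x = Subgroup.inclusion le_sup_left (⟨x, hx⟩ : P) := Subtype.ext rfl
  rw [h1, hπ]
  exact (π _).2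

theorem conjAut_mem_kExt {P Q : Subgroup Ω} {K : Subgroup (MulAut Q)} {g : Ω}
    (hgP : g ∈ Subgroup.normalizer (P : Set Ω)) (hg : g ∈ kNormalizerIn S Q K)
    (hgPQ : g ∈ Subgroup.normalizer ((P ⊔ Q : Subgroup Ω) : Set Ω)) : conjAut g hgPQ ∈ kExt P Q K := by
  obtain ⟨-, κ, hκ, hκx⟩ := hg
  exact ⟨⟨conjAut g hgP, fun x => rfl⟩, κ, hκ, fun x => (hκx x).symm⟩

theorem kNormalizerSystem_isFullyAutomized (F : FusionSystem S) [Finite S] {p : ℕ} [Fact p.Prime]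
    {Q : Subgroup Ω} (hQ : Q ≤ S) (K : Subgroup (MulAut Q)) {P : Subgroup Ω} (hP : P ≤ kNormalizerIn S Q K)
    (h : F.HK p (P ⊔ Q) (kExt P Q K)) : (F.kNormalizerSystem Q hQ K).IsFullyAutomized p P := by
  have hPQ : P ⊔ Q ≤ S := sup_le (hP.trans kNormalizerIn_le) hQ
  have : Finite ↥(P ⊔ Q) := finite_of_le hPQ
  refine ⟨hP, ?_⟩
  obtain ⟨Φ, hΦ⟩ := exists_restrict_aut_hom (le_sup_left : P ≤ P ⊔ Q) (F.autGroup (P ⊔ Q) ⊓ kExt P Q K)
    (fun β hβ x hx => kExt_map_mem hβ.2 x hx)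
  have h1 := h.2.map_range Φ
  have hr : Φ.range = (F.kNormalizerSystem Q hQ K).autGroup P := by
    ext α₀
    rw [mem_autGroup_kNormalizerSystem_iff F hQ K hP]
    constructor
    · rintro ⟨β, rfl⟩
      exact ⟨β, β.2, fun x => (hΦ β x).symm⟩
    · rintro ⟨α, hα, hαx⟩
      refine ⟨⟨α, hα⟩, ?_⟩
      ext x
      rw [hΦ, ← hαx]
  have hm : ((autInducedBy S (P ⊔ Q) ⊓ kExt P Q K).subgroupOf (F.autGroup (P ⊔ Q) ⊓ kExt P Q K)).map Φ =
      autInducedBy (kNormalizerIn S Q K) P := by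
    ext α₀
    constructor
    · rintro ⟨β, hβ, rfl⟩
      obtain ⟨hβS, -, κ, hκ, hκx⟩ := Subgroup.mem_subgroupOf.1 hβ
      obtain ⟨g, hg, hgβ⟩ := (mem_autInducedBy_iff _).1 hβS
      exact (mem_autInducedBy_iff _).2 ⟨g, ⟨hg, κ, hκ, fun x => (hκx x).symm.trans (hgβ _)⟩,
        fun t => (hΦ β t).trans (hgβ _)⟩
    · intro hα₀
      obtain ⟨g, hg, hgα⟩ := (mem_autInducedBy_iff _).1 hα₀
      have hgP : g ∈ Subgroup.normalizer (P : Set Ω) := mem_normalizer_of_induces α₀ hgα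
      obtain ⟨hgS, κ, hκ, hκx⟩ := id hg
      have hgQ : g ∈ Subgroup.normalizer (Q : Set Ω) := mem_normalizer_of_induces κ hκx
      have hgPQ := mem_normalizer_sup hgP hgQ
      have h2 : conjAut g hgPQ ∈ autInducedBy S (P ⊔ Q) ⊓ kExt P Q K :=
        ⟨conjAut_mem hgPQ hgS, conjAut_mem_kExt hgP hg hgPQ⟩
      refine ⟨⟨conjAut g hgPQ, F.autInducedBy_le_autGroup hPQ h2.1, h2.2⟩, Subgroup.mem_subgroupOf.2 h2, ?_⟩
      ext t
      rw [hΦ, hgα]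
      rfl
  rw [hr, hm] at h1
  exact h1

theorem kNormalizerSystem_isReceptive (F : FusionSystem S) [Finite S] {p : ℕ} [Fact p.Prime]
    (hS : IsPGroup p S) {Q : Subgroup Ω} (hQ : Q ≤ S) (K : Subgroup (MulAut Q)) {P : Subgroup Ω}
    (hP : P ≤ kNormalizerIn S Q K) (h : F.HK p (P ⊔ Q) (kExt P Q K)) :
    (F.kNormalizerSystem Q hQ K).IsReceptive P := by
  refine ⟨hP, ?_⟩
  intro R φ hφ hr
  subst hr
  have hφF : φ ∈ F.Hom R := F.kHom_subset Q K R hφ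
  obtain ⟨hR, hφS₀, φh, hφh, hφhR, κ, hκ, hφhQ⟩ := hφ
  have hPQ : φ.range ⊔ Q ≤ S := sup_le (hP.trans kNormalizerIn_le) hQ
  have hRQ : R ⊔ Q ≤ S := sup_le (hR.trans kNormalizerIn_le) hQ
  have : Finite ↥(φ.range ⊔ Q) := finite_of_le hPQ
  have : Finite φ.range := finite_of_le (hP.trans kNormalizerIn_le)
  obtain ⟨e, he, hez⟩ := F.exists_equiv_sup hφh (F.rangeEquiv hφF) (fun x => hφhR x) κ hφhQ
  have heR : ∀ x : R, e (Subgroup.inclusion le_sup_left x) =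
      Subgroup.inclusion le_sup_left (F.rangeEquiv hφF x) := fun x => Subtype.ext ((hez _).trans (hφhR x))
  have heQ : ∀ x : Q, e (Subgroup.inclusion le_sup_right x) = Subgroup.inclusion le_sup_right (κ x) :=
    fun x => Subtype.ext ((hez _).trans (hφhQ x))
  obtain ⟨Φ, hΦ⟩ := exists_restrict_aut_hom (le_sup_left : φ.range ≤ φ.range ⊔ Q)
    (F.autGroup (φ.range ⊔ Q) ⊓ kExt φ.range Q K) (fun β hβ x hx => kExt_map_mem hβ.2 x hx)
  have hNS₀ : extender (kNormalizerIn S Q K) R φ ≤ kNormalizerIn S Q K :=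
    (extender_le_normalizerIn φ).trans normalizerIn_le
  have hNnorm : ∀ g ∈ extender (kNormalizerIn S Q K) R φ,
      g ∈ Subgroup.normalizer ((R ⊔ Q : Subgroup Ω) : Set Ω) := by
    intro g hg
    obtain ⟨-, κg, -, hκgx⟩ := hNS₀ hg
    exact mem_normalizer_sup (mem_normalizerIn.1 (extender_le_normalizerIn φ hg)).2
      (mem_normalizer_of_induces κg hκgx)
  have hW : (autInducedBy (extender (kNormalizerIn S Q K) R φ) (R ⊔ Q)).map (MulAut.congr e).toMonoidHom ≤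
      (autInducedBy S (φ.range ⊔ Q) ⊓ kExt φ.range Q K) ⊔
        Φ.ker.map (F.autGroup (φ.range ⊔ Q) ⊓ kExt φ.range Q K).subtype := by
    rintro _ ⟨α, hα, rfl⟩
    obtain ⟨g, hgN, hgα⟩ := (mem_autInducedBy_iff α).1 hα
    have hgS₀ := hNS₀ hgN
    rw [mem_extender_iff] at hgN
    obtain ⟨-, hgNR, k, hkS₀, hk⟩ := hgN
    obtain ⟨hgS, κg, hκg, hκgx⟩ := hgS₀
    have hkP : k ∈ Subgroup.normalizer ((φ.range : Subgroup Ω) : Set Ω) := by
      apply mem_normalizer_of_finite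
      rintro _ ⟨x, rfl⟩
      rw [← hk x (conj_mem_of_normalizer hgNR x.2)]
      exact ⟨_, rfl⟩
    obtain ⟨hkS, κk, hκk, hκkx⟩ := id hkS₀
    have hkQ : k ∈ Subgroup.normalizer (Q : Set Ω) := mem_normalizer_of_induces κk hκkx
    have hkPQ := mem_normalizer_sup hkP hkQ
    have hu : conjAut k hkPQ ∈ autInducedBy S (φ.range ⊔ Q) ⊓ kExt φ.range Q K :=
      ⟨conjAut_mem hkPQ hkS, conjAut_mem_kExt hkP hkS₀ hkPQ⟩
    have hwP : ∀ y : φ.range, ((MulAut.congr e α (Subgroup.inclusion le_sup_left y) : ↥(φ.range ⊔ Q)) : Ω) =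
        k * y * k⁻¹ := by
      intro y
      obtain ⟨x, rfl⟩ := (F.rangeEquiv hφF).surjective y
      show ((e (α (e.symm _)) : ↥(φ.range ⊔ Q)) : Ω) = _
      rw [← heR, MulEquiv.symm_apply_apply]
      have h1 : α (Subgroup.inclusion le_sup_left x) =
          Subgroup.inclusion le_sup_left (⟨g * x * g⁻¹, conj_mem_of_normalizer hgNR x.2⟩ : R) :=
        Subtype.ext (hgα _)
      rw [h1, heR]
      exact hk x _
    have hwQ : ∀ y : Q, ((MulAut.congr e α (Subgroup.inclusion le_sup_right y) : ↥(φ.range ⊔ Q)) : Ω) =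
        (κ * κg * κ⁻¹) y := by
      intro y
      show ((e (α (e.symm _)) : ↥(φ.range ⊔ Q)) : Ω) = κ (κg (κ⁻¹ y))
      have h0 : e.symm (Subgroup.inclusion le_sup_right y) = Subgroup.inclusion le_sup_right (κ⁻¹ y) := by
        rw [MulEquiv.symm_apply_eq, heQ, MulAut.apply_inv_self]
      have h1 : α (Subgroup.inclusion le_sup_right (κ⁻¹ y)) = Subgroup.inclusion le_sup_right (κg (κ⁻¹ y)) :=
        Subtype.ext ((hgα _).trans (hκgx _).symm)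
      rw [h0, h1, heQ]
      rfl
    have hwD : MulAut.congr e α ∈ F.autGroup (φ.range ⊔ Q) ⊓ kExt φ.range Q K := by
      refine ⟨F.congr_mem_autGroup he (F.autInducedBy_le_autGroup hRQ
        ((mem_autInducedBy_iff α).2 ⟨g, hgS, hgα⟩)), ⟨conjAut k hkP, hwP⟩, _,
        K.mul_mem (K.mul_mem hκ hκg) (K.inv_mem hκ), hwQ⟩
    have huD : conjAut k hkPQ ∈ F.autGroup (φ.range ⊔ Q) ⊓ kExt φ.range Q K :=
      ⟨F.autInducedBy_le_autGroup hPQ hu.1, hu.2⟩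
    have hsplit : (MulAut.congr e).toMonoidHom α = conjAut k hkPQ * ((conjAut k hkPQ)⁻¹ * MulAut.congr e α) := by
      rw [mul_inv_cancel_left]; rfl
    rw [hsplit]
    refine Subgroup.mul_mem_sup hu ⟨⟨_, Subgroup.mul_mem _ (Subgroup.inv_mem _ huD) hwD⟩, ?_, rfl⟩
    rw [SetLike.mem_coe, MonoidHom.mem_ker]
    ext t
    rw [hΦ]
    show (((conjAut k hkPQ)⁻¹ (MulAut.congr e α (Subgroup.inclusion le_sup_left t)) : ↥(φ.range ⊔ Q)) : Ω) = t
    have h2 : MulAut.congr e α (Subgroup.inclusion le_sup_left t) =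
        conjAut k hkPQ (Subgroup.inclusion le_sup_left t) := Subtype.ext (hwP t)
    rw [h2, MulAut.inv_apply_self]
    rfl
  have hWp : IsPGroup p ((autInducedBy (extender (kNormalizerIn S Q K) R φ) (R ⊔ Q)).map
      (MulAut.congr e).toMonoidHom) :=
    (isPGroup_autInducedBy (hS.to_le (hNS₀.trans kNormalizerIn_le))).map _
  obtain ⟨χ, hχKer, hχW⟩ := h.2.exists_conj_of_le_sup
    (inf_le_inf_right _ (F.autInducedBy_le_autGroup hPQ)) (Subgroup.map_subtype_le _) (by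
      apply Subgroup.le_normalizer_iff.2
      rintro u hu _ ⟨x', hx', rfl⟩
      have huD : u ∈ F.autGroup (φ.range ⊔ Q) ⊓ kExt φ.range Q K :=
        ⟨F.autInducedBy_le_autGroup hPQ hu.1, hu.2⟩
      exact ⟨⟨u, huD⟩ * x' * ⟨u, huD⟩⁻¹, (MonoidHom.normal_ker Φ).conj_mem x' hx' ⟨u, huD⟩, rfl⟩) hW hWp
  obtain ⟨⟨χ, hχD⟩, hχker, rfl⟩ := hχKer
  have hχP : ∀ t : φ.range, χ (Subgroup.inclusion le_sup_left t) = Subgroup.inclusion le_sup_left t := by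
    intro t
    apply Subtype.ext
    have h1 := hΦ ⟨χ, hχD⟩ t
    rw [MonoidHom.mem_ker.1 hχker] at h1
    exact h1.symm
  obtain ⟨-, κχ, hκχ, hκχx⟩ := hχD.2
  have he' : F.IsMor (e.trans χ).toMonoidHom := ((F.mem_autGroup_iff hPQ χ).1 hχD.1).comp F he
  have hN : extender (kNormalizerIn S Q K) R φ ⊔ Q ≤
      extender S (R ⊔ Q) ((φ.range ⊔ Q).subtype.comp (e.trans χ).toMonoidHom) := by
    refine sup_le ?_ (le_sup_right.trans (le_extender _ hRQ hPQ))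
    intro g hg
    have hgn := hNnorm g hg
    have h3 := (hχW _ ⟨conjAut g hgn, conjAut_mem hgn hg, rfl⟩).1
    obtain ⟨k, hk, hk'⟩ := (mem_autInducedBy_iff _).1 h3
    rw [mem_extender_iff']
    refine ⟨kNormalizerIn_le (hNS₀ hg), hgn, k, hk, fun x y hy => ?_⟩
    have h4 := hk' ((e.trans χ) x)
    show (((e.trans χ) y : ↥(φ.range ⊔ Q)) : Ω) = k * (((e.trans χ) x : ↥(φ.range ⊔ Q)) : Ω) * k⁻¹
    rw [← h4]
    have h5 : y = conjAut g hgn x := Subtype.ext hy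
    rw [h5]
    simp [MulAut.congr_apply, MulAut.mul_apply]
  obtain ⟨ψ, hψ, hψe⟩ := h.1.exists_extension F (e.trans χ) he' hN
  have honQ : ∀ x : Q, ((ψ (Subgroup.inclusion le_sup_right x) : S) : Ω) = (κχ * κ) x := by
    intro x
    rw [hψe (Subgroup.inclusion le_sup_right x) _ rfl]
    show ((χ (e _) : ↥(φ.range ⊔ Q)) : Ω) = κχ (κ x)
    rw [heQ, hκχx]
  refine ⟨(S.subtype.comp ψ).comp (Subgroup.inclusion le_sup_left), ⟨hNS₀, fun x => ?_, S.subtype.comp ψ, hψ,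
    fun x => rfl, κχ * κ, K.mul_mem hκχ hκ, honQ⟩, ?_⟩
  · exact map_mem_kNormalizerIn le_sup_right ψ (κχ * κ) (K.mul_mem hκχ hκ) honQ
      (g := Subgroup.inclusion le_sup_left x) (hNS₀ x.2)
  · intro x hxR hxN
    show ((ψ _ : S) : Ω) = _
    rw [hψe (Subgroup.inclusion le_sup_left ⟨x, hxR⟩) _ rfl]
    show ((χ (e _) : ↥(φ.range ⊔ Q)) : Ω) = _
    rw [heR, hχP]
    rfl

end FusionSystem
end Cfsg
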