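import Cfsg.Agent.Fus.MaxClassZ2
import Cfsg.Agent.Fus.CenterIdxOdd
import Cfsg.Agent.Fus.Embedded2
import Cfsg.Agent.Fus.KNorm

/-!
The centralizer of a normal subgroup `T` of `S`, maximal in `S`, is essential as soon as some automorphism of `T` in
the fusion system moves the centre of `S`.
-/

set_option autoImplicit false

namespace Cfsg
namespace FusionSystem

open Cfsg.Agent.Fus

variable {Ω : Type*} [Group Ω] {S : Subgroup Ω} [Finite S]

theorem isFullyNormalized_of_conj_mem (F : FusionSystem S) {P : Subgroup Ω} (hPS : P ≤ S)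
    (hn : ∀ g ∈ S, ∀ x ∈ P, g * x * g⁻¹ ∈ P) : F.IsFullyNormalized P := by
  refine ⟨hPS, fun Q _ => ?_⟩
  have h1 : normalizerIn S P = S := le_antisymm normalizerIn_le (fun g hg => mem_normalizerIn.2 ⟨hg, by
    rw [Subgroup.mem_normalizer_iff]
    intro x
    refine ⟨fun hx => hn g hg x hx, fun hx => ?_⟩
    have := hn g⁻¹ (S.inv_mem hg) _ hx
    have h2 : g⁻¹ * (g * x * g⁻¹) * g⁻¹⁻¹ = x := by group
    rwa [h2] at this⟩)
  rw [h1]
  exact Subgroup.card_le_of_le normalizerIn_le

theorem essential_centralizer_of_move (F : FusionSystem S) {p : ℕ} [Fact p.Prime] (hS : IsPGroup p S)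
    (hF : F.IsSaturated p) {T : Subgroup Ω} (hTS : T ≤ S) (hTn : ∀ g ∈ S, ∀ x ∈ T, g * x * g⁻¹ ∈ T)
    (hlt : centralizerIn S T < S) (hmaxl : ∀ Q, centralizerIn S T < Q → Q ≤ S → Q = S)
    (φ : T →* Ω) (hφ : φ ∈ F.Hom T) (hφr : φ.range = T)
    (hmove : ∃ (z : Ω) (hz : z ∈ T), z ∈ centralizerIn S S ∧ φ ⟨z, hz⟩ ∉ centralizerIn S S) :
    F.IsEssential p (centralizerIn S T) := by
  have hfT : Finite T := finite_of_le hTS
  have hCS : centralizerIn S T ≤ S := centralizerIn_le
  have hfC : Finite (centralizerIn S T) := finite_of_le hCS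
  have hfnT := F.isFullyNormalized_of_conj_mem hTS hTn
  have hfnC : F.IsFullyNormalized (centralizerIn S T) := by
    apply F.isFullyNormalized_of_conj_mem hCS
    intro g hg c hc
    obtain ⟨hcS, hc'⟩ := mem_centralizerIn.1 hc
    refine mem_centralizerIn.2 ⟨S.mul_mem (S.mul_mem hg hcS) (S.inv_mem hg), fun x hx => ?_⟩
    have h1 := hTn g⁻¹ (S.inv_mem hg) x hx
    have h2 := hc' _ h1
    calc x * (g * c * g⁻¹) = g * ((g⁻¹ * x * g⁻¹⁻¹) * c) * g⁻¹ := by group
      _ = g * (c * (g⁻¹ * x * g⁻¹⁻¹)) * g⁻¹ := by rw [h2]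
      _ = _ := by group
  obtain ⟨-, -, hrec⟩ := hF.fullyNormalized F hS hfnT
  -- the automorphism of `T`
  have hφT : ∀ x, φ x ∈ T := fun x => by
    have h1 : φ x ∈ φ.range := ⟨x, rfl⟩
    rwa [hφr] at h1
  have hm0 : F.IsMor (φ.codRestrict T hφT) := by
    show T.subtype.comp (φ.codRestrict T hφT) ∈ F.Hom T
    have : T.subtype.comp (φ.codRestrict T hφT) = φ := by ext x; rfl
    rw [this]; exact hφ
  have hb0 : Function.Bijective (φ.codRestrict T hφT) := Finite.injective_iff_bijective.1 (hm0.injective F)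
  obtain ⟨α, hα⟩ : ∃ α : T ≃* T, α = equivOfBijective _ hb0 := ⟨_, rfl⟩
  have hαm : F.IsMor α.toMonoidHom := by rw [hα]; exact F.isMor_equivOfBijective hm0 hb0
  have hαφ : ∀ x, ((α x : T) : Ω) = φ x := fun x => by rw [hα]; rfl
  obtain ⟨ψ, hψ, hψe⟩ := hrec.exists_extension F α hαm
    (sup_le (le_extender _ hTS hTS) (centralizerIn_le_extender _) :
      T ⊔ centralizerIn S T ≤ extender S T (T.subtype.comp α.toMonoidHom))
  have hmapC : ∀ c : centralizerIn S T,
      ((S.subtype.comp ψ).comp (Subgroup.inclusion le_sup_right)) c ∈ centralizerIn S T := by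
    intro c
    refine mem_centralizerIn.2 ⟨(ψ _).2, ?_⟩
    exact map_mem_centralizer ψ α hψe le_sup_left (c := Subgroup.inclusion le_sup_right c)
      (mem_centralizerIn.1 c.2).2
  have hm1 : F.IsMor (((S.subtype.comp ψ).comp (Subgroup.inclusion le_sup_right)).codRestrict _ hmapC) :=
    F.restrict_mem hψ le_sup_right
  have hb1 := Finite.injective_iff_bijective.1 (hm1.injective F)
  obtain ⟨β, hβ⟩ : ∃ β : MulAut (centralizerIn S T), β = equivOfBijective _ hb1 := ⟨_, rfl⟩
  have hβA : β ∈ F.autGroup (centralizerIn S T) := by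
    rw [hβ]; exact (F.mem_autGroup_iff hCS _).2 (F.isMor_equivOfBijective hm1 hb1)
  have hβψ : ∀ c : centralizerIn S T, ((β c : centralizerIn S T) : Ω) =
      ((ψ (Subgroup.inclusion le_sup_right c) : S) : Ω) := fun c => by rw [hβ]; rfl
  obtain ⟨z, hzT, hzZ, hzm⟩ := hmove
  have hZC : centralizerIn S S ≤ centralizerIn S T := fun c hc =>
    mem_centralizerIn.2 ⟨(mem_centralizerIn.1 hc).1, fun x hx => (mem_centralizerIn.1 hc).2 x (hTS hx)⟩
  have hβz : ((β ⟨z, hZC hzZ⟩ : centralizerIn S T) : Ω) = φ ⟨z, hzT⟩ := by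
    rw [hβψ, hψe ⟨z, hzT⟩ _ rfl, hαφ]
  -- the dichotomy
  rcases F.extendable_aut_dichotomy hS hF hlt hfnC _ rfl with ⟨-, hH⟩ | ⟨h, -⟩
  · exfalso
    have key : ∀ γ ∈ Subgroup.closure {α : MulAut (centralizerIn S T) | ∃ (Q : Subgroup Ω)
        (hPQ : centralizerIn S T < Q) (φ : Q →* Ω), φ ∈ F.Hom Q ∧
        ∀ x : centralizerIn S T, φ (Subgroup.inclusion hPQ.le x) = α x},
        ∀ x : centralizerIn S T, (x : Ω) ∈ centralizerIn S S ↔ ((γ x : centralizerIn S T) : Ω) ∈ centralizerIn S S := by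
      intro γ hγ
      induction hγ using Subgroup.closure_induction with
      | mem γ hγ =>
        obtain ⟨Q, hPQ, χ, hχ, hχγ⟩ := hγ
        obtain rfl := hmaxl Q hPQ (F.le_of_mem hχ).1
        have hm2 : F.IsMor (χ.codRestrict Q (F.le_of_mem hχ).2) := by
          show Q.subtype.comp (χ.codRestrict Q (F.le_of_mem hχ).2) ∈ F.Hom Q
          have : Q.subtype.comp (χ.codRestrict Q (F.le_of_mem hχ).2) = χ := by ext x; rfl
          rw [this]; exact hχ
        have hb2 := Finite.injective_iff_bijective.1 (hm2.injective F)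
        obtain ⟨δ, hδ⟩ : ∃ δ : MulAut Q, δ = equivOfBijective _ hb2 := ⟨_, rfl⟩
        have hδχ : ∀ x, ((δ x : Q) : Ω) = χ x := fun x => by rw [hδ]; rfl
        intro x
        rw [← hχγ x, ← hδχ]
        constructor
        · intro hx
          exact aut_mem_center δ (c := Subgroup.inclusion hPQ.le x) hx
        · intro hx
          have := aut_mem_center δ.symm hx
          rw [MulEquiv.symm_apply_apply] at this
          exact this
      | one => intro x; exact Iff.rfl
      | mul a b _ _ ha hb => intro x; exact (hb x).trans (ha (b x))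
      | inv a _ ha =>
        intro x
        have := ha (a⁻¹ x)
        rw [MulAut.apply_inv_self] at this
        exact this.symm
    rw [← hH] at hβA
    have := (key β hβA ⟨z, hZC hzZ⟩).1 hzZ
    rw [hβz] at this
    exact hzm this
  · exact h

end FusionSystem
end Cfsg
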