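import Cfsg.Agent.Fus.CenterIdxGrp
import Cfsg.Agent.Fus.GenExtraGrp

/-!
`p`-groups of maximal class: orders of the first two terms of the upper central series and the centralizer of
the second centre.
-/

set_option autoImplicit false

namespace Cfsg.Agent.Fus

variable {G : Type*} [Group G]

theorem ucs_stable {i : ℕ} (h : Subgroup.upperCentralSeries G (i + 1) = Subgroup.upperCentralSeries G i) (k : ℕ) :
    Subgroup.upperCentralSeries G (i + k) = Subgroup.upperCentralSeries G i := by
  induction k with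
  | zero => rfl
  | succ k ih =>
    ext x
    rw [← add_assoc, Subgroup.mem_upperCentralSeries_succ_iff, ih, ← Subgroup.mem_upperCentralSeries_succ_iff, h]

theorem ucs_lt [Group.IsNilpotent G] {i : ℕ} (h : Subgroup.upperCentralSeries G i ≠ ⊤) :
    Subgroup.upperCentralSeries G i < Subgroup.upperCentralSeries G (i + 1) := by
  refine lt_of_le_of_ne (Subgroup.upperCentralSeries_mono G (Nat.le_succ i)) (fun heq => h ?_)
  obtain ⟨m, hm⟩ := Group.IsNilpotent.nilpotent (G := G)
  have h1 := ucs_stable heq.symm m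
  have h2 : Subgroup.upperCentralSeries G (i + m) = ⊤ :=
    top_le_iff.1 (hm ▸ Subgroup.upperCentralSeries_mono G (Nat.le_add_left m i))
  rw [← h1, h2]

theorem mul_card_le_of_lt [Finite G] {p : ℕ} [Fact p.Prime] (hG : IsPGroup p G) {H K : Subgroup G}
    (h : H < K) : p * Nat.card H ≤ Nat.card K := by
  have hp : p.Prime := Fact.out
  obtain ⟨a, ha⟩ := (hG.to_subgroup H).exists_card_eq
  obtain ⟨b, hb⟩ := (hG.to_subgroup K).exists_card_eq
  have hlt : Nat.card H < Nat.card K := by
    by_contra hcon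
    exact h.ne (Subgroup.eq_of_le_of_card_ge h.le (not_lt.1 hcon))
  rw [ha, hb] at hlt ⊢
  have hab : a < b := (Nat.pow_lt_pow_iff_right hp.one_lt).1 hlt
  rw [← pow_succ']
  exact Nat.pow_le_pow_right hp.pos hab

theorem ucs_card_mul [Finite G] {p : ℕ} [Fact p.Prime] (hG : IsPGroup p G) (k : ℕ) :
    ∀ i, Subgroup.upperCentralSeries G (i + k) ≠ ⊤ →
      p ^ k * Nat.card (Subgroup.upperCentralSeries G i) ≤ Nat.card (Subgroup.upperCentralSeries G (i + k)) := by
  have : Group.IsNilpotent G := hG.isNilpotent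
  induction k with
  | zero => intro i _; simp
  | succ k ih =>
    intro i hi
    have h1 : Subgroup.upperCentralSeries G (i + k) ≠ ⊤ := fun h =>
      hi (top_le_iff.1 (h ▸ Subgroup.upperCentralSeries_mono G (Nat.le_succ (i + k))))
    have h2 := mul_card_le_of_lt hG (ucs_lt h1)
    have h3 := ih i h1
    calc p ^ (k + 1) * Nat.card (Subgroup.upperCentralSeries G i)
        = p * (p ^ k * Nat.card (Subgroup.upperCentralSeries G i)) := by ring
      _ ≤ p * Nat.card (Subgroup.upperCentralSeries G (i + k)) := Nat.mul_le_mul_left _ h3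
      _ ≤ _ := h2

theorem ucs_succ_index [Finite G] {p : ℕ} [Fact p.Prime] (hG : IsPGroup p G) {j : ℕ}
    (h : Subgroup.upperCentralSeries G (j + 1) ≠ ⊤) :
    p ^ 2 * Nat.card (Subgroup.upperCentralSeries G (j + 1)) ≤ Nat.card G := by
  have hp : p.Prime := Fact.out
  obtain ⟨a, ha⟩ := (hG.to_subgroup (Subgroup.upperCentralSeries G (j + 1))).exists_card_eq
  obtain ⟨b, hb⟩ := hG.exists_card_eq
  have h1 := mul_card_le_of_lt hG (lt_top_iff_ne_top.2 h)
  rw [Subgroup.card_top] at h1
  have hne : Nat.card G ≠ p * Nat.card (Subgroup.upperCentralSeries G (j + 1)) := by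
    intro hcard
    obtain ⟨x, hx⟩ : ∃ x, x ∉ Subgroup.upperCentralSeries G (j + 1) := by
      by_contra hcon
      push Not at hcon
      exact h (eq_top_iff.2 fun x _ => hcon x)
    have hd := (exists_zpow_mul_of_card (p := p) (H := Subgroup.upperCentralSeries G (j + 1)) (K := ⊤) le_top
      (fun k _ y hy => (inferInstance : (Subgroup.upperCentralSeries G (j + 1)).Normal).conj_mem y hy k)
      (by rw [Subgroup.card_top]; exact hcard) (Subgroup.mem_top x) hx).1
    apply hx
    rw [Subgroup.mem_upperCentralSeries_succ_iff]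
    intro y
    obtain ⟨i, w, hw, rfl⟩ := hd y (Subgroup.mem_top y)
    have h2 := (Subgroup.mem_upperCentralSeries_succ_iff).1 hw x
    have h3 : x * (x ^ i * w) * x⁻¹ * (x ^ i * w)⁻¹ = x ^ i * (w * x * w⁻¹ * x⁻¹)⁻¹ * (x ^ i)⁻¹ := by
      have hc : x * x ^ i = x ^ i * x := ((Commute.refl x).zpow_right i).eq
      calc x * (x ^ i * w) * x⁻¹ * (x ^ i * w)⁻¹ = (x * x ^ i) * w * x⁻¹ * (x ^ i * w)⁻¹ := by group
        _ = (x ^ i * x) * w * x⁻¹ * (x ^ i * w)⁻¹ := by rw [hc]
        _ = _ := by group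
    rw [commutatorElement_def] at h2 ⊢
    rw [h3]
    exact (inferInstance : (Subgroup.upperCentralSeries G j).Normal).conj_mem _ (inv_mem h2) _
  rw [ha, hb] at h1 hne ⊢
  rw [← pow_succ'] at h1 hne
  have hab : a + 1 ≤ b := (Nat.pow_le_pow_iff_right hp.one_lt).1 h1
  have hab' : a + 1 ≠ b := fun h => hne (by rw [h])
  rw [← pow_add]
  exact Nat.pow_le_pow_right hp.pos (by omega)

theorem mc_cards [Finite G] {p : ℕ} [Fact p.Prime] (hG : IsPGroup p G) {n : ℕ} (hn : Nat.card G = p ^ n)
    (h4 : 4 ≤ n) (hmax : Subgroup.upperCentralSeries G (n - 2) ≠ ⊤) :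
    Nat.card (Subgroup.center G) = p ∧ Nat.card (Subgroup.upperCentralSeries G 2) = p ^ 2 := by
  have hp : p.Prime := Fact.out
  obtain ⟨m, rfl⟩ : ∃ m, n = m + 4 := ⟨n - 4, by omega⟩
  have e : m + 4 - 2 = m + 1 + 1 := by omega
  rw [e] at hmax
  have htop := ucs_succ_index hG hmax
  rw [hn] at htop
  have hne : ∀ i, i ≤ m + 1 + 1 → Subgroup.upperCentralSeries G i ≠ ⊤ := fun i hi h =>
    hmax (top_le_iff.1 (h ▸ Subgroup.upperCentralSeries_mono G hi))
  have hA1 := ucs_card_mul hG (m + 1) 1 (hne _ (by omega))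
  have hA2 := ucs_card_mul hG m 2 (hne _ (by omega))
  have hB1 := ucs_card_mul hG 1 0 (hne _ (by omega))
  have hB2 := ucs_card_mul hG 2 0 (hne _ (by omega))
  have e1 : 1 + (m + 1) = m + 1 + 1 := by omega
  have e2 : 2 + m = m + 1 + 1 := by omega
  rw [e1] at hA1
  rw [e2] at hA2
  simp only [zero_add, Subgroup.upperCentralSeries_zero, Subgroup.card_bot, mul_one, pow_one] at hB1 hB2
  rw [← Subgroup.upperCentralSeries_one]
  constructor
  · refine le_antisymm ?_ hB1
    have h1 : p ^ (m + 3) * Nat.card (Subgroup.upperCentralSeries G 1) ≤ p ^ (m + 3) * p := by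
      calc p ^ (m + 3) * Nat.card (Subgroup.upperCentralSeries G 1)
          = p ^ 2 * (p ^ (m + 1) * Nat.card (Subgroup.upperCentralSeries G 1)) := by ring
        _ ≤ p ^ 2 * Nat.card (Subgroup.upperCentralSeries G (m + 1 + 1)) := Nat.mul_le_mul_left _ hA1
        _ ≤ p ^ (m + 4) := htop
        _ = p ^ (m + 3) * p := by ring
    exact Nat.le_of_mul_le_mul_left h1 (pow_pos hp.pos _)
  · refine le_antisymm ?_ hB2
    have h1 : p ^ (m + 2) * Nat.card (Subgroup.upperCentralSeries G 2) ≤ p ^ (m + 2) * p ^ 2 := by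
      calc p ^ (m + 2) * Nat.card (Subgroup.upperCentralSeries G 2)
          = p ^ 2 * (p ^ m * Nat.card (Subgroup.upperCentralSeries G 2)) := by ring
        _ ≤ p ^ 2 * Nat.card (Subgroup.upperCentralSeries G (m + 1 + 1)) := Nat.mul_le_mul_left _ hA2
        _ ≤ p ^ (m + 4) := htop
        _ = p ^ (m + 2) * p ^ 2 := by ring
    exact Nat.le_of_mul_le_mul_left h1 (pow_pos hp.pos _)

theorem mc_centralizer [Finite G] {p : ℕ} [Fact p.Prime] (h1 : Nat.card (Subgroup.center G) = p)
    (h2 : Nat.card (Subgroup.upperCentralSeries G 2) = p ^ 2) :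
    Subgroup.centralizer (Subgroup.upperCentralSeries G 2 : Set G) ≠ ⊤ ∧
      ∀ Q : Subgroup G, Subgroup.centralizer (Subgroup.upperCentralSeries G 2 : Set G) < Q → Q = ⊤ := by
  have hp : p.Prime := Fact.out
  have hle : Subgroup.center G ≤ Subgroup.upperCentralSeries G 2 := by
    rw [← Subgroup.upperCentralSeries_one]
    exact Subgroup.upperCentralSeries_mono G (by norm_num)
  obtain ⟨v, hv2, hv1⟩ : ∃ v ∈ Subgroup.upperCentralSeries G 2, v ∉ Subgroup.center G := by
    by_contra hcon
    push Not at hcon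
    have : Subgroup.upperCentralSeries G 2 = Subgroup.center G := le_antisymm hcon hle
    rw [this, h1] at h2
    have : p ^ 1 = p ^ 2 := by rw [pow_one]; exact h2
    exact absurd (Nat.pow_right_injective hp.two_le this) (by norm_num)
  have hd := (exists_zpow_mul_of_card (p := p) (H := Subgroup.center G) (K := Subgroup.upperCentralSeries G 2) hle
    (fun k _ y hy => (inferInstance : (Subgroup.center G).Normal).conj_mem y hy k)
    (by rw [h1, h2]; ring) hv2 hv1).1
  have hfc : ∀ g, v * g * v⁻¹ * g⁻¹ ∈ Subgroup.center G := by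
    intro g
    have := (Subgroup.mem_upperCentralSeries_succ_iff (n := 1)).1 hv2 g
    rwa [Subgroup.upperCentralSeries_one, commutatorElement_def] at this
  let f : G →* G := MonoidHom.mk' (fun g => v * g * v⁻¹ * g⁻¹) (by
    intro a b
    have hc := Subgroup.mem_center_iff.1 (hfc b) a⁻¹
    show v * (a * b) * v⁻¹ * (a * b)⁻¹ = v * a * v⁻¹ * a⁻¹ * (v * b * v⁻¹ * b⁻¹)
    calc v * (a * b) * v⁻¹ * (a * b)⁻¹ = v * a * v⁻¹ * ((v * b * v⁻¹ * b⁻¹) * a⁻¹) := by group
      _ = v * a * v⁻¹ * (a⁻¹ * (v * b * v⁻¹ * b⁻¹)) := by rw [hc]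
      _ = _ := by group)
  have hf : ∀ g, f g = v * g * v⁻¹ * g⁻¹ := fun g => rfl
  have hker : ∀ g, f g = 1 → g ∈ Subgroup.centralizer (Subgroup.upperCentralSeries G 2 : Set G) := by
    intro g hg
    rw [hf] at hg
    have hvg : Commute v g := by
      show v * g = g * v
      have : v * g = (v * g * v⁻¹ * g⁻¹) * (g * v) := by group
      rw [this, hg, one_mul]
    rw [Subgroup.mem_centralizer_iff]
    intro y hy
    obtain ⟨i, w, hw, rfl⟩ := hd y hy
    have hw' : Commute w g := (Subgroup.mem_center_iff.1 hw g).symm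
    exact ((hvg.zpow_left i).mul_left hw').eq
  constructor
  · intro htop
    apply hv1
    rw [Subgroup.mem_center_iff]
    intro g
    have hg : g ∈ Subgroup.centralizer (Subgroup.upperCentralSeries G 2 : Set G) := htop ▸ Subgroup.mem_top g
    exact ((Subgroup.mem_centralizer_iff.1 hg) v hv2).symm
  · intro Q hQ
    obtain ⟨q, hqQ, hqC⟩ := SetLike.exists_of_lt hQ
    have hfq : f q ≠ 1 := fun h => hqC (hker q h)
    rw [eq_top_iff]
    intro s _
    obtain ⟨k, hk⟩ := Subgroup.mem_zpowers_iff.1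
      (mem_zpowers_of_card_prime hp h1 (hfc q) hfq (hfc s))
    have h3 : f (s * (q ^ k)⁻¹) = 1 := by
      rw [map_mul, map_inv, map_zpow]
      show f s * _ = 1
      rw [hf s, ← hk]
      exact mul_inv_cancel _
    have h4 := hQ.le (hker _ h3)
    have h5 : s = s * (q ^ k)⁻¹ * q ^ k := by group
    rw [h5]
    exact Q.mul_mem h4 (Q.zpow_mem hqQ k)

end Cfsg.Agent.Fus
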