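import Mathlib
import Cfsg.Agent.Lib.Helper27.CoprimeAut2
import Cfsg.Agent.H1.Meta10

/-!
Group-theoretic lemmas for strongly closed metacyclic subgroups (S5234).
-/

set_option autoImplicit false

namespace Cfsg.Agent.Fus

theorem isMetacyclic_of_surjective {G K : Type*} [Group G] [Group K] (f : G →* K)
    (hf : Function.Surjective f) (h : Cfsg.IsMetacyclic G) : Cfsg.IsMetacyclic K := by
  obtain ⟨N, hN, hc, hq⟩ := h
  refine ⟨N.map f, hN.map f hf, ?_, ?_⟩
  · exact isCyclic_of_surjective (f.subgroupMap N) (f.subgroupMap_surjective N)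
  · have := hN.map f hf
    let g : G ⧸ N →* K ⧸ N.map f := QuotientGroup.map N (N.map f) f (Subgroup.le_comap_map f N)
    refine isCyclic_of_surjective g ?_
    intro y
    obtain ⟨k, rfl⟩ := QuotientGroup.mk_surjective y
    obtain ⟨x, rfl⟩ := hf k
    exact ⟨(x : G ⧸ N), rfl⟩

/-- An automorphism of a finite `p`-group, `p` odd, inverting all elements of order dividing `p`
forces the group to be abelian. -/
theorem comm_of_aut_inverts_small {G : Type*} [Group G] [Finite G] {p : ℕ} [Fact p.Prime]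
    (hG : IsPGroup p G) (hp2 : p ≠ 2) (σ : MulAut G) (h : ∀ x : G, x ^ p = 1 → σ x = x⁻¹) :
    ∀ a b : G, a * b = b * a := by
  have hp : p.Prime := Fact.out
  have hpow : ∀ (n : ℕ) (x : G), x ^ p = 1 → (σ ^ (2 * n)) x = x ∧ (σ ^ (2 * n + 1)) x = x⁻¹ := by
    intro n
    induction n with
    | zero =>
      intro x hx
      exact ⟨by simp, by simpa using h x hx⟩
    | succ n ih =>
      intro x hx
      have h1 : (σ ^ (2 * (n + 1))) x = x := by
        have e : 2 * (n + 1) = 1 + (2 * n + 1) := by ring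
        rw [e, pow_add, MulAut.mul_apply, (ih x hx).2, pow_one, h _ (by rw [inv_pow, hx, inv_one]), inv_inv]
      refine ⟨h1, ?_⟩
      rw [add_comm, pow_add, MulAut.mul_apply, h1, pow_one, h x hx]
  have ho : orderOf σ ≠ 0 := (orderOf_pos σ).ne'
  obtain ⟨k, m, hm, hkm⟩ := Nat.exists_eq_pow_mul_and_not_dvd ho p hp.ne_one
  set τ := σ ^ (p ^ k) with hτ
  have hoddp : Odd (p ^ k) := (hp.odd_of_ne_two hp2).pow
  obtain ⟨j, hj⟩ := hoddp
  have hτinv : ∀ x : G, x ^ p = 1 → τ x = x⁻¹ := by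
    intro x hx
    rw [hτ, hj]
    exact (hpow j x hx).2
  have hτ2 : τ ^ 2 = 1 := by
    apply Cfsg.Agent.Lib.Helper27.aut_eq_one_of_fixes_small hG (Or.inl ⟨hp2, rfl⟩)
    · have h1 : (τ ^ 2) ^ m = 1 := by
        have e : p ^ k * (2 * m) = orderOf σ * 2 := by rw [hkm]; ring
        rw [hτ, ← pow_mul, ← pow_mul, e, pow_mul, pow_orderOf_eq_one, one_pow]
      have h2 := orderOf_dvd_of_pow_eq_one h1
      exact Nat.Coprime.coprime_dvd_left h2 ((Nat.Prime.coprime_iff_not_dvd hp).2 hm).symm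
    · intro x hx
      rw [pow_two, MulAut.mul_apply, hτinv x hx, hτinv _ (by rw [inv_pow, hx, inv_one]), inv_inv]
  have hτ2' : ∀ x : G, τ (τ x) = x := fun x => by
    have := congrArg (fun w : MulAut G => w x) hτ2
    simpa [pow_two] using this
  have hfix : ∀ y : G, τ y = y → y = 1 := by
    intro y hy
    by_contra hy1
    obtain ⟨x₀, hx₀, hx₀p⟩ := Cfsg.H1.exists_orderOf_eq_prime_mem_zpowers hG hy1
    obtain ⟨i, rfl⟩ := Subgroup.mem_zpowers_iff.1 hx₀
    have h1 : τ (y ^ i) = y ^ i := by rw [map_zpow, hy]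
    have h2 : τ (y ^ i) = (y ^ i)⁻¹ := hτinv _ (by rw [← hx₀p]; exact pow_orderOf_eq_one _)
    have h3 : (y ^ i) ^ 2 = 1 := by
      rw [pow_two]
      nth_rewrite 1 [← h1]
      rw [h2, inv_mul_cancel]
    have h4 := orderOf_dvd_of_pow_eq_one h3
    rw [hx₀p] at h4
    exact hp2 ((Nat.prime_dvd_prime_iff_eq hp Nat.prime_two).1 h4)
  have hinj : Function.Injective (fun x : G => x⁻¹ * τ x) := by
    intro x y hxy
    have hxy' : x⁻¹ * τ x = y⁻¹ * τ y := hxy
    have h1 : τ (y * x⁻¹) = y * x⁻¹ := by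
      rw [map_mul, map_inv]
      calc τ y * (τ x)⁻¹ = y * (y⁻¹ * τ y) * (τ x)⁻¹ := by group
        _ = y * (x⁻¹ * τ x) * (τ x)⁻¹ := by rw [hxy']
        _ = y * x⁻¹ := by group
    have h2 := hfix _ h1
    exact (mul_inv_eq_one.1 h2).symm
  have hsurj := Finite.surjective_of_injective hinj
  have hall : ∀ g : G, τ g = g⁻¹ := by
    intro g
    obtain ⟨x, rfl⟩ := hsurj g
    show τ (x⁻¹ * τ x) = (x⁻¹ * τ x)⁻¹
    rw [map_mul, map_inv, hτ2', mul_inv_rev, inv_inv]
  intro a b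
  have h1 : τ (a * b) = τ a * τ b := map_mul _ _ _
  rw [hall, hall, hall, mul_inv_rev] at h1
  have h2 := congrArg (fun w => w⁻¹) h1
  simpa using h2

theorem exists_zpow_mul_zpow_comm {V : Type*} [CommGroup V] [Finite V] {p : ℕ} [Fact p.Prime]
    (hcard : Nat.card V = p ^ 2) (hexp : ∀ m : V, m ^ p = 1) (r y : V) (hr : r ≠ 1)
    (hy : y ∉ Subgroup.zpowers r) : ∀ m : V, ∃ i j : ℤ, m = r ^ i * y ^ j := by
  have hp : p.Prime := Fact.out
  set H := Subgroup.zpowers r ⊔ Subgroup.zpowers y with hH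
  have h1 : Nat.card (Subgroup.zpowers r) = p := by
    rw [Nat.card_zpowers, orderOf_eq_prime (hexp r) hr]
  have hlt : Subgroup.zpowers r < H := by
    refine lt_of_le_of_ne le_sup_left ?_
    intro e
    apply hy
    rw [e]
    exact (le_sup_right : Subgroup.zpowers y ≤ H) (Subgroup.mem_zpowers y)
  have h2 : Nat.card (Subgroup.zpowers r) < Nat.card H := by
    by_contra hcon
    push Not at hcon
    exact hlt.ne (Subgroup.eq_of_le_of_card_ge hlt.le hcon)
  have h3 : Nat.card H ∣ p ^ 2 := hcard ▸ Subgroup.card_subgroup_dvd_card H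
  obtain ⟨k, hk, hk'⟩ := (Nat.dvd_prime_pow hp).1 h3
  have hk2 : k = 2 := by
    rw [h1, hk'] at h2
    have : 1 < k := by
      by_contra hc
      push Not at hc
      have := Nat.pow_le_pow_right hp.pos hc
      rw [pow_one] at this
      omega
    omega
  have htop : H = ⊤ := by
    apply Subgroup.eq_top_of_card_eq
    rw [hk', hk2, hcard]
  intro m
  have hm : m ∈ H := htop ▸ Subgroup.mem_top m
  obtain ⟨a, ha, b, hb, rfl⟩ := Subgroup.mem_sup.1 hm
  obtain ⟨i, rfl⟩ := Subgroup.mem_zpowers_iff.1 ha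
  obtain ⟨j, rfl⟩ := Subgroup.mem_zpowers_iff.1 hb
  exact ⟨i, j, rfl⟩

theorem exists_zpow_mul_zpow {V : Type*} [Group V] [Finite V] (hc : ∀ a b : V, a * b = b * a)
    {p : ℕ} [Fact p.Prime]
    (hcard : Nat.card V = p ^ 2) (hexp : ∀ m : V, m ^ p = 1) (r y : V) (hr : r ≠ 1)
    (hy : y ∉ Subgroup.zpowers r) : ∀ m : V, ∃ i j : ℤ, m = r ^ i * y ^ j := by
  let _ : CommGroup V := { ‹Group V› with mul_comm := hc }
  exact exists_zpow_mul_zpow_comm hcard hexp r y hr hy

end Cfsg.Agent.Fus
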