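import Cfsg.Agent.Fus.Model
import Cfsg.Agent.Fus.KSat2
import Cfsg.Agent.Fus.Normal2

/-!
Normal subgroups of a constrained system are normal in its models; `N_F(R)` for `R` centric radical.
-/

set_option autoImplicit false

namespace Cfsg
namespace FusionSystem

open Cfsg.Agent.Fus

variable {Ω : Type*} [Group Ω] {S : Subgroup Ω} {G : Type*} [Group G]

/-- A subgroup normal in the fusion system is normal in every model. -/
theorem IsModel.map_normal {F : FusionSystem S} {p : ℕ} [Fact p.Prime] {ι : S →* G}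
    (hG : F.IsModel p G ι) {Q : Subgroup Ω} (hQ : F.IsNormal Q) : ((Q.subgroupOf S).map ι).Normal := by
  obtain ⟨hfin, hF, ⟨T, hT⟩, hC⟩ := hG
  have hn : (pCore p G).Normal := pCore_normal' p G
  have hle : pCore p G ≤ ι.range := hT ▸ pCore_le_sylow T
  refine ⟨?_⟩
  rintro _ ⟨q, hq, rfl⟩ g
  have hU₀ : preimageAlong ι (pCore p G) ≤ S := preimageAlong_le
  have hconj : ∀ x : preimageAlong ι (pCore p G), g * ι ⟨x, hU₀ x.2⟩ * g⁻¹ ∈ ι.range := by
    intro x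
    obtain ⟨hx, hx'⟩ := mem_preimageAlong.1 x.2
    exact hle (hn.conj_mem _ hx' g)
  have hφ := hF.realHom_mem_hom hU₀ g hconj
  obtain ⟨ψ, hψ, hψφ, hmap⟩ := hQ.2 _ _ hφ
  obtain ⟨h, hh⟩ := hF.exists_elt hψ
  have hu : h⁻¹ * g ∈ pCore p G := by
    apply hC
    rw [Subgroup.mem_centralizer_iff]
    intro n hn'
    obtain ⟨y, rfl⟩ := hle hn'
    have hy : (y : Ω) ∈ preimageAlong ι (pCore p G) := mem_preimageAlong.2 ⟨y.2, hn'⟩
    have h1 := hh (Subgroup.inclusion le_sup_left ⟨y, hy⟩)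
    have h2 := apply_realHom ι hF.1 hU₀ g hconj ⟨y, hy⟩ (realHom_mem ι hF.1 hU₀ g hconj _)
    have h3 : (⟨ψ (Subgroup.inclusion le_sup_left ⟨y, hy⟩), (F.le_of_mem hψ).2 _⟩ : S) =
        ⟨realHom ι hF.1 hU₀ g hconj ⟨y, hy⟩, realHom_mem ι hF.1 hU₀ g hconj _⟩ := Subtype.ext (hψφ _)
    rw [h3, h2] at h1
    have h4 : g * ι y * g⁻¹ = h * ι y * h⁻¹ := h1
    calc ι y * (h⁻¹ * g) = h⁻¹ * (h * ι y * h⁻¹) * g := by group
      _ = h⁻¹ * (g * ι y * g⁻¹) * g := by rw [h4]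
      _ = h⁻¹ * g * ι y := by group
  obtain ⟨s, hs⟩ := hle hu
  have hq' : (q : Ω) ∈ Q := Subgroup.mem_subgroupOf.1 hq
  have hsq : (s : Ω) * q * (s : Ω)⁻¹ ∈ Q := hQ.stronglyClosed.conj_mem s.2 hq'
  have h5 := hh (Subgroup.inclusion le_sup_right ⟨_, hsq⟩)
  have h6 : ψ (Subgroup.inclusion le_sup_right ⟨_, hsq⟩) ∈ Q :=
    hmap.le ⟨_, Subgroup.mem_subgroupOf.2 hsq, rfl⟩
  refine ⟨⟨_, (F.le_of_mem hψ).2 (Subgroup.inclusion le_sup_right ⟨_, hsq⟩)⟩, Subgroup.mem_subgroupOf.2 h6, ?_⟩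
  rw [h5]
  have h7 : (⟨((Subgroup.inclusion (le_sup_right : Q ≤ preimageAlong ι (pCore p G) ⊔ Q)
      ⟨(s : Ω) * q * (s : Ω)⁻¹, hsq⟩ : _) : Ω), (F.le_of_mem hψ).1 (Subgroup.inclusion le_sup_right
        (⟨_, hsq⟩ : Q)).2⟩ : S) = s * q * s⁻¹ := Subtype.ext rfl
  rw [h7, map_mul, map_mul, map_inv, hs]
  group

theorem IsNormalizerSystem.isNormal {F : FusionSystem S} {Q : Subgroup Ω} (hQ : Q ≤ S)
    {E : FusionSystem (normalizerIn S Q)} (hE : F.IsNormalizerSystem Q E) : E.IsNormal Q := by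
  refine ⟨le_normalizerIn hQ, fun P φ hφ => ?_⟩
  rw [hE P] at hφ
  obtain ⟨hφF, hP, hφN, ψ, hψ, hψφ, hmap⟩ := hφ
  refine ⟨ψ, ?_, hψφ, hmap⟩
  rw [hE (P ⊔ Q)]
  have hle : (P ⊔ Q) ⊔ Q ≤ P ⊔ Q := sup_le le_rfl le_sup_right
  refine ⟨hψ, sup_le hP (le_normalizerIn hQ), ?_, ψ.comp (Subgroup.inclusion hle), F.restrict_mem hψ hle,
    fun x => ?_, ?_⟩
  · apply forall_mem_sup ((normalizerIn S Q).comap ψ)
    · intro x
      show ψ _ ∈ normalizerIn S Q
      rw [hψφ]; exact hφN x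
    · intro x
      show ψ _ ∈ normalizerIn S Q
      apply le_normalizerIn hQ
      exact hmap.le ⟨_, Subgroup.mem_subgroupOf.2 x.2, rfl⟩
  · show ψ _ = ψ x
    congr 1
  · conv_rhs => rw [← hmap]
    ext y
    constructor
    · rintro ⟨z, hz, rfl⟩
      exact ⟨Subgroup.inclusion hle z, hz, rfl⟩
    · rintro ⟨z, hz, rfl⟩
      exact ⟨Subgroup.inclusion le_sup_left z, hz, by show ψ _ = ψ z; congr 1⟩

theorem IsNormalizerSystem.autGroup_eq {F : FusionSystem S} {Q : Subgroup Ω} (hQ : Q ≤ S)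
    {E : FusionSystem (normalizerIn S Q)} (hE : F.IsNormalizerSystem Q E) : E.autGroup Q = F.autGroup Q := by
  ext α
  rw [E.mem_autGroup_iff (le_normalizerIn hQ), F.mem_autGroup_iff hQ]
  show Q.subtype.comp α.toMonoidHom ∈ E.Hom Q ↔ Q.subtype.comp α.toMonoidHom ∈ F.Hom Q
  rw [hE Q]
  constructor
  · exact fun h => h.1
  · intro h
    have hle : Q ⊔ Q ≤ Q := sup_le le_rfl le_rfl
    refine ⟨h, le_normalizerIn hQ, fun x => le_normalizerIn hQ (α x).2, _, F.restrict_mem h hle,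
      fun x => ?_, ?_⟩
    · show ((α _ : Q) : Ω) = α x
      congr 2
    · ext y
      constructor
      · rintro ⟨z, -, rfl⟩
        exact (α _).2
      · intro hy
        refine ⟨Subgroup.inclusion le_sup_left (α⁻¹ ⟨y, hy⟩), Subgroup.mem_subgroupOf.2 (α⁻¹ ⟨y, hy⟩).2, ?_⟩
        show ((α (Subgroup.inclusion hle (Subgroup.inclusion le_sup_left (α⁻¹ ⟨y, hy⟩))) : Q) : Ω) = y
        have : Subgroup.inclusion hle (Subgroup.inclusion le_sup_left (α⁻¹ ⟨y, hy⟩)) = α⁻¹ ⟨y, hy⟩ :=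
          Subtype.ext rfl
        rw [this, MulAut.apply_inv_self]

/-- S5126. -/
theorem IsNormalizerSystem.constrained_of_centric_radical {F : FusionSystem S} [Finite S] {p : ℕ}
    [Fact p.Prime] (hS : IsPGroup p S) (hF : F.IsSaturated p) {R : Subgroup Ω}
    (hRn : F.IsFullyNormalized R) (hRc : F.IsCentric R) (hRr : F.IsRadical p R)
    {E : FusionSystem (normalizerIn S R)} (hE : F.IsNormalizerSystem R E) (ι : ↥(normalizerIn S R) →* G) :
    E.IsConstrained p ∧ (E.IsModel p G ι →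
      (pCore p G : Subgroup G) = (R.subgroupOf (normalizerIn S R)).map ι) := by
  have hR : R ≤ S := hRn.1
  have hfin : Finite (normalizerIn S R) := finite_of_le normalizerIn_le
  have hNp : IsPGroup p (normalizerIn S R) := hS.to_le normalizerIn_le
  have hsat := hE.isSaturated hS hF hRn
  have hnor := hE.isNormal hR
  have hcen : E.IsCentric R := by
    refine ⟨le_normalizerIn hR, fun Q₂ hQ₂ => ?_⟩
    rw [hnor.stronglyClosed.eq_of_isConj hQ₂]
    exact (inf_le_inf_right _ normalizerIn_le).trans (hRc.2 R (IsConj.refl F hR))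
  have hrad : E.IsRadical p R := by
    refine ⟨le_normalizerIn hR, ?_⟩
    rw [hE.autGroup_eq hR]
    exact hRr.2
  refine ⟨⟨hsat, R, hnor, hcen⟩, fun hG => ?_⟩
  have hn := hG.map_normal hnor
  obtain ⟨hfinG, hreal, ⟨T, hT⟩, hC⟩ := hG
  have hnc : (pCore p G).Normal := pCore_normal' p G
  have hle : pCore p G ≤ ι.range := hT ▸ pCore_le_sylow T
  apply le_antisymm
  · have h1 := (hreal.isNormal_preimage (pCore p G) hle).le_of_centric_radical hNp hcen hrad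
    intro u hu
    obtain ⟨s, rfl⟩ := hle hu
    exact ⟨s, Subgroup.mem_subgroupOf.2 (h1 (mem_preimageAlong.2 ⟨s.2, hu⟩)), rfl⟩
  · apply le_pCore hn
    exact (hNp.to_subgroup _).map _

end FusionSystem
end Cfsg
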