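import Cfsg.Agent.Fus.Lift
import Cfsg.Agent.Fus.ModT
import Cfsg.Agent.Fus.Frattini

/-!
The strong invariance condition (AKO I.6.4).
-/

set_option autoImplicit false

namespace Cfsg
namespace FusionSystem

open Cfsg.Agent.Fus Cfsg.Agent.Lib.Helper27.Fus

variable {Ω : Type*} [Group Ω] {S T : Subgroup Ω}

theorem le_frattiniSys_of_normal (F : FusionSystem S) [Finite S] {p : ℕ} [Fact p.Prime]
    (hS : IsPGroup p S) (hF : F.IsSaturated p) (hT : F.StronglyClosed T) (E : FusionSystem T)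
    (hinv : E.AutInvariantIn F)
    (hN : ∀ R : Subgroup Ω, R ≤ T → ∀ γ ∈ E.autGroup R, ∀ β ∈ F.autGroup R, β * γ * β⁻¹ ∈ E.autGroup R) :
    F ≤ F.frattiniSys hT E hinv := by
  refine F.alperin_induction _ hS hF (F.autGroup_le_frattiniSys_of_le hT E hinv le_rfl hT.1)
    (fun P hP hbig => ?_)
  have hPle : P ≤ S := hP.1.1
  by_cases hTP : T ≤ P
  · exact F.autGroup_le_frattiniSys_of_le hT E hinv hPle hTP
  have : Finite P := finite_of_le hPle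
  obtain ⟨-, hfa, hrec⟩ := hF.fullyNormalized F hS hP.2.1
  obtain ⟨Φ, hΦ⟩ := exists_restrict_aut_hom (inf_le_left : P ⊓ T ≤ P) (F.autGroup P)
    (fun γ hγ x hx => ⟨(γ x).2, hT.aut_mem hPle hγ hx.2⟩)
  have hΦF : ∀ a : F.autGroup P, Φ a ∈ F.autGroup (P ⊓ T) :=
    fun a => F.restrict_mem_autGroup inf_le_left hPle a.2 _ (hΦ a)
  have hn : ∀ k ∈ ((E.autGroup (P ⊓ T)).comap Φ).map (F.autGroup P).subtype, ∀ a ∈ F.autGroup P,
      a * k * a⁻¹ ∈ ((E.autGroup (P ⊓ T)).comap Φ).map (F.autGroup P).subtype := by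
    rintro _ ⟨k', hk', rfl⟩ a ha
    refine ⟨⟨a, ha⟩ * k' * ⟨a, ha⟩⁻¹, ?_, rfl⟩
    show Φ (⟨a, ha⟩ * k' * ⟨a, ha⟩⁻¹) ∈ E.autGroup (P ⊓ T)
    rw [map_mul, map_mul, map_inv]
    exact hN _ inf_le_right _ hk' _ (hΦF _)
  have hKG : ∀ k ∈ ((E.autGroup (P ⊓ T)).comap Φ).map (F.autGroup P).subtype,
      k ∈ (F.frattiniSys hT E hinv).autGroup P := by
    rintro _ ⟨k', hk', rfl⟩
    rw [mem_autGroup_iff _ hPle]
    apply mem_frattiniSys_of_mem ((F.mem_autGroup_iff hPle _).1 k'.2)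
    have h1 := (E.mem_autGroup_iff inf_le_right _).1 hk'
    have h2 : (P.subtype.comp (k' : MulAut P).toMonoidHom).comp
        (Subgroup.inclusion (inf_le_left : P ⊓ T ≤ P)) = (P ⊓ T).subtype.comp (Φ k').toMonoidHom := by
      ext x; exact (hΦ k' x).symm
    rw [h2]; exact h1
  intro β hβ
  obtain ⟨κ, hκ, hκβ⟩ := hfa.isSylowIn.frattini (F.autInducedBy_le_autGroup hPle)
    (Subgroup.map_subtype_le _) hn hβ
  obtain ⟨t, htT, htN, htP⟩ := hT.exists_normalizer_not_mem hS hPle hTP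
  have htS := hT.1 htT
  have hct : conjAut t htN ∈ autInducedBy S P ⊓ ((E.autGroup (P ⊓ T)).comap Φ).map (F.autGroup P).subtype := by
    refine ⟨conjAut_mem htN htS, ⟨⟨conjAut t htN, F.autInducedBy_le_autGroup hPle (conjAut_mem htN htS)⟩,
      ?_, rfl⟩⟩
    apply E.autInducedBy_le_autGroup inf_le_right
    exact (mem_autInducedBy_iff _).2 ⟨t, htT, fun x => hΦ _ x⟩
  have h1 := (hκβ _ hct).1
  have hκA : κ ∈ F.autGroup P := Subgroup.map_subtype_le _ hκ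
  have hν : κ * β ∈ F.autGroup P := Subgroup.mul_mem _ hκA hβ
  have hνm := (F.mem_autGroup_iff hPle _).1 hν
  have htext : t ∈ extender S P (P.subtype.comp (κ * β).toMonoidHom) := by
    rw [mem_extender_iff']
    obtain ⟨k, hk, hk'⟩ := (mem_autInducedBy_iff _).1 h1
    refine ⟨htS, htN, k, hk, fun x y hy => ?_⟩
    have h2 := hk' ((κ * β) x)
    have h3 : y = conjAut t htN x := Subtype.ext hy
    show (((κ * β) y : P) : Ω) = k * (((κ * β) x : P) : Ω) * k⁻¹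
    rw [← h2, h3]
    simp [MulAut.mul_apply]
  obtain ⟨ψ, hψ, hψe⟩ := hrec.exists_extension F (κ * β) hνm le_rfl
  have hlt : P < extender S P (P.subtype.comp (κ * β).toMonoidHom) :=
    lt_of_le_of_ne (le_extender _ hPle hPle) (fun h => htP (h ▸ htext))
  have hψG := hbig _ (card_lt_of_lt ((extender_le_normalizerIn _).trans normalizerIn_le) hlt) hψ
  have hνG : κ * β ∈ (F.frattiniSys hT E hinv).autGroup P := by
    rw [mem_autGroup_iff _ hPle]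
    have h4 := (F.frattiniSys hT E hinv).restrict_mem hψG hlt.le
    have h5 : (S.subtype.comp ψ).comp (Subgroup.inclusion hlt.le) = P.subtype.comp (κ * β).toMonoidHom := by
      ext x; exact hψe x _ rfl
    show P.subtype.comp (κ * β).toMonoidHom ∈ _
    rw [← h5]; exact h4
  have h6 : β = κ⁻¹ * (κ * β) := by group
  rw [h6]
  exact Subgroup.mul_mem _ (Subgroup.inv_mem _ (hKG κ hκ)) hνG

/-- S5119. -/
theorem isInvariantIn_iff_strong (F : FusionSystem S) [Finite S] {p : ℕ} [Fact p.Prime]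
    (hS : IsPGroup p S) (hF : F.IsSaturated p) (E : FusionSystem T) (hE : E.IsSubsystemOf F)
    (hT : F.StronglyClosed T) :
    E.IsInvariantIn F ↔ ∀ (P Q : Subgroup Ω) (hPQ : P ≤ Q) (_ : Q ≤ T) (φ : P →* Ω) (_ : φ ∈ E.Hom P)
      (hφQ : ∀ x : P, φ x ∈ Q) (ψ : Q →* Ω) (_ : ψ ∈ F.Hom Q), ∃ χ ∈ E.Hom ((P.subgroupOf Q).map ψ),
      ∀ (x : P) (hx : ψ (Subgroup.inclusion hPQ x) ∈ (P.subgroupOf Q).map ψ),
        χ ⟨ψ (Subgroup.inclusion hPQ x), hx⟩ = ψ ⟨φ x, hφQ x⟩ := by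
  constructor
  · rintro ⟨-, -, hinv, hfr⟩ P Q hPQ hQT φ hφ hφQ ψ hψ
    obtain ⟨α, hα, ψ₀, hψ₀, hψα⟩ := hfr Q hQT ψ hψ
    have hψ₀T := (E.le_of_mem hψ₀).2
    have hres := E.restrict_mem hψ₀ hPQ
    obtain ⟨i₀, hi₀, hi₀x⟩ := E.inv_mem hres
    have h1 : ∀ y, i₀ y ∈ P := by
      rintro ⟨_, x, rfl⟩
      rw [hi₀x]; exact x.2
    have h2 := E.comp_mem hi₀ hφ h1
    have h3 := E.comp_mem h2 hψ₀ (fun y => hφQ _)
    have hrT := (E.le_of_mem hi₀).1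
    obtain ⟨χ', hχ', hχ'x⟩ := hinv _ hrT _ h3 α hα
    have heq : (((ψ₀.comp (Subgroup.inclusion hPQ)).range).subgroupOf T).map (T.subtype.comp α.toMonoidHom) =
        (P.subgroupOf Q).map ψ := by
      ext y
      constructor
      · rintro ⟨t, ht, rfl⟩
        obtain ⟨x, hx⟩ := Subgroup.mem_subgroupOf.1 ht
        refine ⟨Subgroup.inclusion hPQ x, Subgroup.mem_subgroupOf.2 x.2, ?_⟩
        rw [hψα _ (hψ₀T _)]
        show ((α _ : T) : Ω) = ((α t : T) : Ω)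
        congr 2
        exact Subtype.ext hx
      · rintro ⟨z, hz, rfl⟩
        rw [hψα _ (hψ₀T _)]
        exact apply_mem_imgAut α (x := ⟨ψ₀ z, hψ₀T z⟩) ⟨⟨z, Subgroup.mem_subgroupOf.1 hz⟩, rfl⟩
    refine ⟨χ'.comp (Subgroup.inclusion heq.ge), E.hom_congr heq hχ' _ (fun _ _ _ => rfl), ?_⟩
    intro x hx
    have h4 := hχ'x ⟨ψ₀ (Subgroup.inclusion hPQ x), ⟨x, rfl⟩⟩ (hψ₀T _)
      (apply_mem_imgAut α (x := ⟨ψ₀ (Subgroup.inclusion hPQ x), hψ₀T _⟩) ⟨x, rfl⟩)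
    have h5 : (Subgroup.inclusion heq.ge ⟨ψ (Subgroup.inclusion hPQ x), hx⟩ : ↥((((ψ₀.comp
        (Subgroup.inclusion hPQ)).range).subgroupOf T).map (T.subtype.comp α.toMonoidHom))) =
        ⟨((α ⟨ψ₀ (Subgroup.inclusion hPQ x), hψ₀T _⟩ : T) : Ω),
          apply_mem_imgAut α (x := ⟨ψ₀ (Subgroup.inclusion hPQ x), hψ₀T _⟩) ⟨x, rfl⟩⟩ :=
      Subtype.ext (hψα _ _)
    show χ' _ = _
    rw [h5, h4, hψα _ (hψ₀T _)]
    congr 2
    apply Subtype.ext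
    show ψ₀ ⟨φ ⟨i₀ ⟨ψ₀ (Subgroup.inclusion hPQ x), ⟨x, rfl⟩⟩, h1 _⟩, hφQ _⟩ = ψ₀ ⟨φ x, hφQ x⟩
    congr 3
    exact Subtype.ext (hi₀x x)
  · intro hSI
    have hinv : E.AutInvariantIn F := by
      intro P hPT φ hφ α hα
      obtain ⟨χ, hχ, hχx⟩ := hSI P T hPT le_rfl φ hφ (E.le_of_mem hφ).2 _ ((F.mem_autGroup_iff hT.1 α).1 hα)
      exact ⟨χ, hχ, fun x _ hαx => hχx x hαx⟩
    have hN : ∀ R : Subgroup Ω, R ≤ T → ∀ γ ∈ E.autGroup R, ∀ β ∈ F.autGroup R,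
        β * γ * β⁻¹ ∈ E.autGroup R := by
      intro R hR γ hγ β hβ
      obtain ⟨χ, hχ, hχx⟩ := hSI R R le_rfl hR _ ((E.mem_autGroup_iff hR γ).1 hγ) (fun x => (γ x).2) _
        ((F.mem_autGroup_iff (hR.trans hT.1) β).1 hβ)
      rw [E.mem_autGroup_iff hR]
      have heq : (R.subgroupOf R).map (R.subtype.comp β.toMonoidHom) = R := by
        ext y
        constructor
        · rintro ⟨z, -, rfl⟩
          exact (β z).2
        · intro hy
          exact ⟨β⁻¹ ⟨y, hy⟩, Subgroup.mem_subgroupOf.2 (β⁻¹ ⟨y, hy⟩).2, by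
            show ((β (β⁻¹ ⟨y, hy⟩) : R) : Ω) = y
            rw [MulAut.apply_inv_self]⟩
      refine E.hom_congr heq hχ _ ?_
      intro y hy hy'
      have h1 := hχx (β⁻¹ ⟨y, hy'⟩) (by
        show ((β (β⁻¹ ⟨y, hy'⟩) : R) : Ω) ∈ _
        rw [MulAut.apply_inv_self]; exact hy)
      have h2 : (⟨(R.subtype.comp β.toMonoidHom) (Subgroup.inclusion le_rfl (β⁻¹ ⟨y, hy'⟩)), by
          show ((β (β⁻¹ ⟨y, hy'⟩) : R) : Ω) ∈ _
          rw [MulAut.apply_inv_self]; exact hy⟩ :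
          ↥((R.subgroupOf R).map (R.subtype.comp β.toMonoidHom))) = ⟨y, hy⟩ := by
        apply Subtype.ext
        show ((β (β⁻¹ ⟨y, hy'⟩) : R) : Ω) = y
        rw [MulAut.apply_inv_self]
      rw [h2] at h1
      rw [h1]
      rfl
    exact ⟨hE, hT, hinv, frattini_of_le (F.le_frattiniSys_of_normal hS hF hT E hinv hN)⟩

end FusionSystem
end Cfsg
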