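import Cfsg.Agent.Fus.Quot2
import Cfsg.Agent.Fus.SylowIn
import Mathlib.GroupTheory.Transfer
import Mathlib.GroupTheory.Frattini

/-!
Group-theoretic lemmas for S5222.
-/

set_option autoImplicit false

namespace Cfsg
namespace Agent
namespace Fus

open FusionSystem
open scoped Pointwise

/-- A consequence of Burnside's transfer theorem and the Frattini argument. -/
theorem exists_normalized_coprime_subgroup {A : Type*} [Group A] [Finite A] {p : ℕ} [Fact p.Prime]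
    (U : Sylow p A) (V : Subgroup A) [hVn : V.Normal] (hVU : V ≤ U)
    (hab : ∀ a ∈ (U : Subgroup A), ∀ b ∈ (U : Subgroup A), a * b * a⁻¹ * b⁻¹ ∈ V)
    (hnon : ∀ U₁ : Subgroup A, U₁ ≤ U → V ⊔ U₁ = U → U₁ = U)
    (hN : Subgroup.normalizer ((U : Subgroup A) : Set A) ≤ U) (hne : (U : Subgroup A) ≠ ⊤) :
    ∃ Y : Subgroup A, Y ≠ ⊥ ∧ (Nat.card Y).Coprime p ∧ (∀ a ∈ Y, ∀ b ∈ Y, a * b = b * a) ∧
      ∀ u ∈ (U : Subgroup A), ∀ y ∈ Y, u * y * u⁻¹ ∈ Y := by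
  have hp : p.Prime := Fact.out
  have hπ := QuotientGroup.mk'_surjective V
  set π := QuotientGroup.mk' V with hπdef
  set Ub : Sylow p (A ⧸ V) := U.mapSurjective hπ with hUb
  have hUbc : (Ub : Subgroup (A ⧸ V)) = (U : Subgroup A).map π := Sylow.coe_mapSurjective _ _
  have hmemU : ∀ x : A, π x ∈ (Ub : Subgroup (A ⧸ V)) → x ∈ (U : Subgroup A) := by
    intro x hx
    rw [hUbc] at hx
    obtain ⟨u, hu, hux⟩ := hx
    have h1 : u⁻¹ * x ∈ V := QuotientGroup.eq.1 hux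
    have h2 := Subgroup.mul_mem _ hu (hVU h1)
    rwa [mul_inv_cancel_left] at h2
  have hP : Subgroup.normalizer ((Ub : Subgroup (A ⧸ V)) : Set (A ⧸ V)) ≤
      Subgroup.centralizer ((Ub : Subgroup (A ⧸ V)) : Set (A ⧸ V)) := by
    intro xb hxb
    obtain ⟨x, rfl⟩ := hπ xb
    have hxU : x ∈ (U : Subgroup A) := by
      apply hN
      apply mem_normalizer_of_finite
      intro u hu
      apply hmemU
      rw [map_mul, map_mul, map_inv]
      exact (Subgroup.mem_normalizer_iff.1 hxb _).1 (by rw [hUbc]; exact ⟨u, hu, rfl⟩)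
    rw [Subgroup.mem_centralizer_iff]
    intro yb hyb
    have hyb' : yb ∈ (Ub : Subgroup (A ⧸ V)) := hyb
    rw [hUbc] at hyb'
    obtain ⟨u, hu, rfl⟩ := hyb'
    rw [← map_mul, ← map_mul]
    apply QuotientGroup.eq.2
    have h1 := hab _ (Subgroup.inv_mem _ hxU) _ (Subgroup.inv_mem _ hu)
    have h2 : x⁻¹ * u⁻¹ * x⁻¹⁻¹ * u⁻¹⁻¹ = (u * x)⁻¹ * (x * u) := by group
    rwa [h2] at h1
  set Kb := (MonoidHom.transferSylow Ub hP).ker with hKb
  have hcompl := MonoidHom.ker_transferSylow_isComplement' Ub hP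
  have hKbp : ¬ p ∣ Nat.card Kb := MonoidHom.not_dvd_card_ker_transferSylow Ub hP
  set K := Kb.comap π with hK
  have hKn : K.Normal := Subgroup.Normal.comap inferInstance π
  have hVK : V ≤ K := by
    intro v hv
    show π v ∈ Kb
    have : π v = 1 := (QuotientGroup.eq_one_iff v).2 hv
    rw [this]; exact Subgroup.one_mem _
  -- `p`-subgroups of `K` lie in `V`
  have hk1 : ∀ x ∈ K, x ∈ (U : Subgroup A) → x ∈ V := by
    intro x hxK hxU
    have h1 := MonoidHom.ker_transferSylow_disjoint Ub hP Ub Ub.2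
    have h2 : π x ∈ Kb ⊓ (Ub : Subgroup (A ⧸ V)) := ⟨hxK, by rw [hUbc]; exact ⟨x, hxU, rfl⟩⟩
    rw [disjoint_iff.1 h1, Subgroup.mem_bot] at h2
    exact (QuotientGroup.eq_one_iff x).1 h2
  -- `A = K U`
  have hk2 : ∀ a : A, ∃ k ∈ K, ∃ u ∈ (U : Subgroup A), a = k * u := by
    intro a
    have h1 : π a ∈ ((Kb : Set (A ⧸ V)) * ((Ub : Subgroup (A ⧸ V)) : Set (A ⧸ V))) := by
      rw [hcompl.mul_eq]; trivial
    obtain ⟨kb, hkb, ub, hub, hkub⟩ := Set.mem_mul.1 h1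
    have hub' : ub ∈ (Ub : Subgroup (A ⧸ V)) := hub
    rw [hUbc] at hub'
    obtain ⟨u, hu, rfl⟩ := hub'
    refine ⟨a * u⁻¹, ?_, u, hu, by group⟩
    show π (a * u⁻¹) ∈ Kb
    rw [map_mul, map_inv, ← hkub, mul_inv_cancel_right]
    exact hkb
  have hKbne : Nat.card Kb ≠ 1 := by
    intro h1
    apply hne
    rw [eq_top_iff]
    intro a _
    obtain ⟨k, hk, u, hu, rfl⟩ := hk2 a
    have h2 : Kb = ⊥ := Subgroup.card_eq_one.1 h1
    have h3 : π k ∈ Kb := hk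
    rw [h2, Subgroup.mem_bot] at h3
    exact Subgroup.mul_mem _ (hVU ((QuotientGroup.eq_one_iff k).1 h3)) hu
  obtain ⟨q, hq, hqK⟩ := Nat.exists_prime_and_dvd hKbne
  have hqp : q ≠ p := fun h => hKbp (h ▸ hqK)
  have : Fact q.Prime := ⟨hq⟩
  have hqK' : q ∣ Nat.card K := by
    have h1 : Kb = K.map π := by rw [hK, Subgroup.map_comap_eq_self_of_surjective hπ]
    rw [h1] at hqK
    exact hqK.trans (Subgroup.card_map_dvd K π)
  obtain ⟨Y₀⟩ : Nonempty (Sylow q K) := inferInstance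
  have hY₀ne := Y₀.ne_bot_of_dvd_card hqK'
  have hfr := Sylow.normalizer_sup_eq_top Y₀
  set Y₁ := (Y₀ : Subgroup K).map K.subtype with hY₁
  set N₁ := Subgroup.normalizer (Y₁ : Set A) with hN₁
  -- a Sylow `p`-subgroup of `N₁` covers `A / K`
  have hfsurj : Function.Surjective ((QuotientGroup.mk' K).comp N₁.subtype) := by
    intro ab
    obtain ⟨a, rfl⟩ := QuotientGroup.mk'_surjective K ab
    have h1 : a ∈ N₁ ⊔ K := by rw [hfr]; trivial
    obtain ⟨n, hn, k, hk, rfl⟩ := Subgroup.mem_sup_of_normal_right.1 h1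
    refine ⟨⟨n, hn⟩, ?_⟩
    apply QuotientGroup.eq.2
    show n⁻¹ * (n * k) ∈ K
    rwa [inv_mul_cancel_left]
  have hAKp : IsPGroup p (A ⧸ K) := by
    refine U.2.of_surjective ((QuotientGroup.mk' K).comp (U : Subgroup A).subtype) ?_
    intro ab
    obtain ⟨a, rfl⟩ := QuotientGroup.mk'_surjective K ab
    obtain ⟨k, hk, u, hu, rfl⟩ := hk2 a
    refine ⟨⟨u, hu⟩, ?_⟩
    apply QuotientGroup.eq.2
    show u⁻¹ * (k * u) ∈ K
    have := hKn.conj_mem k hk u⁻¹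
    simpa [mul_assoc] using this
  obtain ⟨P₁'⟩ : Nonempty (Sylow p N₁) := inferInstance
  have htop : ((P₁'.mapSurjective hfsurj : Sylow p (A ⧸ K)) : Subgroup (A ⧸ K)) = ⊤ := by
    have h1 : IsPGroup p (⊤ : Subgroup (A ⧸ K)) :=
      hAKp.of_injective (Subgroup.subtype _) (Subgroup.subtype_injective _)
    exact ((P₁'.mapSurjective hfsurj).3 h1 le_top).symm
  rw [Sylow.coe_mapSurjective] at htop
  set P₁ := (P₁' : Subgroup N₁).map N₁.subtype with hP₁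
  have hP₁N : P₁ ≤ N₁ := by
    rintro _ ⟨x, -, rfl⟩
    exact x.2
  have hP₁p : IsPGroup p P₁ := P₁'.2.map _
  have hP₁K : ∀ a : A, ∃ n ∈ P₁, ∃ k ∈ K, a = n * k := by
    intro a
    have h1 : QuotientGroup.mk' K a ∈ (P₁' : Subgroup N₁).map ((QuotientGroup.mk' K).comp N₁.subtype) := by
      rw [htop]; trivial
    obtain ⟨n, hn, hna⟩ := h1
    refine ⟨n, ⟨n, hn, rfl⟩, (n : A)⁻¹ * a, QuotientGroup.eq.1 hna, by group⟩
  obtain ⟨g, -, hg⟩ := (isSylowIn_top U).exists_conj_le (le_top : P₁ ≤ ⊤) hP₁p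
  set P₂ := P₁.map (MulAut.conj g).toMonoidHom with hP₂
  set Y₂ := Y₁.map (MulAut.conj g).toMonoidHom with hY₂
  have hP₂U : P₂ ≤ U := by
    rintro _ ⟨x, hx, rfl⟩
    exact hg x hx
  have hP₂Y : ∀ u ∈ P₂, ∀ y ∈ Y₂, u * y * u⁻¹ ∈ Y₂ := by
    rintro _ ⟨n, hn, rfl⟩ _ ⟨y, hy, rfl⟩
    refine ⟨n * y * n⁻¹, (Subgroup.mem_normalizer_iff.1 (hP₁N hn) y).1 hy, ?_⟩
    simp only [MulEquiv.coe_toMonoidHom, MulAut.conj_apply]
    group
  have hsup : V ⊔ P₂ = U := by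
    apply le_antisymm (sup_le hVU hP₂U)
    intro u hu
    obtain ⟨n, hn, k, hk, hnk⟩ := hP₁K (g⁻¹ * u * g)
    have hn' : g * n * g⁻¹ ∈ P₂ := ⟨n, hn, rfl⟩
    have hk' : g * k * g⁻¹ ∈ K := hKn.conj_mem k hk g
    have hu' : u = (g * n * g⁻¹) * (g * k * g⁻¹) := by
      have : g * (g⁻¹ * u * g) * g⁻¹ = g * (n * k) * g⁻¹ := by rw [hnk]
      calc u = g * (g⁻¹ * u * g) * g⁻¹ := by group
        _ = g * (n * k) * g⁻¹ := this
        _ = _ := by group
    have h1 : g * k * g⁻¹ ∈ (U : Subgroup A) := by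
      have h2 := Subgroup.mul_mem _ (Subgroup.inv_mem _ (hP₂U hn')) hu
      rw [hu', inv_mul_cancel_left] at h2
      exact h2
    rw [hu', sup_comm]
    exact Subgroup.mul_mem_sup hn' (hk1 _ hk' h1)
  have hP₂eq := hnon P₂ hP₂U hsup
  have hY₂q : IsPGroup q Y₂ := (Y₀.2.map _).map _
  have hY₂ne : Y₂ ≠ ⊥ := by
    intro h
    apply hY₀ne
    rw [hY₂, Subgroup.map_eq_bot_iff_of_injective _ (MulEquiv.injective _), hY₁,
      Subgroup.map_eq_bot_iff_of_injective _ (Subgroup.subtype_injective _)] at h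
    exact h
  have : Nontrivial Y₂ := (Subgroup.nontrivial_iff_ne_bot _).2 hY₂ne
  have hcen := hY₂q.center_nontrivial
  obtain ⟨z, hz⟩ := exists_ne (1 : Subgroup.center Y₂)
  refine ⟨Y₂ ⊓ Subgroup.centralizer (Y₂ : Set A), ?_, ?_, ?_, ?_⟩
  · intro h
    apply hz
    have h1 : ((z : Y₂) : A) ∈ Y₂ ⊓ Subgroup.centralizer (Y₂ : Set A) := by
      refine ⟨(z : Y₂).2, Subgroup.mem_centralizer_iff.2 ?_⟩
      intro y hy
      have h2 := Subgroup.mem_center_iff.1 z.2 ⟨y, hy⟩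
      exact congrArg Subtype.val h2
    rw [h, Subgroup.mem_bot] at h1
    exact Subtype.ext (Subtype.ext h1)
  · obtain ⟨k, hk⟩ := IsPGroup.iff_card.1 (hY₂q.to_le (inf_le_left : Y₂ ⊓ Subgroup.centralizer (Y₂ : Set A) ≤ Y₂))
    rw [hk]
    exact Nat.Coprime.pow_left _ ((Nat.coprime_primes hq hp).2 hqp)
  · intro a ha b hb
    exact (Subgroup.mem_centralizer_iff.1 hb.2 a ha.1)
  · intro u hu y hy
    rw [← hP₂eq] at hu
    refine ⟨hP₂Y u hu y hy.1, Subgroup.mem_centralizer_iff.2 ?_⟩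
    intro w hw
    have h1 : u⁻¹ * w * u ∈ Y₂ := by
      have := hP₂Y u⁻¹ (Subgroup.inv_mem _ hu) w hw
      simpa using this
    have h2 := Subgroup.mem_centralizer_iff.1 hy.2 _ h1
    calc w * (u * y * u⁻¹) = u * ((u⁻¹ * w * u) * y) * u⁻¹ := by group
      _ = u * (y * (u⁻¹ * w * u)) * u⁻¹ := by rw [h2]
      _ = u * y * u⁻¹ * w := by group

end Fus
end Agent
end Cfsg
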