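import Cfsg.Agent.Fus.GenExtraSL2
import Cfsg.Agent.Fus.Grp
import Cfsg.Agent.Fus.Chain

/-!
Groups of automorphisms of an abelian group generated by "transvections", with Sylow subgroups of order `p`.
-/

set_option autoImplicit false
namespace Cfsg.Agent.Fus

open Subgroup

theorem mem_zpowers_of_normalizes {X : Type*} [Group X] {p : ℕ} [Fact p.Prime] {A U : Subgroup X} [Finite A]
    (hUA : U ≤ A) (hU : IsSylowIn p U A) (hUcard : Nat.card U = p) {v₁ v₂ : X} (h1 : v₁ ∈ A) (h1' : v₁ ≠ 1)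
    (h1p : v₁ ^ p = 1) (h2 : v₂ ∈ A) (h2p : ∃ k : ℕ, v₂ ^ p ^ k = 1)
    (hn : v₂ * v₁ * v₂⁻¹ ∈ zpowers v₁) : v₂ ∈ zpowers v₁ := by
  have hp : p.Prime := Fact.out
  have hc1 : Nat.card (zpowers v₁) = p := by rw [Nat.card_zpowers, orderOf_eq_prime h1p h1']
  have hK : IsPGroup p (zpowers v₁) := IsPGroup.of_card (n := 1) (by rw [hc1, pow_one])
  have hH : IsPGroup p (zpowers v₂) := by
    obtain ⟨k, hk⟩ := h2p
    obtain ⟨j, -, hj⟩ := (Nat.dvd_prime_pow hp).1 (orderOf_dvd_of_pow_eq_one hk)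
    exact IsPGroup.of_card (n := j) (by rw [Nat.card_zpowers, hj])
  have hfin : Finite (zpowers v₁) := Nat.finite_of_card_ne_zero (by rw [hc1]; exact hp.ne_zero)
  have hmap : (zpowers v₁).map (MulAut.conj v₂).toMonoidHom = zpowers v₁ := by
    apply Subgroup.eq_of_le_of_card_ge
    · rw [MonoidHom.map_zpowers]
      exact zpowers_le.2 hn
    · rw [Subgroup.card_map_of_injective (MulAut.conj v₂).injective]
  have hnorm : zpowers v₂ ≤ normalizer (zpowers v₁ : Set X) := by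
    rw [zpowers_le, mem_normalizer_iff]
    intro x
    constructor
    · intro hx
      rw [← hmap]
      exact ⟨x, hx, rfl⟩
    · intro hx
      rw [← hmap] at hx
      obtain ⟨x', hx', he⟩ := hx
      have : x' = x := (MulAut.conj v₂).injective he
      exact this ▸ hx'
  have hsup := hH.to_sup_of_normal_right' hK hnorm
  have hle : zpowers v₂ ⊔ zpowers v₁ ≤ A := sup_le (zpowers_le.2 h2) (zpowers_le.2 h1)
  have hcard := hU.card_le hUA hle hsup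
  have heq : zpowers v₁ = zpowers v₂ ⊔ zpowers v₁ := by
    have : Finite ↥(zpowers v₂ ⊔ zpowers v₁) :=
      Finite.of_injective (Subgroup.inclusion hle) (inclusion_injective _)
    exact Subgroup.eq_of_le_of_card_ge le_sup_right (by rw [hc1, ← hUcard]; exact hcard)
  rw [heq]
  exact le_sup_left (a := zpowers v₂) (mem_zpowers v₂)

section Tv

variable {M : Type*} [CommGroup M] {p : ℕ}

/-- `v` is a "transvection" with centre `c`. -/
def IsTv (p : ℕ) (v : MulAut M) (c : M) : Prop :=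
  c ≠ 1 ∧ c ^ p = 1 ∧ v c = c ∧ ∀ m, ∃ i : ℤ, v m = m * c ^ i

theorem IsTv.fix_zpow {v : MulAut M} {c : M} (h : IsTv p v c) (i : ℤ) : v (c ^ i) = c ^ i := by
  rw [map_zpow, h.2.2.1]

theorem IsTv.zpow_pow {v : MulAut M} {c : M} (h : IsTv p v c) (i : ℤ) : (c ^ i) ^ p = 1 := by
  rw [← zpow_natCast, ← zpow_mul, mul_comm, zpow_mul, zpow_natCast, h.2.1, one_zpow]

theorem IsTv.pow_eq_one {v : MulAut M} {c : M} (h : IsTv p v c) : v ^ p = 1 := by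
  ext m
  obtain ⟨i, hi⟩ := h.2.2.2 m
  rw [pow_apply_of_fixed v m (c ^ i) hi (h.fix_zpow i) p, h.zpow_pow, mul_one]
  rfl

theorem IsTv.conj {v : MulAut M} {c : M} (h : IsTv p v c) (g : MulAut M) : IsTv p (g * v * g⁻¹) (g c) := by
  refine ⟨fun h1 => h.1 (by simpa using h1), by rw [← map_pow, h.2.1, map_one], ?_, fun m => ?_⟩
  · show g (v (g⁻¹ (g c))) = g c
    rw [MulAut.inv_apply_self, h.2.2.1]
  · obtain ⟨i, hi⟩ := h.2.2.2 (g⁻¹ m)
    refine ⟨i, ?_⟩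
    show g (v (g⁻¹ m)) = _
    rw [hi, map_mul, MulAut.apply_inv_self, map_zpow]

theorem IsTv.comm_same {v v' : MulAut M} {c : M} (h : IsTv p v c) (h' : IsTv p v' c) : v * v' = v' * v := by
  ext m
  obtain ⟨i, hi⟩ := h.2.2.2 m
  obtain ⟨j, hj⟩ := h'.2.2.2 m
  show v (v' m) = v' (v m)
  rw [hi, hj, map_mul, map_mul, hi, hj, h.fix_zpow, h'.fix_zpow]
  ac_rfl

theorem IsTv.of_mem_zpowers [Fact p.Prime] {v v' : MulAut M} {c c' : M} (h : IsTv p v c) (h' : IsTv p v' c')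
    (hne : v' ≠ 1) (hmem : v' ∈ zpowers v) : c' ∈ zpowers c ∧ ∀ m, v m = m → v' m = m := by
  have hp : p.Prime := Fact.out
  have hfo : IsOfFinOrder v := isOfFinOrder_iff_pow_eq_one.2 ⟨p, hp.pos, h.pow_eq_one⟩
  rw [← hfo.mem_powers_iff_mem_zpowers] at hmem
  obtain ⟨n, rfl⟩ := Submonoid.mem_powers_iff _ _ |>.1 hmem
  constructor
  · obtain ⟨m, hm⟩ : ∃ m, (v ^ n) m ≠ m := by
      by_contra hcon
      push Not at hcon
      exact hne (by ext m; exact hcon m)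
    obtain ⟨i, hi⟩ := h'.2.2.2 m
    obtain ⟨j, hj⟩ := h.2.2.2 m
    have h1 := pow_apply_of_fixed v m (c ^ j) hj (h.fix_zpow j) n
    have h2 : c' ^ i = (c ^ j) ^ n := mul_left_cancel (hi.symm.trans h1)
    have h3 : c' ^ i ≠ 1 := by
      intro h4
      rw [h4, mul_one] at hi
      exact hm hi
    have hcard : Nat.card (zpowers c') = p := by rw [Nat.card_zpowers, orderOf_eq_prime h'.2.1 h'.1]
    have h5 : c' ∈ zpowers (c' ^ i) := mem_zpowers_of_card_prime hp hcard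
      (zpow_mem (mem_zpowers _) i) h3 (mem_zpowers _)
    refine (zpowers_le.2 ?_) h5
    rw [h2]
    exact pow_mem (zpow_mem (mem_zpowers _) j) n
  · intro m hm
    have := pow_apply_of_fixed v m 1 (by rw [hm, mul_one]) (map_one _) n
    rwa [one_pow, mul_one] at this

variable [Fact p.Prime] {A U : Subgroup (MulAut M)} [Finite A] (hUA : U ≤ A) (hU : IsSylowIn p U A)
  (hUcard : Nat.card U = p)

include hUA hU hUcard in
theorem IsTv.mem_zpowers_of_fix {v₁ v₂ : MulAut M} {c₁ c₂ : M} (hv1 : v₁ ∈ A) (hv2 : v₂ ∈ A)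
    (h1 : IsTv p v₁ c₁) (h2 : IsTv p v₂ c₂) (hne : v₁ ≠ 1) (hfix : v₂ c₁ = c₁) : v₂ ∈ zpowers v₁ := by
  have h1' : IsTv p (v₂ * v₁ * v₂⁻¹) c₁ := by
    have := h1.conj v₂
    rwa [hfix] at this
  have hcomm := h1'.comm_same h1
  have hA' : v₂ * v₁ * v₂⁻¹ ∈ A := A.mul_mem (A.mul_mem hv2 hv1) (A.inv_mem hv2)
  have h3 : v₂ * v₁ * v₂⁻¹ ∈ zpowers v₁ :=
    mem_zpowers_of_normalizes hUA hU hUcard hv1 hne h1.pow_eq_one hA'
      ⟨1, by rw [pow_one]; exact h1'.pow_eq_one⟩ (by rw [hcomm, mul_inv_cancel_right]; exact mem_zpowers _)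
  exact mem_zpowers_of_normalizes hUA hU hUcard hv1 hne h1.pow_eq_one hv2
    ⟨1, by rw [pow_one]; exact h2.pow_eq_one⟩ h3

include hUA hU hUcard in
theorem IsTv.three {v₁ v₂ v₃ : MulAut M} {c₁ c₂ c₃ : M} (hv1 : v₁ ∈ A) (hv2 : v₂ ∈ A) (hv3 : v₃ ∈ A)
    (h1 : IsTv p v₁ c₁) (h2 : IsTv p v₂ c₂) (h3 : IsTv p v₃ c₃) (hne1 : v₁ ≠ 1) (hne2 : v₂ ≠ 1)
    (hne3 : v₃ ≠ 1) (h12 : v₂ c₁ = c₁ * c₂) :
    c₃ ∈ closure ({c₁, c₂} : Set M) ∧ ∀ m, v₁ m = m → v₂ m = m → v₃ m = m := by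
  have hp : p.Prime := Fact.out
  obtain ⟨a, ha⟩ := h3.2.2.2 c₁
  obtain ⟨b, hb⟩ := h3.2.2.2 c₂
  have hc1W : c₁ ∈ closure ({c₁, c₂} : Set M) := subset_closure (by simp)
  have hc2W : c₂ ∈ closure ({c₁, c₂} : Set M) := subset_closure (by simp)
  by_cases ha1 : c₃ ^ a = 1
  · have := IsTv.mem_zpowers_of_fix hUA hU hUcard hv1 hv3 h1 h3 hne1 (by rw [ha, ha1, mul_one])
    obtain ⟨h4, h5⟩ := h1.of_mem_zpowers h3 hne3 this
    exact ⟨zpowers_le.2 hc1W h4, fun m hm _ => h5 m hm⟩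
  by_cases hb1 : c₃ ^ b = 1
  · have := IsTv.mem_zpowers_of_fix hUA hU hUcard hv2 hv3 h2 h3 hne2 (by rw [hb, hb1, mul_one])
    obtain ⟨h4, h5⟩ := h2.of_mem_zpowers h3 hne3 this
    exact ⟨zpowers_le.2 hc2W h4, fun m _ hm => h5 m hm⟩
  have hcard3 : Nat.card (zpowers c₃) = p := by rw [Nat.card_zpowers, orderOf_eq_prime h3.2.1 h3.1]
  have h6 : (c₃ ^ a)⁻¹ ∈ zpowers (c₃ ^ b) := mem_zpowers_of_card_prime hp hcard3
    (zpow_mem (mem_zpowers _) b) hb1 (inv_mem (zpow_mem (mem_zpowers _) a))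
  have hfo : IsOfFinOrder (c₃ ^ b) := isOfFinOrder_iff_pow_eq_one.2 ⟨p, hp.pos, h3.zpow_pow b⟩
  rw [← hfo.mem_powers_iff_mem_zpowers] at h6
  obtain ⟨k, hk⟩ := Submonoid.mem_powers_iff _ _ |>.1 h6
  set g := v₂ ^ k with hg
  have hg1 : g c₁ = c₁ * c₂ ^ k := pow_apply_of_fixed v₂ c₁ c₂ h12 h2.2.2.1 k
  have h1' := h1.conj g
  have hfix3 : v₃ (g c₁) = g c₁ := by
    rw [hg1, map_mul, map_pow, ha, hb, mul_pow, hk]
    calc c₁ * c₃ ^ a * (c₂ ^ k * (c₃ ^ a)⁻¹) = c₁ * c₂ ^ k * (c₃ ^ a * (c₃ ^ a)⁻¹) := by ac_rfl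
      _ = c₁ * c₂ ^ k := by rw [mul_inv_cancel, mul_one]
  have hgA : g ∈ A := pow_mem hv2 k
  have hne' : g * v₁ * g⁻¹ ≠ 1 := by
    intro h
    apply hne1
    have : v₁ = g⁻¹ * (g * v₁ * g⁻¹) * g := by group
    rw [this, h]
    group
  have := IsTv.mem_zpowers_of_fix hUA hU hUcard (A.mul_mem (A.mul_mem hgA hv1) (A.inv_mem hgA)) hv3 h1' h3
    hne' hfix3
  obtain ⟨h4, h5⟩ := h1'.of_mem_zpowers h3 hne3 this
  refine ⟨zpowers_le.2 (by rw [hg1]; exact mul_mem hc1W (pow_mem hc2W k)) h4, fun m hm1 hm2 => h5 m ?_⟩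
  have hgm : g m = m := by
    have := pow_apply_of_fixed v₂ m 1 (by rw [hm2, mul_one]) (map_one _) k
    rwa [one_pow, mul_one] at this
  have hgm' : g⁻¹ m = m := by
    nth_rewrite 1 [← hgm]
    exact MulAut.inv_apply_self _ _ _
  show g (v₁ (g⁻¹ m)) = m
  rw [hgm', hm1, hgm]

end Tv

end Cfsg.Agent.Fus
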